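import Cfsg.Agent.J4M.Checks
import Cfsg.Agent.J4M.TwoGroup
import Cfsg.Agent.J4.Rep112

/-!
The list of group elements belonging to the list of matrices; membership in `M = ⟨x, y⟩`,
`H = ⟨x, y, c 1⟩` and `R = ⟨x, y, t⟩`.
-/
set_option autoImplicit false

namespace Cfsg.Agent.J4M.Base

open Cfsg.Agent.Lib Cfsg.Agent.Lib.F2MatGroup
open Cfsg.Agent.J4.Rep112 Cfsg.Agent.J4M.DBData Cfsg.Agent.J4M.Derive Cfsg.Agent.J4M.Words
open Cfsg.Agent.J4M.Checks

/-- `GL (112, 2)` -/
abbrev GG := GL (Fin 112) (ZMod 2)

/-- the group elements -/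
noncomputable def gdb : List GG := db.map (gOf 112)

/-- element number `i` -/
noncomputable irreducible_def e (i : ℕ) : GG := getG gdb i

/-- value of a word -/
noncomputable irreducible_def ev (w : List ℕ) : GG := evG gdb w

theorem testBit_lt {m i k : ℕ} (hm : m < 2 ^ k) (h : m.testBit i = true) : i < k := by
  by_contra hk
  have : m.testBit i = false :=
    Nat.testBit_lt_two_pow (lt_of_lt_of_le hm (Nat.pow_le_pow_right (by norm_num) (by omega)))
  rw [this] at h
  exact Bool.false_ne_true h

theorem g0 : get (F2Mat.one 112) db 0 = F2Mat.one 112 := by decide +kernel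
theorem g1 : get (F2Mat.one 112) db 1 = Cfsg.Agent.J4.RepData.X := by decide +kernel
theorem g2 : get (F2Mat.one 112) db 2 = Cfsg.Agent.J4.RepData.Y := by decide +kernel
theorem g3 : get (F2Mat.one 112) db 3 = Cfsg.Agent.J4.RepData.T := by decide +kernel

theorem units : ∀ i, mA.testBit i = true → IsUnit (F2Mat.toMat 112 (get (F2Mat.one 112) db i)) := by
  refine isUnit_of_steps (mask := 15) (ss := msteps ++ tsteps ++ csteps ++ gsteps) ?_ ?_ ?_
  · intro s hs
    simp only [List.mem_append] at hs
    rcases hs with ((hs | hs) | hs) | hs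
    · exact msteps_ok s hs
    · exact tsteps_ok s hs
    · exact csteps_ok s hs
    · exact gsteps_ok s hs
  · intro i hi
    have hi4 : i < 4 := testBit_lt (by norm_num) hi
    interval_cases i
    · rw [g0]; exact isUnit_of_codes (Codes.one 112)
    · rw [g1]; exact isUnit_of_codes cx
    · rw [g2]; exact isUnit_of_codes cy
    · rw [g3]; exact isUnit_of_codes ct
  · decide +kernel

theorem codes_db : List.Forall₂ (Codes 112) gdb db := by
  refine forall₂_gOf fun i hi => units i ?_
  have h1 : mA = 2 ^ 155 - 1 := by decide +kernel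
  have h2 : db.length = 155 := by decide +kernel
  rw [h1, Nat.testBit_two_pow_sub_one]
  rw [h2] at hi
  simpa using hi

theorem codes_e (i : ℕ) : Codes 112 (e i) (get (F2Mat.one 112) db i) := by
  rw [e_def]; exact codes_get codes_db i

theorem codes_ev (w : List ℕ) : Codes 112 (ev w) (evW 112 db w) := by
  rw [ev_def]; exact codes_evW codes_db w

theorem ev_eq {a b : List ℕ} (h : evW 112 db a = evW 112 db b) : ev a = ev b := by
  have h1 := codes_ev a
  have h2 := codes_ev b
  apply Units.ext
  unfold Codes at h1 h2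
  rw [h1, h2, h]

theorem ev_nil : ev [] = 1 := by rw [ev_def, evG_nil]
theorem ev_cons (i : ℕ) (w : List ℕ) : ev (i :: w) = e i * ev w := by
  rw [ev_def, ev_def, e_def, evG_cons]
theorem ev_append (u v : List ℕ) : ev (u ++ v) = ev u * ev v := by
  rw [ev_def, ev_def, ev_def, evG_append]

theorem e_eq {i A : ℕ} {g : GG} (h : get (F2Mat.one 112) db i = A) (hg : Codes 112 g A) :
    e i = g := by
  have h1 := codes_e i
  rw [h] at h1
  exact Units.ext (h1.trans hg.symm)

theorem e0 : e 0 = 1 := e_eq g0 (Codes.one 112)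
theorem e1 : e 1 = xg := e_eq g1 cx
theorem e2 : e 2 = yg := e_eq g2 cy
theorem e3 : e 3 = tg := e_eq g3 ct

theorem mem_of_steps' (K : Subgroup GG) {target mask : ℕ}
    {ss : List Step} (hss : ∀ s ∈ ss, ev s.eq.1 = ev s.eq.2)
    (h0 : ∀ i, mask.testBit i = true → e i ∈ K) (h : closeB target ss mask = true) :
    ∀ i, target.testBit i = true → e i ∈ K := by
  simp only [e_def, ev_def] at *
  exact mem_of_steps K gdb hss h0 h

theorem ev_mem (K : Subgroup GG) {w : List ℕ} (h : ∀ i ∈ w, e i ∈ K) : ev w ∈ K := by
  simp only [e_def, ev_def] at *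
  exact evG_mem K h

/-- the complement -/
noncomputable def M : Subgroup GG := Subgroup.closure {xg, yg}

/-- the subgroup `2^11 : M24` -/
noncomputable def H : Subgroup GG := Subgroup.closure {xg, yg, e 4}

/-- the whole group -/
noncomputable def R : Subgroup GG := rho.range

theorem R_eq : R = Subgroup.closure {xg, yg, tg} := by
  unfold R
  rw [MonoidHom.range_eq_map, ← closure_eq_top, MonoidHom.map_closure]
  congr 1
  rw [Set.image_insert_eq, Set.image_pair, rho_x, rho_y, rho_t]

theorem M_mem : ∀ i, mM.testBit i = true → e i ∈ M := by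
  refine mem_of_steps' M (mask := 7) (ss := msteps) ?_ ?_ ?_
  · intro s hs
    exact ev_eq (msteps_ok s hs)
  · intro i hi
    have hi4 : i < 3 := testBit_lt (by norm_num) hi
    interval_cases i
    · rw [e0]; exact M.one_mem
    · rw [e1]; exact Subgroup.subset_closure (by simp)
    · rw [e2]; exact Subgroup.subset_closure (by simp)
  · decide +kernel

theorem M_le_H : M ≤ H := Subgroup.closure_mono (by
  rintro a (rfl | rfl)
  · simp
  · simp)

theorem H_mem : ∀ i, mH.testBit i = true → e i ∈ H := by
  refine mem_of_steps' H (mask := mM ||| (1 <<< 4)) (ss := csteps) ?_ ?_ ?_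
  · intro s hs
    exact ev_eq (csteps_ok s hs)
  · intro i hi
    rw [Nat.testBit_or, Nat.one_shiftLeft, Nat.testBit_two_pow] at hi
    rcases Bool.or_eq_true _ _ |>.mp hi with h | h
    · exact M_le_H (M_mem i h)
    · have : (4 : ℕ) = i := by simpa using h
      rw [← this]
      exact Subgroup.subset_closure (by simp)
  · decide +kernel

theorem R_mem : ∀ i, mA.testBit i = true → e i ∈ R := by
  refine mem_of_steps' R (mask := 15) (ss := msteps ++ tsteps ++ csteps ++ gsteps) ?_ ?_ ?_
  · intro s hs
    simp only [List.mem_append] at hs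
    rcases hs with ((hs | hs) | hs) | hs
    · exact ev_eq (msteps_ok s hs)
    · exact ev_eq (tsteps_ok s hs)
    · exact ev_eq (csteps_ok s hs)
    · exact ev_eq (gsteps_ok s hs)
  · intro i hi
    have hi4 : i < 4 := testBit_lt (by norm_num) hi
    rw [R_eq]
    interval_cases i
    · rw [e0]; exact Subgroup.one_mem _
    · rw [e1]; exact Subgroup.subset_closure (by simp)
    · rw [e2]; exact Subgroup.subset_closure (by simp)
    · rw [e3]; exact Subgroup.subset_closure (by simp)
  · decide +kernel

theorem ev_mem_M {w : List ℕ} (h : allIn mM w = true) : ev w ∈ M :=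
  ev_mem M fun i hi => M_mem i (allIn_sound h i hi)

theorem ev_mem_H {w : List ℕ} (h : allIn mH w = true) : ev w ∈ H :=
  ev_mem H fun i hi => H_mem i (allIn_sound h i hi)

theorem ev_mem_R {w : List ℕ} (h : allIn mA w = true) : ev w ∈ R :=
  ev_mem R fun i hi => R_mem i (allIn_sound h i hi)

theorem H_le_R : H ≤ R := by
  unfold H
  rw [Subgroup.closure_le]
  rintro a (rfl | rfl | rfl)
  · rw [← e1]; exact R_mem 1 (by decide +kernel)
  · rw [← e2]; exact R_mem 2 (by decide +kernel)
  · exact R_mem 4 (by decide +kernel)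

theorem tg_mem : tg ∈ R := by rw [← e3]; exact R_mem 3 (by decide +kernel)

theorem tg_sq : tg * tg = 1 := by
  have := rel8
  rwa [pow_two] at this

theorem R_eq_sup : R = H ⊔ Subgroup.closure {tg} := by
  apply le_antisymm
  · rw [R_eq, Subgroup.closure_le]
    rintro a (rfl | rfl | rfl)
    · exact Subgroup.mem_sup_left (Subgroup.subset_closure (by simp))
    · exact Subgroup.mem_sup_left (Subgroup.subset_closure (by simp))
    · exact Subgroup.mem_sup_right (Subgroup.subset_closure (by simp))
  · refine sup_le H_le_R ?_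
    rw [Subgroup.closure_le]
    rintro a rfl
    exact tg_mem

end Cfsg.Agent.J4M.Base
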