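import Mathlib

/-!
Abstract group theory for certificates by double cosets.
-/
set_option autoImplicit false

namespace Cfsg.Agent.J4M.Abstract

/-- A group generated by `H` and an involution `t` is the union of the double cosets `H g_i H`,
if this union is closed under left multiplication by `t`. -/
theorem decomp_of_closed {G ι : Type*} [Group G] (H : Subgroup G) (t : G) (ht : t * t = 1)
    (g : ι → G) (i0 : ι) (hg0 : g i0 = 1)
    (hcl : ∀ i, ∀ h ∈ H, ∃ k, ∃ a ∈ H, ∃ b ∈ H, t * h * g i = a * g k * b) :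
    ∀ x ∈ H ⊔ Subgroup.closure {t}, ∃ i, ∃ a ∈ H, ∃ b ∈ H, x = a * g i * b := by
  intro x hx
  have hx' : x ∈ Subgroup.closure ((H : Set G) ∪ {t}) := by
    rwa [Subgroup.closure_union, Subgroup.closure_eq]
  have htinv : t⁻¹ = t := inv_eq_of_mul_eq_one_left ht
  induction hx' using Subgroup.closure_induction_left with
  | one => exact ⟨i0, 1, H.one_mem, 1, H.one_mem, by rw [hg0]; simp⟩
  | mul_left s hs y _ ih =>
    have hy : y ∈ H ⊔ Subgroup.closure {t} := by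
      have : y ∈ Subgroup.closure ((H : Set G) ∪ {t}) := by assumption
      rwa [Subgroup.closure_union, Subgroup.closure_eq] at this
    obtain ⟨i, a, ha, b, hb, rfl⟩ := ih hy
    rcases hs with hs | hs
    · exact ⟨i, s * a, H.mul_mem hs ha, b, hb, by simp only [mul_assoc]⟩
    · obtain rfl : s = t := hs
      obtain ⟨k, c, hc, d, hd, e⟩ := hcl i a ha
      exact ⟨k, c, hc, d * b, H.mul_mem hd hb, by
        calc s * (a * g i * b) = (s * a * g i) * b := by simp only [mul_assoc]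
          _ = _ := by rw [e]; simp only [mul_assoc]⟩
  | inv_mul_cancel s hs y _ ih =>
    have hy : y ∈ H ⊔ Subgroup.closure {t} := by
      have : y ∈ Subgroup.closure ((H : Set G) ∪ {t}) := by assumption
      rwa [Subgroup.closure_union, Subgroup.closure_eq] at this
    obtain ⟨i, a, ha, b, hb, rfl⟩ := ih hy
    rcases hs with hs | hs
    · exact ⟨i, s⁻¹ * a, H.mul_mem (H.inv_mem hs) ha, b, hb, by simp only [mul_assoc]⟩
    · obtain rfl : s = t := hs
      rw [htinv]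
      obtain ⟨k, c, hc, d, hd, e⟩ := hcl i a ha
      exact ⟨k, c, hc, d * b, H.mul_mem hd hb, by
        calc s * (a * g i * b) = (s * a * g i) * b := by simp only [mul_assoc]
          _ = _ := by rw [e]; simp only [mul_assoc]⟩

/-- The closure condition of `decomp_of_closed` from finitely many relations. -/
theorem closed_of_reps {G ι : Type*} [Group G] (H : Subgroup G) (t : G) (ht : t * t = 1)
    (g : ι → G) (K : Subgroup G) (hKt : ∀ k ∈ K, t * k * t ∈ H)
    (B : ι → Subgroup G) (hB : ∀ i, ∀ b ∈ B i, (g i)⁻¹ * b * g i ∈ H)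
    (reps : ι → Set G) (hcover : ∀ i, ∀ h ∈ H, ∃ r ∈ reps i, ∃ k ∈ K, ∃ b ∈ B i, h = k * r * b)
    (hdc : ∀ i, ∀ r ∈ reps i, ∃ k, ∃ a ∈ H, ∃ b ∈ H, t * r * g i = a * g k * b) :
    ∀ i, ∀ h ∈ H, ∃ k, ∃ a ∈ H, ∃ b ∈ H, t * h * g i = a * g k * b := by
  intro i h hh
  obtain ⟨r, hr, k, hk, b, hb, rfl⟩ := hcover i h hh
  obtain ⟨j, a, ha, c, hc, e⟩ := hdc i r hr
  refine ⟨j, t * k * t * a, H.mul_mem (hKt k hk) ha, c * ((g i)⁻¹ * b * g i),
    H.mul_mem hc (hB i b hb), ?_⟩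
  calc t * (k * r * b) * g i = t * k * (t * t) * r * b * g i := by rw [ht]; simp only [mul_assoc, one_mul]
    _ = t * k * t * (t * r * g i) * ((g i)⁻¹ * b * g i) := by simp only [mul_assoc, mul_inv_cancel_left]
    _ = _ := by rw [e]; simp only [mul_assoc]

section Act

variable {G V : Type*} [Group G] (act : V → G → V)

/-- covering of `H` by the representatives, from the action on the `H`-orbit of `p` -/
theorem cover_of_orbit (act_mul : ∀ v g h, act v (g * h) = act (act v g) h)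
    (act_one : ∀ v, act v 1 = v) (H K B : Subgroup G) (hBH : B ≤ H) (reps : Set G)
    (hreps : ∀ r ∈ reps, r ∈ H) (p : V) (N : ℕ) (γ : ℕ → V)
    (hcl : ∀ h ∈ H, ∃ m < N, act p h = γ m)
    (hK : ∀ h ∈ H, act p h = p → h ∈ K)
    (hreach : ∀ n < N, ∃ r ∈ reps, ∃ b ∈ B, γ n = act p (r * b)) :
    ∀ h ∈ H, ∃ r ∈ reps, ∃ k ∈ K, ∃ b ∈ B, h = k * r * b := by
  intro h hh
  obtain ⟨m, hm, e⟩ := hcl h hh
  obtain ⟨r, hr, b, hb, e2⟩ := hreach m hm
  refine ⟨r, hr, h * (r * b)⁻¹, ?_, b, hb, by group⟩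
  apply hK
  · exact H.mul_mem hh (H.inv_mem (H.mul_mem (hreps r hr) (hBH hb)))
  · rw [act_mul, e, e2, ← act_mul, mul_inv_cancel, act_one]

/-- the stabiliser of `p` in `H` is `K`, by counting -/
theorem stab_eq_of_card [Finite G] (act_mul : ∀ v g h, act v (g * h) = act (act v g) h)
    (act_one : ∀ v, act v 1 = v) (H K : Subgroup G) (hKH : K ≤ H) (p : V)
    (hKp : ∀ k ∈ K, act p k = p) (N : ℕ) (γ : ℕ → V)
    (hinj : ∀ m < N, ∀ n < N, γ m = γ n → m = n)
    (hreach : ∀ n < N, ∃ h ∈ H, γ n = act p h)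
    (hcard : Nat.card H ≤ N * Nat.card K) :
    ∀ h ∈ H, act p h = p → h ∈ K := by
  let K1 : Subgroup G :=
    { carrier := {h | h ∈ H ∧ act p h = p}
      one_mem' := ⟨H.one_mem, act_one p⟩
      mul_mem' := fun {a b} ha hb => ⟨H.mul_mem ha.1 hb.1, by rw [act_mul, ha.2, hb.2]⟩
      inv_mem' := fun {a} ha => ⟨H.inv_mem ha.1, by
        have : act (act p a) a⁻¹ = p := by rw [← act_mul, mul_inv_cancel, act_one]
        rwa [ha.2] at this⟩ }
  have hle : K ≤ K1 := fun k hk => ⟨hKH hk, hKp k hk⟩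
  have h1 : ∀ n : Fin N, ∃ h ∈ H, γ n = act p h := fun n => hreach n n.2
  choose u hu hu2 using h1
  have hcount : Nat.card (K1 × Fin N) ≤ Nat.card H := by
    apply Nat.card_le_card_of_injective
      (fun x : K1 × Fin N => (⟨(x.1 : G) * u x.2, H.mul_mem x.1.2.1 (hu x.2)⟩ : H))
    rintro ⟨⟨a, ha⟩, m⟩ ⟨⟨b, hb⟩, n⟩ hab
    have hab' : a * u m = b * u n := congrArg Subtype.val hab
    have e : act p (a * u m) = act p (b * u n) := by rw [hab']
    rw [act_mul, act_mul, ha.2, hb.2, ← hu2, ← hu2] at e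
    have hmn : m = n := Fin.ext (hinj m m.2 n n.2 e)
    subst hmn
    have : a = b := mul_right_cancel hab'
    subst this
    rfl
  have h2 : Nat.card (K1 × Fin N) = Nat.card K1 * N := by
    rw [Nat.card_prod, Nat.card_eq_fintype_card (α := Fin N), Fintype.card_fin]
  by_cases hN : N = 0
  · subst hN
    have := Nat.card_pos (α := H)
    omega
  have h3 : Nat.card K1 ≤ Nat.card K := by
    rw [h2] at hcount
    have : Nat.card K1 * N ≤ Nat.card K * N := by
      calc _ ≤ _ := hcount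
        _ ≤ _ := by rw [Nat.mul_comm]; exact hcard
    exact Nat.le_of_mul_le_mul_right this (Nat.pos_of_ne_zero hN)
  have h4 : K = K1 := Subgroup.eq_of_le_of_card_ge hle h3
  intro h hh hp
  rw [h4]
  exact ⟨hh, hp⟩

/-- closure of a finite set of vectors under a group, from generators -/
theorem closed_of_gens [Finite G] (act_mul : ∀ v g h, act v (g * h) = act (act v g) h)
    (act_one : ∀ v, act v 1 = v) (S : Set G) (N : ℕ) (γ : ℕ → V)
    (h : ∀ s ∈ S, ∀ n < N, ∃ m < N, act (γ n) s = γ m) :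
    ∀ x ∈ Subgroup.closure S, ∀ n < N, ∃ m < N, act (γ n) x = γ m := by
  intro x hx
  rw [← Subgroup.mem_toSubmonoid, Subgroup.closure_toSubmonoid_of_finite] at hx
  induction hx using Submonoid.closure_induction with
  | mem s hs => exact h s hs
  | one => intro n hn; exact ⟨n, hn, act_one _⟩
  | mul a b _ _ iha ihb =>
    intro n hn
    obtain ⟨m, hm, e⟩ := iha n hn
    obtain ⟨l, hl, e2⟩ := ihb m hm
    exact ⟨l, hl, by rw [act_mul, e, e2]⟩

/-- covering of `H` by the representatives, by counting -/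
theorem cover_of_count [Finite G] (act_mul : ∀ v g h, act v (g * h) = act (act v g) h)
    (H K B : Subgroup G) (hKH : K ≤ H) (hBH : B ≤ H) (reps : Set G)
    (hreps : ∀ r ∈ reps, r ∈ H) (p : V) (hKp : ∀ k ∈ K, act p k = p) (N : ℕ) (γ : ℕ → V)
    (hinj : ∀ m < N, ∀ n < N, γ m = γ n → m = n)
    (hreach : ∀ n < N, ∃ r ∈ reps, ∃ b ∈ B, γ n = act p (r * b))
    (hcard : Nat.card H ≤ Nat.card K * N) :
    ∀ h ∈ H, ∃ r ∈ reps, ∃ k ∈ K, ∃ b ∈ B, h = k * r * b := by
  have h1 : ∀ n : Fin N, ∃ x : G × G, x.1 ∈ reps ∧ x.2 ∈ B ∧ γ n = act p (x.1 * x.2) := by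
    intro n
    obtain ⟨r, hr, b, hb, e⟩ := hreach n n.2
    exact ⟨(r, b), hr, hb, e⟩
  choose u hu1 hu2 hu3 using h1
  let f : K × Fin N → H := fun x => ⟨(x.1 : G) * ((u x.2).1 * (u x.2).2),
    H.mul_mem (hKH x.1.2) (H.mul_mem (hreps _ (hu1 x.2)) (hBH (hu2 x.2)))⟩
  have hf : Function.Injective f := by
    rintro ⟨⟨a, ha⟩, m⟩ ⟨⟨b, hb⟩, n⟩ hab
    have hab' : a * ((u m).1 * (u m).2) = b * ((u n).1 * (u n).2) := congrArg Subtype.val hab
    have e : act p (a * ((u m).1 * (u m).2)) = act p (b * ((u n).1 * (u n).2)) := by rw [hab']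
    rw [act_mul p a, act_mul p b, hKp a ha, hKp b hb, ← hu3, ← hu3] at e
    have hmn : m = n := Fin.ext (hinj m m.2 n n.2 e)
    subst hmn
    have : a = b := mul_right_cancel hab'
    subst this
    rfl
  have hc : Nat.card (K × Fin N) = Nat.card K * N := by
    rw [Nat.card_prod, Nat.card_eq_fintype_card (α := Fin N), Fintype.card_fin]
  have hbij : Function.Bijective f := by
    rw [Nat.bijective_iff_injective_and_card]
    refine ⟨hf, le_antisymm (Nat.card_le_card_of_injective f hf) ?_⟩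
    rw [hc]; exact hcard
  intro h hh
  obtain ⟨⟨k, n⟩, e⟩ := hbij.2 ⟨h, hh⟩
  have e' : (k : G) * ((u n).1 * (u n).2) = h := congrArg Subtype.val e
  exact ⟨(u n).1, hu1 n, k, k.2, (u n).2, hu2 n, by rw [← e', mul_assoc]⟩

end Act

/-! ### Orders -/

/-- elements congruent modulo `Q` to generators of a subgroup meeting `Q` trivially generate a
group which is at least as large -/
theorem card_closure_le_of_mod {G : Type*} [Group G] [Finite G] (Q M : Subgroup G)
    (hQM : Q ⊓ M = ⊥) {b₁ b₂ m₁ m₂ : G}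
    (hb₁ : b₁ ∈ Subgroup.normalizer (Q : Set G)) (hb₂ : b₂ ∈ Subgroup.normalizer (Q : Set G))
    (hm₁ : m₁ ∈ M) (hm₂ : m₂ ∈ M) (h₁ : b₁ * m₁⁻¹ ∈ Q) (h₂ : b₂ * m₂⁻¹ ∈ Q) :
    Nat.card (Subgroup.closure {m₁, m₂}) ≤ Nat.card (Subgroup.closure {b₁, b₂}) := by
  have hmn : ∀ {b m : G}, b ∈ Subgroup.normalizer (Q : Set G) → b * m⁻¹ ∈ Q →
      m ∈ Subgroup.normalizer (Q : Set G) := by
    intro b m hb h
    have h3 : b * m⁻¹ ∈ Subgroup.normalizer (Q : Set G) := Subgroup.le_normalizer h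
    have h4 : m = (b * m⁻¹)⁻¹ * b := by group
    rw [h4]
    exact Subgroup.mul_mem _ (Subgroup.inv_mem _ h3) hb
  have key : ∀ x ∈ Subgroup.closure {m₁, m₂}, ∃ y ∈ Subgroup.closure {b₁, b₂},
      y ∈ Subgroup.normalizer (Q : Set G) ∧ y * x⁻¹ ∈ Q := by
    intro x hx
    induction hx using Subgroup.closure_induction with
    | mem x hx =>
      rcases hx with rfl | rfl
      · exact ⟨b₁, Subgroup.subset_closure (by simp), hb₁, h₁⟩
      · exact ⟨b₂, Subgroup.subset_closure (by simp), hb₂, h₂⟩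
    | one => exact ⟨1, Subgroup.one_mem _, Subgroup.one_mem _, by simp [Q.one_mem]⟩
    | mul x x' _ _ hx hx' =>
      obtain ⟨y, hy, hyn, hyx⟩ := hx
      obtain ⟨y', hy', hyn', hyx'⟩ := hx'
      refine ⟨y * y', Subgroup.mul_mem _ hy hy', Subgroup.mul_mem _ hyn hyn', ?_⟩
      have hxn := hmn hyn hyx
      have h5 : y * (y' * x'⁻¹) * y⁻¹ ∈ Q := (Subgroup.mem_normalizer_iff.mp hyn _).mp hyx'
      have h6 : y * y' * (x * x')⁻¹ = (y * (y' * x'⁻¹) * y⁻¹) * (y * x⁻¹) := by group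
      rw [h6]
      exact Q.mul_mem h5 hyx
    | inv x _ hx =>
      obtain ⟨y, hy, hyn, hyx⟩ := hx
      refine ⟨y⁻¹, Subgroup.inv_mem _ hy, Subgroup.inv_mem _ hyn, ?_⟩
      have h5 : y⁻¹ * (y * x⁻¹)⁻¹ * y⁻¹⁻¹ ∈ Q :=
        (Subgroup.mem_normalizer_iff.mp (Subgroup.inv_mem _ hyn) _).mp (Q.inv_mem hyx)
      have h6 : y⁻¹ * x⁻¹⁻¹ = y⁻¹ * (y * x⁻¹)⁻¹ * y⁻¹⁻¹ := by group
      rw [h6]; exact h5
  have hMle : Subgroup.closure {m₁, m₂} ≤ M := by
    rw [Subgroup.closure_le]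
    rintro a (rfl | rfl)
    · exact hm₁
    · exact hm₂
  have key' : ∀ x : Subgroup.closure {m₁, m₂}, ∃ y : Subgroup.closure {b₁, b₂},
      (y : G) * (x : G)⁻¹ ∈ Q := by
    intro x
    obtain ⟨y, hy, _, hyx⟩ := key x x.2
    exact ⟨⟨y, hy⟩, hyx⟩
  choose f hf using key'
  apply Nat.card_le_card_of_injective f
  intro x x' hxx
  have h1 := hf x
  have h2 := hf x'
  rw [← hxx] at h2
  have h3 : (x : G) * (x' : G)⁻¹ ∈ Q ⊓ M := by
    refine ⟨?_, M.mul_mem (hMle x.2) (M.inv_mem (hMle x'.2))⟩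
    have h4 : (x : G) * (x' : G)⁻¹ = ((f x : G) * (x : G)⁻¹)⁻¹ * ((f x : G) * (x' : G)⁻¹) := by group
    rw [h4]
    exact Q.mul_mem (Q.inv_mem h1) h2
  rw [hQM, Subgroup.mem_bot] at h3
  exact Subtype.ext (mul_inv_eq_one.mp h3)

/-- bound for the order of a union of double cosets `H g_i H` -/
theorem card_le_of_decomp {G ι : Type*} [Group G] [Finite G] [Fintype ι] (H R : Subgroup G)
    (g : ι → G) (B : ι → Subgroup G)
    (hB : ∀ i, ∀ b ∈ B i, (g i)⁻¹ * b * g i ∈ H)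
    (hdec : ∀ x ∈ R, ∃ i, ∃ a ∈ H, ∃ b ∈ H, x = a * g i * b) :
    Nat.card R ≤ ∑ i, (B i).relIndex H * Nat.card H := by
  have key : ∀ x : R, ∃ i, ∃ c : H ⧸ ((B i).subgroupOf H), ∃ b : H,
      (x : G) = (c.out : G) * g i * b := by
    intro x
    obtain ⟨i, a, ha, b, hb, e⟩ := hdec x x.2
    let c : H ⧸ ((B i).subgroupOf H) := (QuotientGroup.mk (⟨a, ha⟩ : H))
    have h1 : (c.out)⁻¹ * (⟨a, ha⟩ : H) ∈ (B i).subgroupOf H := by
      rw [← QuotientGroup.eq, QuotientGroup.out_eq']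
    have h2 : ((c.out)⁻¹ * (⟨a, ha⟩ : H) : H).1 ∈ B i := h1
    have h3 := hB i _ h2
    refine ⟨i, c, ⟨_, H.mul_mem h3 hb⟩, ?_⟩
    rw [e]
    show a * g i * b = (c.out : G) * g i * ((g i)⁻¹ * ((c.out : G)⁻¹ * a) * g i * b)
    group
  choose fi fc fb hf using key
  have hinj : Function.Injective (fun x : R => (⟨fi x, (fc x, fb x)⟩ :
      Σ i, (H ⧸ ((B i).subgroupOf H)) × H)) := by
    intro x y hxy
    apply Subtype.ext
    have h1 : fi x = fi y := congrArg Sigma.fst hxy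
    have h2 : (⟨fi x, (fc x, fb x)⟩ : Σ i, (H ⧸ ((B i).subgroupOf H)) × H) =
        ⟨fi y, (fc y, fb y)⟩ := hxy
    have h3 : (fun s : Σ i, (H ⧸ ((B i).subgroupOf H)) × H =>
        (s.2.1.out : G) * g s.1 * s.2.2) ⟨fi x, (fc x, fb x)⟩ =
      (fun s : Σ i, (H ⧸ ((B i).subgroupOf H)) × H =>
        (s.2.1.out : G) * g s.1 * s.2.2) ⟨fi y, (fc y, fb y)⟩ := by rw [h2]
    rw [hf x, hf y]
    exact h3
  refine (Nat.card_le_card_of_injective _ hinj).trans ?_
  rw [Nat.card_sigma]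
  apply Finset.sum_le_sum
  intro i _
  rw [Nat.card_prod]
  exact le_rfl

end Cfsg.Agent.J4M.Abstract
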