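import Mathlib

/-!
Kernel-fast matrices over `ZMod 2`: an `N × n` matrix is ONE natural number, entry `(i,j)` is bit `n*i+j`.
The product of an `N × n` by an `n × n` matrix takes `n` steps of big-number operations.
-/
set_option autoImplicit false

namespace Cfsg.Agent.J4M.BitMat

/-- digits: `∑_{i<N} f i * 2^(n*i)` -/
def dig (n : ℕ) (f : ℕ → ℕ) : ℕ → ℕ
  | 0 => 0
  | N + 1 => 2 ^ (n * N) * f N + dig n f N

theorem dig_lt (n : ℕ) (f : ℕ → ℕ) (hf : ∀ i, f i < 2 ^ n) : ∀ N, dig n f N < 2 ^ (n * N)
  | 0 => by simp [dig]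
  | N + 1 => by
    have h := dig_lt n f hf N
    have h1 := hf N
    have e : 2 ^ (n * (N + 1)) = 2 ^ (n * N) * 2 ^ n := by rw [← pow_add]; congr 1
    rw [dig, e]
    calc 2 ^ (n * N) * f N + dig n f N < 2 ^ (n * N) * f N + 2 ^ (n * N) := by omega
      _ = 2 ^ (n * N) * (f N + 1) := by ring
      _ ≤ 2 ^ (n * N) * 2 ^ n := Nat.mul_le_mul_left _ h1

theorem testBit_dig (n : ℕ) (hn : 0 < n) (f : ℕ → ℕ) (hf : ∀ i, f i < 2 ^ n) :
    ∀ N p, (dig n f N).testBit p = (decide (p < n * N) && (f (p / n)).testBit (p % n))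
  | 0, p => by simp [dig]
  | N + 1, p => by
    rw [dig, Nat.testBit_two_pow_mul_add _ (dig_lt n f hf N), testBit_dig n hn f hf N p]
    by_cases h : p < n * N
    · have h2 : p < n * (N + 1) := by rw [Nat.mul_succ]; omega
      simp [h, h2]
    · have hq : n * N ≤ p := by omega
      by_cases h2 : p < n * (N + 1)
      · have e1 : p / n = N := by
          apply Nat.div_eq_of_lt_le
          · rw [Nat.mul_comm]; exact hq
          · rw [Nat.mul_comm]; exact h2
        have e2 : p % n = p - n * N := by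
          rw [Nat.mod_eq_sub_mul_div, e1]
        simp [h, h2, e1, e2]
      · have : (f N).testBit (p - n * N) = false := by
          apply Nat.testBit_lt_two_pow
          apply lt_of_lt_of_le (hf N)
          apply Nat.pow_le_pow_right (by norm_num)
          have := Nat.mul_succ n N
          simp only [Nat.succ_eq_add_one] at this
          omega
        simp [h, h2, this]

theorem dig_mul (n : ℕ) (f : ℕ → ℕ) (r : ℕ) : ∀ N, dig n f N * r = dig n (fun i => f i * r) N
  | 0 => by simp [dig]
  | N + 1 => by rw [dig, dig, add_mul, dig_mul n f r N, mul_assoc]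

theorem dig_congr (n : ℕ) (f g : ℕ → ℕ) : ∀ N, (∀ i < N, f i = g i) → dig n f N = dig n g N
  | 0, _ => rfl
  | N + 1, h => by
    rw [dig, dig, h N (Nat.lt_succ_self N), dig_congr n f g N (fun i hi => h i (by omega))]

/-- `∑_{i<N} 2^(n*i)` in closed form. -/
def cmask (n N : ℕ) : ℕ := Nat.div (Nat.sub (Nat.pow 2 (Nat.mul n N)) 1) (Nat.sub (Nat.pow 2 n) 1)

theorem dig_one_mul (n : ℕ) : ∀ N, dig n (fun _ => 1) N * (2 ^ n - 1) + 1 = 2 ^ (n * N)
  | 0 => by simp [dig]
  | N + 1 => by
    have ih := dig_one_mul n N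
    have e : 2 ^ (n * (N + 1)) = 2 ^ (n * N) * 2 ^ n := by rw [← pow_add]; congr 1
    have h1 : 1 ≤ 2 ^ n := Nat.one_le_two_pow
    rw [dig, e, add_mul, mul_one]
    obtain ⟨k, hk⟩ := Nat.exists_eq_add_of_le h1
    rw [hk] at ih ⊢
    simp only [Nat.add_sub_cancel_left] at ih ⊢
    rw [add_assoc, ih]
    ring

theorem cmask_eq (n : ℕ) (hn : 0 < n) (N : ℕ) : cmask n N = dig n (fun _ => 1) N := by
  have h := dig_one_mul n N
  have h2 : 0 < 2 ^ n - 1 := by
    have : 2 ^ 1 ≤ 2 ^ n := Nat.pow_le_pow_right (by norm_num) hn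
    omega
  show (2 ^ (n * N) - 1) / (2 ^ n - 1) = _
  rw [← h, Nat.add_sub_cancel, Nat.mul_div_cancel _ h2]

/-- one step of the product: column `k` of `A` times row `k` of `B` -/
def term (n A B C R k : ℕ) : ℕ :=
  Nat.land (Nat.mul (Nat.land (Nat.shiftRight A k) C) R)
    (Nat.mul (Nat.land (Nat.shiftRight B (Nat.mul n k)) R) C)

theorem testBit_term (n : ℕ) (hn : 0 < n) (N A B k p : ℕ) :
    (term n A B (dig n (fun _ => 1) N) (2 ^ n - 1) k).testBit p =
      (decide (p < n * N) && (A.testBit (n * (p / n) + k) && B.testBit (n * k + p % n))) := by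
  have hpow : 1 < 2 ^ n := Nat.one_lt_two_pow (by omega)
  have hmod : p % n < n := Nat.mod_lt _ hn
  have h1 : ∀ q, (1 : ℕ).testBit q = decide (q = 0) := by
    intro q
    cases q with
    | zero => simp
    | succ q => simp [Nat.testBit_succ]
  have hC : ∀ q, (dig n (fun _ => 1) N).testBit q = (decide (q < n * N) && decide (q % n = 0)) := by
    intro q
    rw [testBit_dig n hn _ (fun _ => hpow), h1]
  have hA : ∀ X : ℕ, X &&& (dig n (fun _ => 1) N) = dig n (fun i => (X.testBit (n * i)).toNat) N := by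
    intro X
    apply Nat.eq_of_testBit_eq
    intro q
    have hf : ∀ i, (X.testBit (n * i)).toNat < 2 ^ n := fun i =>
      lt_of_le_of_lt (Bool.toNat_le _) hpow
    rw [Nat.testBit_and, hC, testBit_dig n hn _ hf]
    by_cases hq : q % n = 0
    · have e : n * (q / n) = q := by
        have := Nat.div_add_mod q n
        omega
      simp only [e, hq, decide_true, Bool.and_true]
      cases X.testBit q <;> simp
    · have : ∀ b : Bool, (b.toNat).testBit (q % n) = false := by
        intro b
        cases b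
        · simp
        · simp [h1, hq]
      simp [hq, this]
  have hR : ∀ q, (2 ^ n - 1 : ℕ).testBit q = decide (q < n) := by
    intro q; exact Nat.testBit_two_pow_sub_one n q
  have e1 : (Nat.mul (Nat.land (Nat.shiftRight A k) (dig n (fun _ => 1) N)) (2 ^ n - 1)).testBit p =
      (decide (p < n * N) && A.testBit (n * (p / n) + k)) := by
    show ((((A >>> k) &&& (dig n (fun _ => 1) N)) * (2 ^ n - 1)).testBit p) = _
    rw [hA, dig_mul, testBit_dig n hn]
    · congr 1
      rw [Nat.testBit_shiftRight, Nat.add_comm k]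
      cases A.testBit (n * (p / n) + k)
      · simp
      · simp [hR, hmod]
    · intro i
      have := Bool.toNat_le ((A >>> k).testBit (n * i))
      have h2 : (2 ^ n - 1) < 2 ^ n := by omega
      calc _ ≤ 1 * (2 ^ n - 1) := Nat.mul_le_mul_right _ this
        _ < 2 ^ n := by omega
  have e2 : (Nat.mul (Nat.land (Nat.shiftRight B (Nat.mul n k)) (2 ^ n - 1)) (dig n (fun _ => 1) N)).testBit p =
      (decide (p < n * N) && B.testBit (n * k + p % n)) := by
    show ((((B >>> (n * k)) &&& (2 ^ n - 1)) * (dig n (fun _ => 1) N)).testBit p) = _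
    have hlt : ((B >>> (n * k)) &&& (2 ^ n - 1)) < 2 ^ n := by
      rw [Nat.and_two_pow_sub_one_eq_mod]
      exact Nat.mod_lt _ (by positivity)
    rw [Nat.mul_comm, dig_mul, testBit_dig n hn]
    · congr 1
      rw [one_mul, Nat.testBit_and, Nat.testBit_shiftRight, hR]
      simp [hmod]
    · intro i; simpa using hlt
  show (_ &&& _ : ℕ).testBit p = _
  rw [Nat.testBit_and, e1, e2]
  cases decide (p < n * N) <;> simp

/-- accumulate `k` terms -/
def mulR (n A B C R : ℕ) (k : ℕ) : ℕ :=
  Nat.rec (motive := fun _ => ℕ) 0 (fun k acc => Nat.xor acc (term n A B C R k)) k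

/-- product of an `N × n` matrix by an `n × n` matrix (as natural numbers) -/
def bmul (N n A B : ℕ) : ℕ := mulR n A B (cmask n N) (Nat.sub (Nat.pow 2 n) 1) n

/-- Bool to `ZMod 2` -/
def bz (b : Bool) : ZMod 2 := cond b 1 0

theorem bz_xor (a b : Bool) : bz (a ^^ b) = bz a + bz b := by
  cases a <;> cases b <;> decide

theorem bz_and (a b : Bool) : bz (a && b) = bz a * bz b := by
  cases a <;> cases b <;> decide

theorem bz_inj {a b : Bool} (h : bz a = bz b) : a = b := by
  cases a <;> cases b <;> first | rfl | (exfalso; revert h; decide)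

/-- the matrix coded by a natural number -/
def toMat (N n : ℕ) (A : ℕ) : Matrix (Fin N) (Fin n) (ZMod 2) :=
  fun i j => bz (A.testBit (n * i + j))

theorem bz_mulR (n : ℕ) (hn : 0 < n) (N A B : ℕ) (i j : ℕ) (hi : i < N) (hj : j < n) :
    ∀ k, bz ((mulR n A B (dig n (fun _ => 1) N) (2 ^ n - 1) k).testBit (n * i + j)) =
      ∑ l ∈ Finset.range k, bz (A.testBit (n * i + l)) * bz (B.testBit (n * l + j))
  | 0 => by simp [mulR, bz]
  | k + 1 => by
    have ih := bz_mulR n hn N A B i j hi hj k
    have hp : n * i + j < n * N := by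
      calc n * i + j < n * i + n := by omega
        _ = n * (i + 1) := by ring
        _ ≤ n * N := Nat.mul_le_mul_left _ hi
    have hdiv : (n * i + j) / n = i := by
      rw [Nat.mul_add_div hn, Nat.div_eq_of_lt hj, Nat.add_zero]
    have hmod : (n * i + j) % n = j := by
      rw [Nat.mul_add_mod, Nat.mod_eq_of_lt hj]
    rw [Finset.sum_range_succ, ← ih, ← bz_and, ← bz_xor]
    congr 1
    show (_ ^^^ _ : ℕ).testBit (n * i + j) = _
    rw [Nat.testBit_xor, testBit_term n hn, hdiv, hmod]
    simp [hp, mulR]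

theorem toMat_bmul (N n : ℕ) (hn : 0 < n) (A B : ℕ) :
    toMat N n (bmul N n A B) = toMat N n A * toMat n n B := by
  ext i j
  rw [Matrix.mul_apply]
  have h := bz_mulR n hn N A B i j i.2 j.2 n
  have hc := cmask_eq n hn N
  show bz ((mulR n A B (cmask n N) (2 ^ n - 1) n).testBit (n * i + j)) = _
  rw [hc, h, Finset.sum_range]
  rfl

/-- the identity matrix -/
def idm (n : ℕ) : ℕ := cmask (Nat.add n 1) n

theorem toMat_idm (n : ℕ) (hn : 0 < n) : toMat n n (idm n) = 1 := by
  ext i j
  have hpow : 1 < 2 ^ (n + 1) := Nat.one_lt_two_pow (by omega)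
  have h1 : ∀ q, (1 : ℕ).testBit q = decide (q = 0) := by
    intro q
    cases q with
    | zero => simp
    | succ q => simp [Nat.testBit_succ]
  have hi := i.2
  have hj := j.2
  show bz ((cmask (n + 1) n).testBit (n * i + j)) = _
  rw [cmask_eq _ (by omega), testBit_dig _ (by omega) _ (fun _ => hpow), h1, Matrix.one_apply]
  have hp : n * (i : ℕ) + j < (n + 1) * n := by
    calc n * (i : ℕ) + j < n * i + n := by omega
      _ = n * (i + 1) := by ring
      _ ≤ n * n := Nat.mul_le_mul_left _ hi
      _ ≤ (n + 1) * n := Nat.mul_le_mul_right _ (by omega)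
  by_cases hij : i = j
  · subst hij
    have : (n * (i : ℕ) + i) % (n + 1) = 0 := by
      have : n * (i : ℕ) + i = (n + 1) * i := by ring
      rw [this, Nat.mul_mod_right]
    simp [hp, this, bz]
  · have : (n * (i : ℕ) + j) % (n + 1) ≠ 0 := by
      intro h
      apply hij
      have h3 : (n + 1) ∣ n * (i : ℕ) + j := Nat.dvd_of_mod_eq_zero h
      have h4 : ((n : ℤ) + 1) ∣ (n : ℤ) * i + j := by exact_mod_cast h3
      have h5 : ((n : ℤ) + 1) ∣ (j : ℤ) - i := by
        have : (j : ℤ) - i = ((n : ℤ) * i + j) - (n + 1) * i := by ring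
        rw [this]
        exact dvd_sub h4 (dvd_mul_right _ _)
      have h6 : (j : ℤ) - i = 0 := by
        apply Int.eq_zero_of_abs_lt_dvd h5
        rw [abs_lt]
        constructor <;> omega
      apply Fin.ext
      omega
    simp [this, bz, hij]

end Cfsg.Agent.J4M.BitMat
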