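import Cfsg.Agent.J4M.Order
import Cfsg.Agent.J4M.CenData
import Cfsg.Agent.Lib.CentralizerCount

/-!
The centralizer of the involution `z` in `R`: upper bound for its order.
-/
set_option autoImplicit false

namespace Cfsg.Agent.J4M.Cen

open Cfsg.Agent.Lib Cfsg.Agent.Lib.F2Mat Cfsg.Agent.Lib.F2MatGroup
open Cfsg.Agent.J4.Rep112 Cfsg.Agent.J4.GroupLemmas
open Cfsg.Agent.J4M.BitMat (bmul)
open Cfsg.Agent.J4M.DBData Cfsg.Agent.J4M.Derive Cfsg.Agent.J4M.Words
open Cfsg.Agent.J4M.Base Cfsg.Agent.J4M.QBase Cfsg.Agent.J4M.MPerm Cfsg.Agent.J4M.MGroup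
open Cfsg.Agent.J4M.Gamma Cfsg.Agent.J4M.KData Cfsg.Agent.J4M.Decomp Cfsg.Agent.J4M.Order
open Cfsg.Agent.J4M.CenData

/-! ### Products of commuting involutions, indexed by bit masks -/

section Mask

variable {G : Type*} [Group G]

/-- the product of the `f i` over the bits `i < k` of `m` -/
def qf (f : ℕ → G) (k m : ℕ) : G :=
  Nat.rec 1 (fun k x => x * (if m.testBit k then f k else 1)) k

theorem qf_zero (f : ℕ → G) (m : ℕ) : qf f 0 m = 1 := rfl
theorem qf_succ (f : ℕ → G) (k m : ℕ) :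
    qf f (k + 1) m = qf f k m * (if m.testBit k then f k else 1) := rfl

theorem qf_congr (f : ℕ → G) {k a b : ℕ} (h : ∀ i < k, a.testBit i = b.testBit i) :
    qf f k a = qf f k b := by
  induction k with
  | zero => rfl
  | succ k ih => rw [qf_succ, qf_succ, ih fun i hi => h i (by omega), h k (by omega)]

theorem qf_low (f : ℕ → G) {k m : ℕ} (h : m < 2 ^ k) : qf f (k + 1) m = qf f k m := by
  rw [qf_succ, Nat.testBit_lt_two_pow h]
  simp

theorem qf_high (f : ℕ → G) {k m : ℕ} (h : m < 2 ^ k) :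
    qf f (k + 1) (2 ^ k + m) = qf f k m * f k := by
  rw [qf_succ, Nat.testBit_two_pow_add_eq, Nat.testBit_lt_two_pow h]
  simp only [Bool.not_false, if_true]
  congr 1
  exact qf_congr f fun i hi => Nat.testBit_two_pow_add_gt hi _

theorem exists_mask (f : ℕ → G) (k : ℕ) : ∀ s : List G, s.Sublist ((List.range k).map f) →
    ∃ m < 2 ^ k, s.prod = qf f k m := by
  induction k with
  | zero =>
    intro s hs
    have : s = [] := by simpa using hs
    exact ⟨0, by norm_num, by rw [this]; rfl⟩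
  | succ k ih =>
    intro s hs
    rw [List.range_succ, List.map_append, List.sublist_append_iff] at hs
    obtain ⟨s1, s2, rfl, h1, h2⟩ := hs
    obtain ⟨m, hm, e⟩ := ih s1 h1
    have h3 : s2 = [] ∨ s2 = [f k] := by
      have : s2.Sublist [f k] := h2
      exact List.sublist_singleton.mp this
    rcases h3 with rfl | rfl
    · exact ⟨m, by rw [pow_succ]; omega, by rw [List.append_nil, e, qf_low f hm]⟩
    · refine ⟨2 ^ k + m, by rw [pow_succ]; omega, ?_⟩
      rw [List.prod_append, e, List.prod_singleton, qf_high f hm]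

theorem qf_mem (f : ℕ → G) {K : Subgroup G} (k : ℕ) (h : ∀ i < k, f i ∈ K) (m : ℕ) :
    qf f k m ∈ K := by
  induction k with
  | zero => exact K.one_mem
  | succ k ih =>
    rw [qf_succ]
    refine K.mul_mem (ih fun i hi => h i (by omega)) ?_
    split
    · exact h k (by omega)
    · exact K.one_mem

theorem qf_xor (f : ℕ → G) (k : ℕ) (hsq : ∀ i < k, f i * f i = 1)
    (hc : ∀ i < k, ∀ j < k, f i * f j = f j * f i) (a b : ℕ) :
    qf f k (a ^^^ b) = qf f k a * qf f k b := by
  induction k with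
  | zero => simp [qf_zero]
  | succ k ih =>
    have ih' := ih (fun i hi => hsq i (by omega)) fun i hi j hj => hc i (by omega) j (by omega)
    have hcomm : f k * qf f k b = qf f k b * f k := by
      have h1 : qf f k b ∈ Subgroup.centralizer {f k} := qf_mem f k (fun i hi =>
        Subgroup.mem_centralizer_singleton_iff.mpr (hc i (by omega) k (by omega))) b
      exact (Subgroup.mem_centralizer_singleton_iff.mp h1).symm
    rw [qf_succ, qf_succ, qf_succ, ih', Nat.testBit_xor]
    have hk := hsq k (by omega)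
    cases a.testBit k <;> cases b.testBit k
    · simp
    · simp [mul_assoc]
    · simp only [Bool.xor_false, if_true, Bool.false_eq_true, if_false, mul_one]
      rw [mul_assoc, mul_assoc, hcomm]
    · simp only [Bool.xor_self, Bool.false_eq_true, if_false, mul_one, if_true]
      rw [mul_assoc (qf f k a) (f k), ← mul_assoc (f k), hcomm, mul_assoc (qf f k b), hk, mul_one]

end Mask

/-- the element of `Q` with mask `m` -/
noncomputable def qv (m : ℕ) : GG := qf (fun i => e (4 + i)) 11 m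

theorem qv_mem (m : ℕ) : qv m ∈ Q := qf_mem _ 11 (fun i hi => Q_mem0 (by omega) (by omega)) m

theorem exists_qv {x : GG} (hx : x ∈ Q) : ∃ m < 2 ^ 11, x = qv m := by
  rw [Q_def] at hx
  obtain ⟨s, hs, rfl⟩ := TwoGroup.exists_sublist ((List.range 11).map fun i => e (4 + i))
    (fun q hq => by
      obtain ⟨i, hi, rfl⟩ := List.mem_map.mp hq
      have := List.mem_range.mp hi
      exact e_sq (by omega) (by omega))
    (fun a ha b hb => by
      obtain ⟨i, hi, rfl⟩ := List.mem_map.mp ha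
      obtain ⟨j, hj, rfl⟩ := List.mem_map.mp hb
      have := List.mem_range.mp hi
      have := List.mem_range.mp hj
      exact e_comm (by omega) (by omega) (by omega) (by omega)) x hx
  exact exists_mask _ 11 s hs

theorem qv_xor (a b : ℕ) : qv (a ^^^ b) = qv a * qv b :=
  qf_xor (fun i => e (4 + i)) 11 (fun i hi => by exact e_sq (by omega) (by omega))
    (fun i hi j hj => by exact e_comm (by omega) (by omega) (by omega) (by omega)) a b

theorem inj_of_surj {α : Type*} [Group α] {n : ℕ} (f : ℕ → α) (S : Subgroup α)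
    (hn : Nat.card S = n) (hfS : ∀ i, f i ∈ S) (hs : ∀ x ∈ S, ∃ m < n, x = f m) :
    ∀ a < n, ∀ b < n, f a = f b → a = b := by
  rcases Nat.eq_zero_or_pos n with rfl | hpos
  · intro a ha; omega
  have hfin : Finite S := (Nat.card_pos_iff.mp (by omega)).2
  let g : Fin n → S := fun i => ⟨f i, hfS i⟩
  have hg : Function.Surjective g := by
    rintro ⟨x, hx⟩
    obtain ⟨m, hm, e⟩ := hs x hx
    exact ⟨⟨m, hm⟩, Subtype.ext e.symm⟩
  have hb : Function.Bijective g := by
    rw [Nat.bijective_iff_surjective_and_card]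
    refine ⟨hg, ?_⟩
    rw [hn, Nat.card_eq_fintype_card, Fintype.card_fin]
  intro a ha b hb' hab
  have := hb.1 (show g ⟨a, ha⟩ = g ⟨b, hb'⟩ from Subtype.ext hab)
  exact congrArg Fin.val this

theorem qv_inj : ∀ a < 2 ^ 11, ∀ b < 2 ^ 11, qv a = qv b → a = b :=
  inj_of_surj qv Q card_Q qv_mem fun _ hx => exists_qv hx

/-- the word of a mask -/
def qword (k m : ℕ) : List ℕ :=
  Nat.rec [] (fun k x => x ++ (cond (m.testBit k) [4 + k] [])) k

theorem ev_qword (k m : ℕ) : ev (qword k m) = qf (fun i => e (4 + i)) k m := by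
  induction k with
  | zero => rw [qf_zero]; exact ev_nil
  | succ k ih =>
    show ev (qword k m ++ (cond (m.testBit k) [4 + k] [])) = _
    rw [ev_append, ih, qf_succ]
    cases m.testBit k
    · simp [ev_nil]
    · simp [ev_cons, ev_nil]

/-! ### Rows -/

/-- the vectors `u * q` for all `q` in `Q` with mask `< 2 ^ k` -/
def rowsOf (u k : ℕ) : ℕ :=
  Nat.rec u (fun k R => force R fun R => Nat.add R (Nat.shiftLeft (Nat.mod
    (bmul (2 ^ k) 112 R (get (F2Mat.one 112) db (Nat.add 4 k))) (2 ^ (112 * 2 ^ k))) (112 * 2 ^ k))) k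

theorem rowsOf_zero (u : ℕ) : rowsOf u 0 = u := rfl
theorem rowsOf_succ (u k : ℕ) : rowsOf u (k + 1) = rowsOf u k +
    ((bmul (2 ^ k) 112 (rowsOf u k) (get (F2Mat.one 112) db (4 + k))) % (2 ^ (112 * 2 ^ k))) <<<
      (112 * 2 ^ k) := by
  have h : rowsOf u (k + 1) = force (rowsOf u k) (fun R => Nat.add R (Nat.shiftLeft (Nat.mod
    (bmul (2 ^ k) 112 R (get (F2Mat.one 112) db (Nat.add 4 k))) (2 ^ (112 * 2 ^ k)))
      (112 * 2 ^ k))) := rfl
  rw [h, force_eq]
  rfl

theorem rowsOf_lt {u : ℕ} (hu : u < 2 ^ 112) (k : ℕ) : rowsOf u k < 2 ^ (112 * 2 ^ k) := by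
  induction k with
  | zero => simpa [rowsOf_zero] using hu
  | succ k ih =>
    rw [rowsOf_succ, Nat.shiftLeft_eq]
    have h1 : (bmul (2 ^ k) 112 (rowsOf u k) (get (F2Mat.one 112) db (4 + k))) %
        (2 ^ (112 * 2 ^ k)) < 2 ^ (112 * 2 ^ k) := Nat.mod_lt _ (by positivity)
    have h2 : 2 ^ (112 * 2 ^ (k + 1)) = 2 ^ (112 * 2 ^ k) * 2 ^ (112 * 2 ^ k) := by
      rw [← pow_add]; congr 1; ring
    rw [h2]
    nlinarith

theorem rowv_low {A B N m : ℕ} (hA : A < 2 ^ (112 * N)) (hm : m < N) :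
    toVec 112 (rowv (A + B <<< (112 * N)) m) = toVec 112 (rowv A m) := by
  ext k
  show F2Mat.bz _ = F2Mat.bz _
  rw [testBit_rowv _ _ k.2, testBit_rowv _ _ k.2, Nat.shiftLeft_eq, add_comm, mul_comm,
    Nat.testBit_two_pow_mul_add _ hA, if_pos]
  have h1 : 112 * (m + 1) ≤ 112 * N := Nat.mul_le_mul_left _ hm
  have h2 := k.2
  omega

theorem rowv_high {A B N m : ℕ} (hA : A < 2 ^ (112 * N)) (hm : m < N) :
    toVec 112 (rowv (A + (B % 2 ^ (112 * N)) <<< (112 * N)) (N + m)) = toVec 112 (rowv B m) := by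
  ext k
  show F2Mat.bz _ = F2Mat.bz _
  have h1 : 112 * (m + 1) ≤ 112 * N := Nat.mul_le_mul_left _ hm
  have h2 := k.2
  have h3 : 112 * (N + m) = 112 * N + 112 * m := by ring
  rw [testBit_rowv _ _ k.2, testBit_rowv _ _ k.2, Nat.shiftLeft_eq, add_comm, mul_comm,
    Nat.testBit_two_pow_mul_add _ hA, if_neg (by omega)]
  have h4 : 112 * (N + m) + k - 112 * N = 112 * m + k := by omega
  rw [h4, Nat.testBit_mod_two_pow]
  have h5 : 112 * m + (k : ℕ) < 112 * N := by omega
  simp [h5]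

theorem rowsOf_spec {u : ℕ} (hu : u < 2 ^ 112) (k : ℕ) : ∀ m < 2 ^ k,
    toVec 112 (rowv (rowsOf u k) m) = act (toVec 112 u) (qf (fun i => e (4 + i)) k m) := by
  induction k with
  | zero =>
    intro m hm
    have : m = 0 := by simpa using hm
    subst this
    rw [rowsOf_zero, qf_zero, act_one]
    have : rowv u 0 = u := by
      rw [rowv_eq]
      simpa using Nat.mod_eq_of_lt hu
    rw [this]
  | succ k ih =>
    intro m hm
    rw [rowsOf_succ]
    rcases Nat.lt_or_ge m (2 ^ k) with h | h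
    · rw [rowv_low (rowsOf_lt hu k) h, ih m h, qf_low _ h]
    · obtain ⟨m', rfl⟩ := Nat.exists_eq_add_of_le h
      have hm' : m' < 2 ^ k := by rw [pow_succ] at hm; omega
      rw [rowv_high (rowsOf_lt hu k) hm', toVec_bmul _ _ _ hm', ih m' hm', qf_high _ hm', act_mul]
      have h5 := codes_e (4 + k)
      unfold Codes at h5
      show Matrix.vecMul _ _ = Matrix.vecMul _ _
      rw [h5]

/-! ### Elements of `Q` conjugated into `Q` -/

/-- run of the tests -/
def zrun (ts : List (ℕ × ℕ × ℕ)) : (ℕ → Bool) → Bool :=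
  List.rec (motive := fun _ => (ℕ → Bool) → Bool) (fun P => loop P 2048)
    (fun t _ ih P => force (Nat.shiftLeft 1 t.2.1) fun u =>
      force (bmul 2048 112 (rowsOf u 11) t.2.2) fun A =>
        force (rowsOf (vmul 112 u t.2.2) 11) fun B =>
          ih fun m => cond (Nat.beq (rowv A m) (rowv B m)) (P m) true) ts

theorem zrun_cons (t : ℕ × ℕ × ℕ) (ts : List (ℕ × ℕ × ℕ)) (P : ℕ → Bool) :
    zrun (t :: ts) P = zrun ts fun m => cond (Nat.beq
      (rowv (bmul 2048 112 (rowsOf (Nat.shiftLeft 1 t.2.1) 11) t.2.2) m)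
      (rowv (rowsOf (vmul 112 (Nat.shiftLeft 1 t.2.1) t.2.2) 11) m)) (P m) true := by
  have h : zrun (t :: ts) P = force (Nat.shiftLeft 1 t.2.1) (fun u =>
      force (bmul 2048 112 (rowsOf u 11) t.2.2) fun A =>
        force (rowsOf (vmul 112 u t.2.2) 11) fun B =>
          zrun ts fun m => cond (Nat.beq (rowv A m) (rowv B m)) (P m) true) := rfl
  rw [h, force_eq, force_eq, force_eq]

theorem zrun_sound {ts : List (ℕ × ℕ × ℕ)} {P : ℕ → Bool} (h : zrun ts P = true) {m : ℕ}
    (hm : m < 2048) (ht : ∀ t ∈ ts, rowv (bmul 2048 112 (rowsOf (Nat.shiftLeft 1 t.2.1) 11) t.2.2) m =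
      rowv (rowsOf (vmul 112 (Nat.shiftLeft 1 t.2.1) t.2.2) 11) m) : P m = true := by
  induction ts generalizing P with
  | nil => exact loop_sound (f := P) (k := 2048) h m hm
  | cons t ts ih =>
    rw [zrun_cons] at h
    have h1 := ih h fun t' ht' => ht t' (List.mem_cons_of_mem _ ht')
    rwa [ht t (List.mem_cons_self ..), Nat.beq_refl, cond_true] at h1

/-- the code of a conjugate -/
def codeB (g : ℕ) (t : ℕ × ℕ × ℕ) : Bool :=
  Nat.beq (F2Mat.mul 112 (get (F2Mat.one 112) db g) t.2.2)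
    (F2Mat.mul 112 (get (F2Mat.one 112) db t.1) (get (F2Mat.one 112) db g)) &&
  Nat.ble 4 t.1 && Nat.ble t.1 14 && Nat.ble t.2.1 111

theorem codes_conj {G : Type*} [Monoid G] {g c : Gˣ} {D : G} (h : (g : G) * D = c * g) :
    ((g⁻¹ * c * g : Gˣ) : G) = D := by
  rw [Units.val_mul, Units.val_mul, mul_assoc, ← h, ← mul_assoc, Units.inv_mul, one_mul]

theorem codeB_sound {g : ℕ} {t : ℕ × ℕ × ℕ} (h : codeB g t = true) :
    Codes 112 ((e g)⁻¹ * e t.1 * e g) t.2.2 ∧ 4 ≤ t.1 ∧ t.1 < 15 ∧ t.2.1 < 112 := by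
  unfold codeB at h
  rw [Bool.and_eq_true, Bool.and_eq_true, Bool.and_eq_true] at h
  obtain ⟨⟨⟨h1, h2⟩, h3⟩, h4⟩ := h
  refine ⟨?_, Nat.le_of_ble_eq_true h2, ?_, ?_⟩
  · have h5 := congrArg (F2Mat.toMat 112) (Nat.eq_of_beq_eq_true h1)
    rw [toMat_mul, toMat_mul] at h5
    have hg := codes_e g
    have hc := codes_e t.1
    unfold Codes at hg hc
    rw [← hg, ← hc] at h5
    exact codes_conj h5
  · have := Nat.le_of_ble_eq_true h3; omega
  · have := Nat.le_of_ble_eq_true h4; omega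

theorem codeB_1 : ((tests 1).all fun t => codeB (gi 2) t) = true := by decide +kernel
theorem codeB_2 : ((tests 2).all fun t => codeB (gi 3) t) = true := by decide +kernel
theorem codeB_3 : ((tests 3).all fun t => codeB (gi 4) t) = true := by decide +kernel
theorem codeB_4 : ((tests 4).all fun t => codeB (gi 5) t) = true := by decide +kernel
theorem codeB_5 : ((tests 5).all fun t => codeB (gi 6) t) = true := by decide +kernel
theorem codeB_6 : ((tests 6).all fun t => codeB (gi 7) t) = true := by decide +kernel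

theorem zrun_1 : zrun (tests 1) (fun m => (zset 1).elem m) = true := by decide +kernel
theorem zrun_2 : zrun (tests 2) (fun m => (zset 2).elem m) = true := by decide +kernel
theorem zrun_3 : zrun (tests 3) (fun m => (zset 3).elem m) = true := by decide +kernel
theorem zrun_4 : zrun (tests 4) (fun m => (zset 4).elem m) = true := by decide +kernel
theorem zrun_5 : zrun (tests 5) (fun m => (zset 5).elem m) = true := by decide +kernel
theorem zrun_6 : zrun (tests 6) (fun m => (zset 6).elem m) = true := by decide +kernel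

theorem commute_of_conj {G : Type*} [Group G] {g q c : G} (h : (g * q * g⁻¹) * c = c * (g * q * g⁻¹)) :
    q * (g⁻¹ * c * g) = (g⁻¹ * c * g) * q := by
  calc q * (g⁻¹ * c * g) = g⁻¹ * ((g * q * g⁻¹) * c) * g := by group
    _ = (g⁻¹ * c * g) * q := by rw [h]; group

theorem zset_of {g : ℕ} {ts : List (ℕ × ℕ × ℕ)} {Z : List ℕ} (h1 : (ts.all fun t => codeB g t) = true)
    (h2 : zrun ts (fun m => Z.elem m) = true) {q : GG} (hq : q ∈ Q)
    (hgq : e g * q * (e g)⁻¹ ∈ Q) : ∃ m ∈ Z, q = qv m := by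
  obtain ⟨m, hm, rfl⟩ := exists_qv hq
  refine ⟨m, ?_, rfl⟩
  have h3 := zrun_sound h2 (m := m) (by simpa using hm) ?_
  · exact List.mem_of_elem_eq_true h3
  intro t ht
  obtain ⟨h4, h5, h6, h7⟩ := codeB_sound (List.all_eq_true.mp h1 t ht)
  have h8 : qv m * ((e g)⁻¹ * e t.1 * e g) = ((e g)⁻¹ * e t.1 * e g) * qv m := by
    apply commute_of_conj
    exact Q_comm _ hgq _ (Q_mem0 h5 h6)
  have hu : Nat.shiftLeft 1 t.2.1 < 2 ^ 112 := by
    show 1 <<< t.2.1 < 2 ^ 112
    rw [Nat.one_shiftLeft]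
    exact Nat.pow_lt_pow_right (by norm_num) h7
  generalize hu' : Nat.shiftLeft 1 t.2.1 = u at hu
  have hm' : m < 2 ^ 11 := hm
  apply toVec_inj (rowv_lt _ _) (rowv_lt _ _)
  have e1 : toVec 112 (rowv (rowsOf u 11) m) = act (toVec 112 u) (qv m) := rowsOf_spec hu 11 m hm'
  have e2 : toVec 112 (rowv (rowsOf (vmul 112 u t.2.2) 11) m) =
      act (toVec 112 (vmul 112 u t.2.2)) (qv m) := rowsOf_spec (vmul_lt _ _) 11 m hm'
  have e3 : toVec 112 (rowv (bmul 2048 112 (rowsOf u 11) t.2.2) m) =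
      Matrix.vecMul (toVec 112 (rowv (rowsOf u 11) m)) (F2Mat.toMat 112 t.2.2) :=
    toVec_bmul 2048 _ _ hm
  have e4 : Matrix.vecMul (toVec 112 (rowv (rowsOf u 11) m)) (F2Mat.toMat 112 t.2.2) =
      act (toVec 112 (rowv (rowsOf u 11) m)) ((e g)⁻¹ * e t.1 * e g) := by
    unfold act
    unfold Codes at h4
    rw [h4]
  rw [e3, e4, e1, e2, ← act_codes h4, ← act_mul, h8, act_mul]

/-- nontrivial intersections of `Q` with its conjugates -/
theorem Z_of (i : Fin 7) (hi : i ≠ 0) {q : GG} (hq : q ∈ Q)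
    (hgq : gg i * q * (gg i)⁻¹ ∈ Q) : ∃ m ∈ zset i, q = qv m := by
  unfold gg at hgq
  fin_cases i
  · exact absurd rfl hi
  · exact zset_of codeB_1 zrun_1 hq hgq
  · exact zset_of codeB_2 zrun_2 hq hgq
  · exact zset_of codeB_3 zrun_3 hq hgq
  · exact zset_of codeB_4 zrun_4 hq hgq
  · exact zset_of codeB_5 zrun_5 hq hgq
  · exact zset_of codeB_6 zrun_6 hq hgq

end Cfsg.Agent.J4M.Cen
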