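import Cfsg.Agent.J4M.Cen
import Cfsg.Agent.J4C.Link

/-!
The order of the centralizer of the involution `z` in `R` is at most 21799895040.
-/
set_option autoImplicit false

namespace Cfsg.Agent.J4M.CenBound

open Cfsg.Agent.Lib Cfsg.Agent.Lib.F2Mat Cfsg.Agent.Lib.F2MatGroup
open Cfsg.Agent.J4.Rep112 Cfsg.Agent.J4.GroupLemmas
open Cfsg.Agent.J4M.DBData Cfsg.Agent.J4M.Derive Cfsg.Agent.J4M.Words
open Cfsg.Agent.J4M.Base Cfsg.Agent.J4M.QBase Cfsg.Agent.J4M.MPerm Cfsg.Agent.J4M.MGroup
open Cfsg.Agent.J4M.Gamma Cfsg.Agent.J4M.KData Cfsg.Agent.J4M.Decomp Cfsg.Agent.J4M.Order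
open Cfsg.Agent.J4M.CenData Cfsg.Agent.J4M.Cen
open Cfsg.Agent.J4C.Link (zw)

/-! ### The conjugates of `z` in `H` -/

/-- image of a mask under conjugation by x (`g = 0`) or y (`g = 1`) -/
def lin (g k m : ℕ) : ℕ :=
  Nat.rec 0 (fun k r => Nat.xor r (cond (m.testBit k) ((limg g).getD k 0) 0)) k

theorem lin_zero (g m : ℕ) : lin g 0 m = 0 := rfl

theorem lin_succ (g k m : ℕ) :
    lin g (k + 1) m = lin g k m ^^^ (cond (m.testBit k) ((limg g).getD k 0) 0) := rfl

theorem lin_chk : ((List.range 2).all fun g => (List.range 11).all fun k =>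
    Nat.beq (evW 112 db [g + 1, 4 + k]) (evW 112 db (qword 11 ((limg g).getD k 0) ++ [g + 1]))) =
      true := by decide +kernel

theorem conj_gen {g k : ℕ} (hg : g < 2) (hk : k < 11) :
    e (g + 1) * e (4 + k) = qv ((limg g).getD k 0) * e (g + 1) := by
  have h := List.all_eq_true.mp (List.all_eq_true.mp lin_chk g (List.mem_range.mpr hg)) k
    (List.mem_range.mpr hk)
  have h2 := ev_eq (Nat.eq_of_beq_eq_true h)
  rw [ev_cons, ev_cons, ev_nil, mul_one, ev_append, ev_cons, ev_nil, mul_one, ev_qword] at h2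
  exact h2

theorem qv_zero : qv 0 = 1 := by
  unfold qv
  have : ∀ k, qf (fun i => e (4 + i)) k 0 = 1 := by
    intro k
    induction k with
    | zero => rfl
    | succ k ih => rw [qf_succ, ih]; simp
  exact this 11

theorem conj_lin {g : ℕ} (hg : g < 2) (m : ℕ) : ∀ k ≤ 11,
    e (g + 1) * qf (fun i => e (4 + i)) k m = qv (lin g k m) * e (g + 1) := by
  intro k
  induction k with
  | zero =>
    intro _
    rw [qf_zero, lin_zero, qv_zero, mul_one, one_mul]
  | succ k ih =>
    intro hk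
    rw [qf_succ, lin_succ, qv_xor, ← mul_assoc, ih (by omega)]
    cases m.testBit k
    · simp [qv_zero]
    · simp only [if_true, cond_true]
      rw [mul_assoc, mul_assoc, conj_gen hg (by omega)]

/-- entry of the orbit table -/
def ent (n : ℕ) : ℕ := Nat.mod (Nat.shiftRight orb (Nat.mul 32 n)) 4294967296
/-- mask of the conjugate number `n` -/
def msk (n : ℕ) : ℕ := Nat.mod (ent n) 2048
/-- parent -/
def par (n : ℕ) : ℕ := Nat.mod (Nat.shiftRight (ent n) 11) 2048
/-- generator -/
def gnr (n : ℕ) : ℕ := Nat.mod (Nat.shiftRight (ent n) 22) 2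

/-- check of one entry -/
def entB (n : ℕ) : Bool :=
  Nat.beq (Nat.mod (Nat.shiftRight inv (Nat.mul 16 (msk n))) 65536) n &&
    (cond (Nat.beq n 0) (Nat.beq (msk n) 960)
      (Nat.ble (Nat.succ (par n)) n && Nat.beq (msk n) (lin (gnr n) 11 (msk (par n)))))

theorem entB_ok : loop entB 1771 = true := by decide +kernel

theorem ent_ok {n : ℕ} (hn : n < 1771) : entB n = true := loop_sound entB_ok n hn

theorem msk_lt (n : ℕ) : msk n < 2 ^ 11 := Nat.mod_lt _ (by norm_num)

theorem msk_inj {a b : ℕ} (ha : a < 1771) (hb : b < 1771) (h : msk a = msk b) : a = b := by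
  have h1 := ent_ok ha
  have h2 := ent_ok hb
  unfold entB at h1 h2
  rw [Bool.and_eq_true] at h1 h2
  rw [← Nat.eq_of_beq_eq_true h1.1, ← Nat.eq_of_beq_eq_true h2.1, h]

/-- the involution -/
noncomputable def z : GG := qv 960

theorem z_eq : z = ev zw := by
  have h : ev (qword 11 960) = z := ev_qword 11 960
  rw [← h]
  have : qword 11 960 = zw := by decide +kernel
  rw [this]

theorem gen_mem {g : ℕ} (hg : g < 2) : e (g + 1) ∈ H := by
  have : ∀ g < 2, mH.testBit (g + 1) = true := by decide +kernel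
  exact H_mem _ (this g hg)

theorem exists_conj : ∀ n < 1771, ∃ h ∈ H, h * z * h⁻¹ = qv (msk n) := by
  intro n
  induction n using Nat.strong_induction_on with
  | _ n ih =>
    intro hn
    have h1 := ent_ok hn
    unfold entB at h1
    rw [Bool.and_eq_true] at h1
    rcases hb : Nat.beq n 0 with _ | _
    · rw [hb, cond_false, Bool.and_eq_true] at h1
      obtain ⟨_, h2, h3⟩ := h1
      have h2' : par n < n := Nat.le_of_ble_eq_true h2
      have h3' := Nat.eq_of_beq_eq_true h3
      obtain ⟨h, hh, e1⟩ := ih (par n) h2' (by omega)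
      have hg : gnr n < 2 := Nat.mod_lt _ (by norm_num)
      refine ⟨e (gnr n + 1) * h, H.mul_mem (gen_mem hg) hh, ?_⟩
      have e2 : e (gnr n + 1) * qv (msk (par n)) = qv (lin (gnr n) 11 (msk (par n))) * e (gnr n + 1) :=
        conj_lin hg (msk (par n)) 11 le_rfl
      calc e (gnr n + 1) * h * z * (e (gnr n + 1) * h)⁻¹
          = e (gnr n + 1) * (h * z * h⁻¹) * (e (gnr n + 1))⁻¹ := by group
        _ = qv (msk n) := by rw [e1, e2, h3', mul_inv_cancel_right]
    · rw [hb, cond_true] at h1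
      refine ⟨1, H.one_mem, ?_⟩
      rw [Nat.eq_of_beq_eq_true h1.2, one_mul, inv_one, mul_one]
      rfl

theorem card_mul_le_of_conj {G : Type*} [Group G] [Finite G] (H : Subgroup G) (z : G) (N : ℕ)
    (c : ℕ → G) (hc : ∀ a < N, ∀ b < N, c a = c b → a = b)
    (h : ∀ n < N, ∃ h ∈ H, h * z * h⁻¹ = c n) :
    Nat.card (Subgroup.centralizer {z} ⊓ H : Subgroup G) * N ≤ Nat.card H := by
  have h1 : ∀ n : Fin N, ∃ h ∈ H, h * z * h⁻¹ = c n := fun n => h n n.2
  choose u hu hu2 using h1
  have hcN : Nat.card ((Subgroup.centralizer {z} ⊓ H : Subgroup G) × Fin N) =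
      Nat.card (Subgroup.centralizer {z} ⊓ H : Subgroup G) * N := by
    rw [Nat.card_prod, Nat.card_eq_fintype_card (α := Fin N), Fintype.card_fin]
  rw [← hcN]
  apply Nat.card_le_card_of_injective
    (fun x : (Subgroup.centralizer {z} ⊓ H : Subgroup G) × Fin N =>
      (⟨u x.2 * x.1, H.mul_mem (hu x.2) x.1.2.2⟩ : H))
  rintro ⟨⟨a, ha1, ha2⟩, m⟩ ⟨⟨b, hb1, hb2⟩, n⟩ hab
  have hab' : u m * a = u n * b := congrArg Subtype.val hab
  have hz : ∀ {a : G}, a ∈ Subgroup.centralizer {z} → a * z * a⁻¹ = z := by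
    intro a ha
    rw [Subgroup.mem_centralizer_singleton_iff.mp ha, mul_inv_cancel_right]
  have e1 : (u m * a) * z * (u m * a)⁻¹ = c m := by
    rw [← hu2 m]
    calc (u m * a) * z * (u m * a)⁻¹ = u m * (a * z * a⁻¹) * (u m)⁻¹ := by group
      _ = _ := by rw [hz ha1]
  have e2 : (u n * b) * z * (u n * b)⁻¹ = c n := by
    rw [← hu2 n]
    calc (u n * b) * z * (u n * b)⁻¹ = u n * (b * z * b⁻¹) * (u n)⁻¹ := by group
      _ = _ := by rw [hz hb1]
  rw [hab', e2] at e1
  have hmn : m = n := Fin.ext (hc m m.2 n n.2 e1.symm)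
  subst hmn
  have : a = b := mul_left_cancel hab'
  subst this
  rfl

/-- the centralizer of `z` in `H` -/
noncomputable def CH : Subgroup GG := Subgroup.centralizer {z} ⊓ H

theorem qv_msk_inj : ∀ a < 1771, ∀ b < 1771, qv (msk a) = qv (msk b) → a = b :=
  fun a ha b hb hab => msk_inj ha hb (qv_inj _ (msk_lt a) _ (msk_lt b) hab)

theorem card_CH_mul : Nat.card CH * 1771 ≤ Nat.card H := by
  unfold CH
  apply card_mul_le_of_conj H z 1771 (fun n => qv (msk n)) qv_msk_inj
  exact exists_conj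

theorem card_CH_le : Nat.card CH ≤ 2 ^ 11 * 138240 := by
  have h := card_CH_mul
  rw [card_H] at h
  generalize Nat.card CH = n at h ⊢
  omega

/-- generators of the complement of the centralizer -/
noncomputable def MZ : Subgroup GG := Subgroup.closure {ev wZ0, ev wZ1}

theorem z_mem : z ∈ Q := qv_mem 960

theorem zcomm0 : evW 112 db (wZ0 ++ zw) = evW 112 db (zw ++ wZ0) := by decide +kernel
theorem zcomm1 : evW 112 db (wZ1 ++ zw) = evW 112 db (zw ++ wZ1) := by decide +kernel

theorem MZ_le_M : MZ ≤ M := closure_pair_le (ev_mem_M (by decide +kernel)) (ev_mem_M (by decide +kernel))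

theorem mem_CH {x : GG} (h1 : x * z = z * x) (h2 : x ∈ H) : x ∈ CH :=
  ⟨Subgroup.mem_centralizer_singleton_iff.mpr h1, h2⟩

theorem MZ_le_CH : MZ ≤ CH := by
  refine closure_pair_le (mem_CH ?_ (ev_mem_H (by decide +kernel)))
    (mem_CH ?_ (ev_mem_H (by decide +kernel)))
  · rw [z_eq, ← ev_append, ← ev_append, ev_eq zcomm0]
  · rw [z_eq, ← ev_append, ← ev_append, ev_eq zcomm1]

theorem Q_le_CH : Q ≤ CH := fun x hx => mem_CH (Q_comm x hx z z_mem) (Q_le_H hx)

theorem CH_eq : CH = Q ⊔ MZ := by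
  symm
  apply Subgroup.eq_of_le_of_card_ge (sup_le Q_le_CH MZ_le_CH)
  refine card_CH_le.trans ?_
  refine (Nat.mul_le_mul card_Q.ge cardZ_ge).trans ?_
  refine TwoGroup.card_mul_le_card Q MZ (Q ⊔ MZ) le_sup_left le_sup_right ?_
  rw [eq_bot_iff, ← Q_inf_M]
  exact inf_le_inf le_rfl MZ_le_M

/-! ### The orbit of `v0` -/

/-- the vector `v0` -/
noncomputable def vz : VV := toVec 112 v0

/-- the vector number `n` of the orbit -/
noncomputable def dv (n : ℕ) : VV := toVec 112 (delta.getD n 0)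

/-- generators of the centralizer of `z` in `H` -/
def cwords : List (List ℕ) :=
  [[4], [5], [6], [7], [8], [9], [10], [11], [12], [13], [14], wZ0, wZ1]

theorem delta_chk : ((List.range 77).all fun n => cwords.all fun w =>
    delta.contains (vw (delta.getD n 0) w)) = true := by decide +kernel

theorem mem_delta {v : ℕ} (h : delta.contains v = true) : ∃ m < 77, toVec 112 v = dv m := by
  rw [List.contains_iff_mem] at h
  obtain ⟨m, hm, e1⟩ := List.mem_iff_getElem.mp h
  have hl : delta.length = 77 := by decide +kernel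
  refine ⟨m, by omega, ?_⟩
  unfold dv
  rw [List.getD_eq_getElem?_getD, List.getElem?_eq_getElem hm, Option.getD_some, e1]

theorem CH_eq_closure : CH = Subgroup.closure {g | g ∈ cwords.map ev} := by
  apply le_antisymm
  · rw [CH_eq]
    refine sup_le ?_ (closure_pair_le (mem_closure_map (by simp [cwords]))
      (mem_closure_map (by simp [cwords])))
    rw [Q_def]
    refine TwoGroup.closure_map_le _ fun i hi => ?_
    have h1 : [4 + i] ∈ cwords := by
      have : ∀ i < 11, [4 + i] ∈ cwords := by decide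
      exact this i hi
    have h2 := mem_closure_map h1
    rwa [ev_cons, ev_nil, mul_one] at h2
  · refine closure_map_le fun w hw => ?_
    simp only [cwords, List.mem_cons, List.not_mem_nil, or_false] at hw
    have hq : ∀ i, 4 ≤ i → i < 15 → ev [i] ∈ CH := by
      intro i h1 h2
      rw [ev_cons, ev_nil, mul_one]
      exact Q_le_CH (Q_mem0 h1 h2)
    rcases hw with rfl | rfl | rfl | rfl | rfl | rfl | rfl | rfl | rfl | rfl | rfl | rfl | rfl
    · exact hq _ (by norm_num) (by norm_num)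
    · exact hq _ (by norm_num) (by norm_num)
    · exact hq _ (by norm_num) (by norm_num)
    · exact hq _ (by norm_num) (by norm_num)
    · exact hq _ (by norm_num) (by norm_num)
    · exact hq _ (by norm_num) (by norm_num)
    · exact hq _ (by norm_num) (by norm_num)
    · exact hq _ (by norm_num) (by norm_num)
    · exact hq _ (by norm_num) (by norm_num)
    · exact hq _ (by norm_num) (by norm_num)
    · exact hq _ (by norm_num) (by norm_num)
    · exact MZ_le_CH (Subgroup.subset_closure (by simp))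
    · exact MZ_le_CH (Subgroup.subset_closure (by simp))

theorem delta_closed : ∀ x ∈ CH, ∀ n < 77, ∃ m < 77, act (dv n) x = dv m := by
  rw [CH_eq_closure]
  have h : ∀ s ∈ {g | g ∈ cwords.map ev}, ∀ n < 77, ∃ m < 77, act (dv n) s = dv m := by
    intro s hs n hn
    obtain ⟨w, hw, rfl⟩ := List.mem_map.mp (show s ∈ cwords.map ev from hs)
    have h1 := List.all_eq_true.mp (List.all_eq_true.mp delta_chk n (List.mem_range.mpr hn)) w hw
    unfold dv
    rw [act_ev]
    exact mem_delta h1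
  exact Abstract.closed_of_gens (G := GG) (V := VV) act (fun v g h => by rw [act_mul])
    (fun v => by rw [act_one]) {g | g ∈ cwords.map ev} 77 dv h

theorem v0_chk : (Nat.beq (vw v0 [1]) v0 && Nat.beq (vw v0 [2]) v0 && Nat.beq (vw v0 [4]) v0 &&
    delta.contains v0 && ((List.range 6).all fun i => !(Nat.beq (vw v0 [gi (i + 2)]) v0))) = true := by
  decide +kernel

theorem v0_chk' : Nat.beq (vw v0 [1]) v0 = true ∧ Nat.beq (vw v0 [2]) v0 = true ∧
    Nat.beq (vw v0 [4]) v0 = true ∧ delta.contains v0 = true ∧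
    ((List.range 6).all fun i => !(Nat.beq (vw v0 [gi (i + 2)]) v0)) = true := by
  have h := v0_chk
  rw [Bool.and_eq_true, Bool.and_eq_true, Bool.and_eq_true, Bool.and_eq_true] at h
  exact ⟨h.1.1.1.1, h.1.1.1.2, h.1.1.2, h.1.2, h.2⟩

theorem vz_fix_e {i : ℕ} (h : Nat.beq (vw v0 [i]) v0 = true) : act vz (e i) = vz := by
  have h1 := act_ev v0 [i]
  rw [ev_cons, ev_nil, mul_one, Nat.eq_of_beq_eq_true h] at h1
  exact h1

theorem H_fix : ∀ h ∈ H, act vz h = vz := by
  obtain ⟨h1, h2, h3, _, _⟩ := v0_chk'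
  have hle : H ≤ Cfsg.Agent.J4.Lower.fixer 112 vz := by
    refine TwoGroup.closure_triple_le ?_ ?_ ?_
    · rw [← e1]; exact vz_fix_e h1
    · rw [← e2]; exact vz_fix_e h2
    · exact vz_fix_e h3
  exact fun h hh => hle hh

theorem v0_lt : v0 < 2 ^ 112 := by decide +kernel

theorem vw_one_lt (i : ℕ) : vw v0 [i] < 2 ^ 112 := by
  rw [vw_cons, vw_nil]; exact vmul_lt _ _

theorem gg_move (i : Fin 7) (hi : i ≠ 0) : act vz (gg i) ≠ vz := by
  obtain ⟨_, _, _, _, h5⟩ := v0_chk'
  intro h
  have hi' : (i : ℕ) ≠ 0 := fun h' => hi (Fin.ext h')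
  have h6 := List.all_eq_true.mp h5 (i - 1) (List.mem_range.mpr (by omega))
  have h7 : (i : ℕ) - 1 + 2 = i + 1 := by omega
  rw [h7] at h6
  unfold gg at h
  have h8 := act_ev v0 [gi (i + 1)]
  rw [ev_cons, ev_nil, mul_one] at h8
  have h9 : toVec 112 (vw v0 [gi (i + 1)]) = toVec 112 v0 := by rw [← h8]; exact h
  have h10 := toVec_inj (vw_one_lt _) v0_lt h9
  rw [h10, Nat.beq_refl] at h6
  exact absurd h6 (by decide)

theorem stab_v0 : ∀ x ∈ R, act vz x = vz → x ∈ H := by
  intro x hx h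
  obtain ⟨i, a, ha, b, hb, rfl⟩ := decomp x hx
  by_cases hi : i = 0
  · rw [hi, gg_zero, mul_one]; exact H.mul_mem ha hb
  · exfalso
    apply gg_move i hi
    rw [act_mul, act_mul, H_fix a ha] at h
    have h2 := act_inv h
    rw [h2, H_fix _ (H.inv_mem hb)]

theorem nws_chk : (nws.all fun t => allIn mH t.2.2 &&
    Nat.beq (evW 112 db (t.2.2 ++ zw)) (evW 112 db (qword 11 t.2.1 ++ t.2.2)) &&
    delta.contains (vw v0 (gi (t.1 + 1) :: t.2.2))) = true := by decide +kernel

theorem zset_chk : (((List.range 2).all fun i => (zset (i + 1)).all fun m =>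
    Nat.beq m 0 || nws.any fun t => Nat.beq t.1 (i + 1) && Nat.beq t.2.1 m) &&
    ((List.range 4).all fun i => (zset (i + 3)).all fun m => Nat.beq m 0)) = true := by
  decide +kernel

theorem z_ne : z ≠ 1 := by
  intro h
  have h2 : qv 960 = qv 0 := by rw [qv_zero]; exact h
  have := qv_inj 960 (by norm_num) 0 (by norm_num) h2
  omega

theorem conj_aux {G : Type*} [Group G] {a g b z : G} (h : a * g * b * z = z * (a * g * b)) :
    g * (b * z * b⁻¹) * g⁻¹ = a⁻¹ * z * a := by
  have h1 : a * (g * (b * z * b⁻¹) * g⁻¹) * a⁻¹ = z := by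
    calc a * (g * (b * z * b⁻¹) * g⁻¹) * a⁻¹ = (a * g * b * z) * (a * g * b)⁻¹ := by group
      _ = z := by rw [h, mul_inv_cancel_right]
  calc g * (b * z * b⁻¹) * g⁻¹ = a⁻¹ * (a * (g * (b * z * b⁻¹) * g⁻¹) * a⁻¹) * a := by group
    _ = _ := by rw [h1]

theorem norm_conj {G : Type*} [Group G] {Q H : Subgroup G} (hn : H ≤ Subgroup.normalizer (Q : Set G))
    {h q : G} (hh : h ∈ H) (hq : q ∈ Q) : h * q * h⁻¹ ∈ Q :=
  (Subgroup.mem_normalizer_iff.mp (hn hh) q).mp hq

theorem ev_qword' (m : ℕ) : ev (qword 11 m) = qv m := ev_qword 11 m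

attribute [local irreducible] qv z vz dv act

/-- every element of the centralizer of `z` moves `v0` inside the orbit of 77 vectors -/
theorem orbit_mem {c : GG} (hc : c ∈ R) (hcz : c * z = z * c) : ∃ m < 77, act vz c = dv m := by
  obtain ⟨i, a, ha, b, hb, rfl⟩ := decomp c hc
  obtain ⟨_, _, _, h4, _⟩ := v0_chk'
  have hact : act vz (a * gg i * b) = act (act vz (gg i)) b := by
    rw [act_mul, act_mul, H_fix a ha]
  by_cases hi : i = 0
  · rw [hact, hi, gg_zero, act_one, H_fix b hb]
    unfold vz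
    exact mem_delta h4
  have h0 := norm_conj H_norm (H.inv_mem ha) z_mem
  have h0' := norm_conj H_norm hb z_mem
  have h1 : gg i * (b * z * b⁻¹) * (gg i)⁻¹ ∈ Q := by
    have h2 := conj_aux (a := a) (g := gg i) (b := b) (z := z) (by exact hcz)
    rw [inv_inv] at h0
    rw [h2]
    exact h0
  obtain ⟨m, hm, e1⟩ := Z_of i hi h0' h1
  have hm0 : m ≠ 0 := by
    intro h0
    rw [h0, qv_zero] at e1
    apply z_ne
    calc z = b⁻¹ * (b * z * b⁻¹) * b := by group
      _ = 1 := by rw [e1]; group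
  have hz := zset_chk
  rw [Bool.and_eq_true] at hz
  have hi' : (i : ℕ) ≠ 0 := fun h' => hi (Fin.ext h')
  rcases Nat.lt_or_ge (i : ℕ) 3 with h3 | h3
  · have h5 := List.all_eq_true.mp (List.all_eq_true.mp hz.1 (i - 1) (List.mem_range.mpr (by omega))) m
    rw [show (i : ℕ) - 1 + 1 = i by omega] at h5
    have h6 := h5 hm
    rw [Bool.or_eq_true] at h6
    rcases h6 with h6 | h6
    · exact absurd (Nat.eq_of_beq_eq_true h6) hm0
    obtain ⟨t, ht, h7⟩ := List.any_eq_true.mp h6
    rw [Bool.and_eq_true] at h7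
    have h8 := Nat.eq_of_beq_eq_true h7.1
    have h9 := Nat.eq_of_beq_eq_true h7.2
    have h10 := List.all_eq_true.mp nws_chk t ht
    rw [Bool.and_eq_true, Bool.and_eq_true] at h10
    obtain ⟨⟨h11, h12⟩, h13⟩ := h10
    have h14 := ev_eq (Nat.eq_of_beq_eq_true h12)
    rw [ev_append, ev_append, ev_qword', ← z_eq, h9] at h14
    have h14' : ev t.2.2 * z = qv m * ev t.2.2 := h14
    have hcH : (ev t.2.2)⁻¹ * b ∈ CH := by
      refine mem_CH ?_ (H.mul_mem (H.inv_mem (ev_mem_H h11)) hb)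
      have h15 : b * z = qv m * b := by rw [← e1]; group
      calc (ev t.2.2)⁻¹ * b * z = (ev t.2.2)⁻¹ * (b * z) := by group
        _ = (ev t.2.2)⁻¹ * (qv m * ev t.2.2) * ((ev t.2.2)⁻¹ * b) := by rw [h15]; group
        _ = z * ((ev t.2.2)⁻¹ * b) := by rw [← h14']; group
    obtain ⟨n, hn, e2⟩ := mem_delta h13
    obtain ⟨k, hk, e3⟩ := delta_closed _ hcH n hn
    refine ⟨k, hk, ?_⟩
    rw [← e3, ← e2, ← act_ev, ev_cons, h8, hact]
    have e4 : b = ev t.2.2 * ((ev t.2.2)⁻¹ * b) := by group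
    conv_lhs => rw [e4]
    rw [act_mul, ← act_mul _ (gg i)]
    unfold vz gg
    rfl
  · exfalso
    have h5 := List.all_eq_true.mp (List.all_eq_true.mp hz.2 (i - 3) (List.mem_range.mpr (by omega))) m
    rw [show (i : ℕ) - 3 + 3 = i by omega] at h5
    exact hm0 (Nat.eq_of_beq_eq_true (h5 hm))

open Classical in
/-- the orbit of 77 vectors -/
noncomputable def Dl : Finset VV := (Finset.range 77).image dv

theorem card_Dl : Dl.card ≤ 77 := by
  classical
  unfold Dl
  exact Finset.card_image_le.trans (by rw [Finset.card_range])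

theorem card_subgroupOf_inf {G : Type*} [Group G] [Finite G] (R H : Subgroup G) (z : R) :
    Nat.card (Subgroup.centralizer ({z} : Set R) ⊓ H.subgroupOf R : Subgroup R) ≤
      Nat.card (Subgroup.centralizer {(z : G)} ⊓ H : Subgroup G) := by
  apply Nat.card_le_card_of_injective
    (fun x : (Subgroup.centralizer ({z} : Set R) ⊓ H.subgroupOf R : Subgroup R) =>
      (⟨((x : R) : G), ⟨Subgroup.mem_centralizer_singleton_iff.mpr
        (congrArg Subtype.val (Subgroup.mem_centralizer_singleton_iff.mp x.2.1)), x.2.2⟩⟩ :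
        (Subgroup.centralizer {(z : G)} ⊓ H : Subgroup G)))
  intro a b hab
  apply Subtype.ext
  apply Subtype.ext
  have h := congrArg Subtype.val hab
  exact h

/-- an upper bound for the centralizer of `z` in a subgroup `R` from an action -/
theorem card_centralizer_le {G V : Type*} [Group G] [Finite G] (act : V → G → V)
    (act_mul : ∀ v g h, act v (g * h) = act (act v g) h) (act_one : ∀ v, act v 1 = v)
    (R H : Subgroup G) (z : R) (v : V) (hst : ∀ x ∈ R, act v x = v → x ∈ H) (D : Finset V)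
    (hD : ∀ c ∈ R, c * z = z * c → act v c ∈ D) :
    Nat.card (Subgroup.centralizer ({z} : Set R)) ≤
      Nat.card (Subgroup.centralizer {(z : G)} ⊓ H : Subgroup G) * D.card := by
  refine (CentralizerCount.card_le_mul (G := R) (Subgroup.centralizer ({z} : Set R))
    (H.subgroupOf R) (fun c => act v c) ?_ D ?_).trans
      (Nat.mul_le_mul_right _ (card_subgroupOf_inf R H z))
  · intro a b hab
    refine hst _ (R.mul_mem a.2 (R.inv_mem b.2)) ?_
    have hab' : act v a = act v b := hab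
    show act v ((a : G) * (b : G)⁻¹) = v
    rw [act_mul, hab', ← act_mul, mul_inv_cancel, act_one]
  · intro c hc
    exact hD c c.2 (congrArg Subtype.val (Subgroup.mem_centralizer_singleton_iff.mp hc))

theorem zR_coe : ((Cfsg.Agent.J4C.Link.zR : R) : GG) = z := z_eq.symm

/-- **The upper bound.** -/
theorem card_Cz_le : Nat.card Cfsg.Agent.J4C.Link.Cz ≤ 21799895040 := by
  have h1 : ∀ c ∈ R, c * (Cfsg.Agent.J4C.Link.zR : GG) = (Cfsg.Agent.J4C.Link.zR : GG) * c →
      act vz c ∈ Dl := by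
    intro c hc hcz
    rw [zR_coe] at hcz
    obtain ⟨m, hm, e1⟩ := orbit_mem hc hcz
    unfold Dl
    rw [Finset.mem_image]
    exact ⟨m, Finset.mem_range.mpr hm, e1.symm⟩
  have h := card_centralizer_le (G := GG) (V := VV) act (fun v g h => by rw [act_mul])
    (fun v => by rw [act_one]) R H Cfsg.Agent.J4C.Link.zR vz stab_v0 Dl h1
  have h2 : Nat.card (Subgroup.centralizer {((Cfsg.Agent.J4C.Link.zR : R) : GG)} ⊓ H : Subgroup GG) ≤
      2 ^ 11 * 138240 := by
    rw [zR_coe]; exact card_CH_le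
  calc Nat.card Cfsg.Agent.J4C.Link.Cz ≤ _ := h
    _ ≤ (2 ^ 11 * 138240) * 77 := Nat.mul_le_mul h2 card_Dl
    _ = 21799895040 := by norm_num

end Cfsg.Agent.J4M.CenBound
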