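import Cfsg.Agent.J4M.Words
import Cfsg.Agent.J4M.DBData

/-!
Kernel verification of the relations.
-/
set_option autoImplicit false

namespace Cfsg.Agent.J4M.Checks

open Cfsg.Agent.J4M.Derive Cfsg.Agent.J4M.Words Cfsg.Agent.J4M.DBData Cfsg.Agent.Lib.F2MatGroup

theorem msteps0_ok : eqs 112 (msteps0.map Step.eq) db = true := by decide +kernel
theorem msteps1_ok : eqs 112 (msteps1.map Step.eq) db = true := by decide +kernel
theorem msteps2_ok : eqs 112 (msteps2.map Step.eq) db = true := by decide +kernel
theorem msteps3_ok : eqs 112 (msteps3.map Step.eq) db = true := by decide +kernel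
theorem msteps_ok : ∀ s ∈ msteps, evW 112 db (Step.eq s).1 = evW 112 db (Step.eq s).2 := by
  intro s hs
  simp only [msteps, List.mem_append] at hs
  rcases hs with h | h | h | h
  · exact eqs_get msteps0_ok _ (List.mem_map_of_mem h)
  · exact eqs_get msteps1_ok _ (List.mem_map_of_mem h)
  · exact eqs_get msteps2_ok _ (List.mem_map_of_mem h)
  · exact eqs_get msteps3_ok _ (List.mem_map_of_mem h)

theorem csteps0_ok : eqs 112 (csteps0.map Step.eq) db = true := by decide +kernel
theorem csteps_ok : ∀ s ∈ csteps, evW 112 db (Step.eq s).1 = evW 112 db (Step.eq s).2 := by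
  intro s hs
  exact eqs_get csteps0_ok _ (List.mem_map_of_mem hs)

theorem tsteps0_ok : eqs 112 (tsteps0.map Step.eq) db = true := by decide +kernel
theorem tsteps_ok : ∀ s ∈ tsteps, evW 112 db (Step.eq s).1 = evW 112 db (Step.eq s).2 := by
  intro s hs
  exact eqs_get tsteps0_ok _ (List.mem_map_of_mem hs)

theorem gsteps0_ok : eqs 112 (gsteps0.map Step.eq) db = true := by decide +kernel
theorem gsteps_ok : ∀ s ∈ gsteps, evW 112 db (Step.eq s).1 = evW 112 db (Step.eq s).2 := by
  intro s hs
  exact eqs_get gsteps0_ok _ (List.mem_map_of_mem hs)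

theorem qrels0_ok : eqs 112 (qrels0.map id) db = true := by decide +kernel
theorem qrels1_ok : eqs 112 (qrels1.map id) db = true := by decide +kernel
theorem qrels2_ok : eqs 112 (qrels2.map id) db = true := by decide +kernel
theorem qrels_ok : ∀ s ∈ qrels, evW 112 db (id s).1 = evW 112 db (id s).2 := by
  intro s hs
  simp only [qrels, List.mem_append] at hs
  rcases hs with h | h | h
  · exact eqs_get qrels0_ok _ (List.mem_map_of_mem h)
  · exact eqs_get qrels1_ok _ (List.mem_map_of_mem h)
  · exact eqs_get qrels2_ok _ (List.mem_map_of_mem h)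

theorem qdeps0_ok : eqs 112 (qdeps0.map id) db = true := by decide +kernel
theorem qdeps_ok : ∀ s ∈ qdeps, evW 112 db (id s).1 = evW 112 db (id s).2 := by
  intro s hs
  exact eqs_get qdeps0_ok _ (List.mem_map_of_mem hs)

theorem conjs0_ok : eqs 112 (conjs0.map id) db = true := by decide +kernel
theorem conjs1_ok : eqs 112 (conjs1.map id) db = true := by decide +kernel
theorem conjs2_ok : eqs 112 (conjs2.map id) db = true := by decide +kernel
theorem conjs_ok : ∀ s ∈ conjs, evW 112 db (id s).1 = evW 112 db (id s).2 := by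
  intro s hs
  simp only [conjs, List.mem_append] at hs
  rcases hs with h | h | h
  · exact eqs_get conjs0_ok _ (List.mem_map_of_mem h)
  · exact eqs_get conjs1_ok _ (List.mem_map_of_mem h)
  · exact eqs_get conjs2_ok _ (List.mem_map_of_mem h)

theorem brels0_ok : eqs 112 (brels0.map BR.eq) db = true := by decide +kernel
theorem brels1_ok : eqs 112 (brels1.map BR.eq) db = true := by decide +kernel
theorem brels2_ok : eqs 112 (brels2.map BR.eq) db = true := by decide +kernel
theorem brels_ok : ∀ s ∈ brels, evW 112 db (BR.eq s).1 = evW 112 db (BR.eq s).2 := by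
  intro s hs
  simp only [brels, List.mem_append] at hs
  rcases hs with h | h | h
  · exact eqs_get brels0_ok _ (List.mem_map_of_mem h)
  · exact eqs_get brels1_ok _ (List.mem_map_of_mem h)
  · exact eqs_get brels2_ok _ (List.mem_map_of_mem h)

theorem dcs0_ok : eqs 112 (dcs0.map DC.eq) db = true := by decide +kernel
theorem dcs1_ok : eqs 112 (dcs1.map DC.eq) db = true := by decide +kernel
theorem dcs2_ok : eqs 112 (dcs2.map DC.eq) db = true := by decide +kernel
theorem dcs3_ok : eqs 112 (dcs3.map DC.eq) db = true := by decide +kernel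
theorem dcs4_ok : eqs 112 (dcs4.map DC.eq) db = true := by decide +kernel
theorem dcs5_ok : eqs 112 (dcs5.map DC.eq) db = true := by decide +kernel
theorem dcs6_ok : eqs 112 (dcs6.map DC.eq) db = true := by decide +kernel
theorem dcs7_ok : eqs 112 (dcs7.map DC.eq) db = true := by decide +kernel
theorem dcs8_ok : eqs 112 (dcs8.map DC.eq) db = true := by decide +kernel
theorem dcs9_ok : eqs 112 (dcs9.map DC.eq) db = true := by decide +kernel
theorem dcs10_ok : eqs 112 (dcs10.map DC.eq) db = true := by decide +kernel
theorem dcs11_ok : eqs 112 (dcs11.map DC.eq) db = true := by decide +kernel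
theorem dcs12_ok : eqs 112 (dcs12.map DC.eq) db = true := by decide +kernel
theorem dcs13_ok : eqs 112 (dcs13.map DC.eq) db = true := by decide +kernel
theorem dcs14_ok : eqs 112 (dcs14.map DC.eq) db = true := by decide +kernel
theorem dcs15_ok : eqs 112 (dcs15.map DC.eq) db = true := by decide +kernel
theorem dcs16_ok : eqs 112 (dcs16.map DC.eq) db = true := by decide +kernel
theorem dcs17_ok : eqs 112 (dcs17.map DC.eq) db = true := by decide +kernel
theorem dcs18_ok : eqs 112 (dcs18.map DC.eq) db = true := by decide +kernel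
theorem dcs19_ok : eqs 112 (dcs19.map DC.eq) db = true := by decide +kernel
theorem dcs_ok : ∀ s ∈ dcs, evW 112 db (DC.eq s).1 = evW 112 db (DC.eq s).2 := by
  intro s hs
  simp only [dcs, List.mem_append] at hs
  rcases hs with h | h | h | h | h | h | h | h | h | h | h | h | h | h | h | h | h | h | h | h
  · exact eqs_get dcs0_ok _ (List.mem_map_of_mem h)
  · exact eqs_get dcs1_ok _ (List.mem_map_of_mem h)
  · exact eqs_get dcs2_ok _ (List.mem_map_of_mem h)
  · exact eqs_get dcs3_ok _ (List.mem_map_of_mem h)
  · exact eqs_get dcs4_ok _ (List.mem_map_of_mem h)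
  · exact eqs_get dcs5_ok _ (List.mem_map_of_mem h)
  · exact eqs_get dcs6_ok _ (List.mem_map_of_mem h)
  · exact eqs_get dcs7_ok _ (List.mem_map_of_mem h)
  · exact eqs_get dcs8_ok _ (List.mem_map_of_mem h)
  · exact eqs_get dcs9_ok _ (List.mem_map_of_mem h)
  · exact eqs_get dcs10_ok _ (List.mem_map_of_mem h)
  · exact eqs_get dcs11_ok _ (List.mem_map_of_mem h)
  · exact eqs_get dcs12_ok _ (List.mem_map_of_mem h)
  · exact eqs_get dcs13_ok _ (List.mem_map_of_mem h)
  · exact eqs_get dcs14_ok _ (List.mem_map_of_mem h)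
  · exact eqs_get dcs15_ok _ (List.mem_map_of_mem h)
  · exact eqs_get dcs16_ok _ (List.mem_map_of_mem h)
  · exact eqs_get dcs17_ok _ (List.mem_map_of_mem h)
  · exact eqs_get dcs18_ok _ (List.mem_map_of_mem h)
  · exact eqs_get dcs19_ok _ (List.mem_map_of_mem h)

theorem krels0_ok : eqs 112 (krels0.map id) db = true := by decide +kernel
theorem krels1_ok : eqs 112 (krels1.map id) db = true := by decide +kernel
theorem krels_ok : ∀ s ∈ krels, evW 112 db (id s).1 = evW 112 db (id s).2 := by
  intro s hs
  simp only [krels, List.mem_append] at hs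
  rcases hs with h | h
  · exact eqs_get krels0_ok _ (List.mem_map_of_mem h)
  · exact eqs_get krels1_ok _ (List.mem_map_of_mem h)

end Cfsg.Agent.J4M.Checks
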