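import Cfsg.Agent.J4M.Gamma

/-!
Kernel verification of the orbit of 15180 vectors.
-/
set_option autoImplicit false

namespace Cfsg.Agent.J4M.GammaCheck

open Cfsg.Agent.J4M.Gamma

theorem chk2_0 : chkR 2 (bw 2 0) (bw 2 1) 0 5 = true := by decide +kernel
theorem chk2_5 : chkR 2 (bw 2 0) (bw 2 1) 5 5 = true := by decide +kernel
theorem chk2_10 : chkR 2 (bw 2 0) (bw 2 1) 10 5 = true := by decide +kernel
theorem chk3_0 : chkR 3 (bw 3 0) (bw 3 1) 0 5 = true := by decide +kernel
theorem chk3_5 : chkR 3 (bw 3 0) (bw 3 1) 5 5 = true := by decide +kernel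
theorem chk3_10 : chkR 3 (bw 3 0) (bw 3 1) 10 5 = true := by decide +kernel
theorem chk4_0 : chkR 4 (bw 4 0) (bw 4 1) 0 5 = true := by decide +kernel
theorem chk4_5 : chkR 4 (bw 4 0) (bw 4 1) 5 5 = true := by decide +kernel
theorem chk4_10 : chkR 4 (bw 4 0) (bw 4 1) 10 5 = true := by decide +kernel
theorem chk5_0 : chkR 5 (bw 5 0) (bw 5 1) 0 5 = true := by decide +kernel
theorem chk5_5 : chkR 5 (bw 5 0) (bw 5 1) 5 5 = true := by decide +kernel
theorem chk5_10 : chkR 5 (bw 5 0) (bw 5 1) 10 5 = true := by decide +kernel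
theorem chk6_0 : chkR 6 (bw 6 0) (bw 6 1) 0 5 = true := by decide +kernel
theorem chk6_5 : chkR 6 (bw 6 0) (bw 6 1) 5 5 = true := by decide +kernel
theorem chk6_10 : chkR 6 (bw 6 0) (bw 6 1) 10 5 = true := by decide +kernel
theorem chk7_0 : chkR 7 (bw 7 0) (bw 7 1) 0 5 = true := by decide +kernel
theorem chk7_5 : chkR 7 (bw 7 0) (bw 7 1) 5 5 = true := by decide +kernel
theorem chk7_10 : chkR 7 (bw 7 0) (bw 7 1) 10 5 = true := by decide +kernel

theorem sorted0 : loop (fun c => sortedB c 1012) 14 = true := by decide +kernel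
theorem sorted1 : sortedB 14 1011 = true := by decide +kernel

end Cfsg.Agent.J4M.GammaCheck
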