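import Mathlib

/-!
Words for the stabilizer `K` of the vector `p` (data).
-/
set_option autoImplicit false

namespace Cfsg.Agent.J4M.KData

/-- the all-one vector -/
def v0 : ℕ := 0xffffffffffffffffffffffffffff

/-- words generating the intersection with `Q` -/
def awords : List (List ℕ) := [[6], [9], [19], [16], [21], [25], [17, 22], [13, 20], [13, 22]]

/-- independent elements of `Q`; the last nine are those of `awords` -/
def qwords : List (List ℕ) := [[4], [10], [6], [9], [19], [16], [21], [25], [17, 22], [13, 20], [13, 22]]

/-- vectors showing the independence -/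
def qvecs : List ℕ := [0x3c3c3c3cc3c713c4ecc39a719739, 0x142814284185014444410a100128, 0xfffffffc0003ffffe0383401, 0xf0f0f0f0f0c3f1fdef1df87705d, 0xfffffffff0fffe001fe0, 0x6719900001b51a0, 0x672f5b51ac, 0x9, 0x2, 0x1, 0x4]

end Cfsg.Agent.J4M.KData
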