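import Cfsg.Agent.J4M.MGroup
import Cfsg.Agent.J4M.GammaCheck
import Cfsg.Agent.J4M.KData
import Cfsg.Agent.J4M.Abstract

/-!
The decomposition of `R = ⟨x, y, t⟩` into seven double cosets of `H = 2^11 : M24`.
-/
set_option autoImplicit false

namespace Cfsg.Agent.J4M.Decomp

open Cfsg.Agent.Lib Cfsg.Agent.Lib.F2Mat Cfsg.Agent.Lib.F2MatGroup
open Cfsg.Agent.J4.Rep112 Cfsg.Agent.J4.GroupLemmas
open Cfsg.Agent.J4.Lower (fixer mem_fixer wchk wchk_sound)
open Cfsg.Agent.J4M.DBData Cfsg.Agent.J4M.Derive Cfsg.Agent.J4M.Words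
open Cfsg.Agent.J4M.Base Cfsg.Agent.J4M.QBase Cfsg.Agent.J4M.MPerm Cfsg.Agent.J4M.MGroup
open Cfsg.Agent.J4M.Gamma Cfsg.Agent.J4M.GammaCheck Cfsg.Agent.J4M.KData

/-- row vectors -/
abbrev VV := Fin 112 → ZMod 2

/-- the action on row vectors -/
def act {n : ℕ} {F : Type} [Semiring F] (v : Fin n → F) (g : GL (Fin n) F) : Fin n → F :=
  Matrix.vecMul v (g : Matrix (Fin n) (Fin n) F)

theorem act_mul {n : ℕ} {F : Type} [Semiring F] (v : Fin n → F) (g h : GL (Fin n) F) :
    act v (g * h) = act (act v g) h := by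
  unfold act
  rw [Units.val_mul, Matrix.vecMul_vecMul]

theorem act_one {n : ℕ} {F : Type} [Semiring F] (v : Fin n → F) : act v 1 = v := by
  unfold act
  rw [Units.val_one, Matrix.vecMul_one]

theorem act_inv {n : ℕ} {F : Type} [Semiring F] {v w : Fin n → F} {g : GL (Fin n) F}
    (h : act v g = w) : v = act w g⁻¹ := by
  rw [← h, ← act_mul, mul_inv_cancel, act_one]

theorem act_codes {g : GG} {A : ℕ} (hg : Codes 112 g A) (v : ℕ) :
    act (toVec 112 v) g = toVec 112 (vmul 112 v A) := by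
  unfold act
  unfold Codes at hg
  rw [hg, toVec_vmul]

theorem act_e (v i : ℕ) :
    act (toVec 112 v) (e i) = toVec 112 (vmul 112 v (get (F2Mat.one 112) db i)) :=
  act_codes (codes_e i) v

theorem act_ev (v : ℕ) (w : List ℕ) : act (toVec 112 v) (ev w) = toVec 112 (vw v w) := by
  induction w generalizing v with
  | nil => rw [ev_nil, act_one, vw_nil]
  | cons i w ih => rw [ev_cons, act_mul, act_e, ih, vw_cons]

/-- the vector `p = v0 t` -/
def pc : ℕ := vw v0 [3]

/-- the vector `p = v0 t` -/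
noncomputable def p : VV := toVec 112 pc

theorem root_chk : (dcs.all fun d => Nat.beq (row d.n) (vw pc d.h)) = true := by decide +kernel

theorem root_vec {d : DC} (hd : d ∈ dcs) : gv d.n = act p (ev d.h) := by
  have h := Nat.eq_of_beq_eq_true (List.all_eq_true.mp root_chk d hd)
  unfold p gv
  rw [act_ev, h]

/-- the group number `i` -/
noncomputable def B (i : ℕ) : Subgroup GG := Subgroup.closure {ev (bw i 0), ev (bw i 1)}

theorem good_of {i : ℕ} (h0 : chkR i (bw i 0) (bw i 1) 0 5 = true)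
    (h1 : chkR i (bw i 0) (bw i 1) 5 5 = true) (h2 : chkR i (bw i 0) (bw i 1) 10 5 = true) :
    ∀ n < 15180, Good i n (evW 112 db (bw i 0)) (evW 112 db (bw i 1)) := by
  intro n hn
  rcases Nat.lt_or_ge n 5060 with h3 | h3
  · exact chkR_sound h0 (by omega) (by omega)
  rcases Nat.lt_or_ge n 10120 with h4 | h4
  · exact chkR_sound h1 (by omega) (by omega)
  · exact chkR_sound h2 (by omega) (by omega)

theorem good : ∀ i, 2 ≤ i → i ≤ 7 →
    ∀ n < 15180, Good i n (evW 112 db (bw i 0)) (evW 112 db (bw i 1)) := by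
  intro i h1 h2
  interval_cases i
  · exact good_of chk2_0 chk2_5 chk2_10
  · exact good_of chk3_0 chk3_5 chk3_10
  · exact good_of chk4_0 chk4_5 chk4_10
  · exact good_of chk5_0 chk5_5 chk5_10
  · exact good_of chk6_0 chk6_5 chk6_10
  · exact good_of chk7_0 chk7_5 chk7_10

theorem vecMul_evW (v : VV) (w : List ℕ) :
    Matrix.vecMul v (F2Mat.toMat 112 (evW 112 db w)) = act v (ev w) := by
  unfold act
  have h := codes_ev w
  unfold Codes at h
  rw [h]

theorem reach {i : ℕ} (h1 : 2 ≤ i) (h2 : i ≤ 7) : ∀ n < 15180,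
    ∃ d ∈ dcs, d.i = i ∧ ∃ b ∈ B i, gv n = act p (ev d.h * b) := by
  have key : ∀ k n, n < 15180 → depth (field i n) = k →
      ∃ d ∈ dcs, d.i = i ∧ ∃ b ∈ B i, gv n = act p (ev d.h * b) := by
    intro k
    induction k using Nat.strong_induction_on with
    | _ k ih =>
      intro n hn hk
      rcases good i h1 h2 n hn with h | ⟨m, hm, hd, h⟩
      · obtain ⟨d, hd, h⟩ := List.any_eq_true.mp h
        rw [Bool.and_eq_true] at h
        refine ⟨d, hd, Nat.eq_of_beq_eq_true h.1, 1, (B i).one_mem, ?_⟩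
        rw [mul_one, ← root_vec hd, Nat.eq_of_beq_eq_true h.2]
      · obtain ⟨d, hd, hdi, b, hb, e⟩ := ih _ (hk ▸ hd) m hm rfl
        rw [vecMul_evW, vecMul_evW] at h
        rcases h with h | h
        · refine ⟨d, hd, hdi, b * (ev (bw i 0))⁻¹, (B i).mul_mem hb
            ((B i).inv_mem (Subgroup.subset_closure (by simp))), ?_⟩
          rw [act_inv h, e, ← act_mul, mul_assoc]
        · refine ⟨d, hd, hdi, b * (ev (bw i 1))⁻¹, (B i).mul_mem hb
            ((B i).inv_mem (Subgroup.subset_closure (by simp))), ?_⟩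
          rw [act_inv h, e, ← act_mul, mul_assoc]
  exact fun n hn => key _ n hn rfl

theorem row_strictMono : ∀ n, n + 1 < 15180 → row n < row (n + 1) := by
  intro n hn
  have e : 1012 * (n / 1012) + n % 1012 = n := Nat.div_add_mod n 1012
  rcases Nat.lt_or_ge (n / 1012) 14 with h | h
  · have h1 := loop_sound sorted0 (n / 1012) h
    have h2 := sortedB_sound h1 (j := n % 1012) (by omega) (by omega)
    rwa [e] at h2
  · have h3 : n / 1012 = 14 := by omega
    have h2 := sortedB_sound sorted1 (j := n % 1012) (by omega) (by omega)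
    rw [← h3, e] at h2
    exact h2

theorem row_lt_of_lt : ∀ k n, n + k + 1 < 15180 → row n < row (n + k + 1) := by
  intro k
  induction k with
  | zero => intro n hn; exact row_strictMono n hn
  | succ k ih =>
    intro n hn
    exact (ih n (by omega)).trans (row_strictMono (n + k + 1) (by omega))

theorem gv_inj : ∀ m < 15180, ∀ n < 15180, gv m = gv n → m = n := by
  intro m hm n hn h
  have h1 : row m = row n := toVec_inj (row_lt m) (row_lt n) h
  rcases Nat.lt_trichotomy m n with h2 | h2 | h2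
  · obtain ⟨k, rfl⟩ := Nat.exists_eq_add_of_lt h2
    have := row_lt_of_lt k m hn
    omega
  · exact h2
  · obtain ⟨k, rfl⟩ := Nat.exists_eq_add_of_lt h2
    have := row_lt_of_lt k n hm
    omega

/-! ### The stabilizer of `p` -/

/-- words generating the stabilizer of `p` -/
def kwords : List (List ℕ) := wK0 :: wK1 :: awords

/-- the stabilizer of `p` in `H` -/
noncomputable def K : Subgroup GG := Subgroup.closure {g | g ∈ kwords.map ev}

theorem closure_map_le {K : Subgroup GG} {l : List (List ℕ)} (h : ∀ w ∈ l, ev w ∈ K) :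
    Subgroup.closure {g | g ∈ l.map ev} ≤ K := by
  rw [Subgroup.closure_le]
  intro g hg
  obtain ⟨w, hw, rfl⟩ := List.mem_map.mp (show g ∈ l.map ev from hg)
  exact h w hw

theorem mem_closure_map {l : List (List ℕ)} {w : List ℕ} (h : w ∈ l) :
    ev w ∈ Subgroup.closure {g | g ∈ l.map ev} :=
  Subgroup.subset_closure (List.mem_map.mpr ⟨w, h, rfl⟩)

theorem K_chk1 : (kwords.all fun w => allIn mH w) = true := by decide +kernel
theorem K_chk2 : (kwords.all fun w => Nat.beq (vw pc w) pc) = true := by decide +kernel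
theorem K_chk3 : (kwords.all fun w => krels.any fun r =>
    (r.1 == 3 :: w) && (r.2 == r.2.dropLast ++ [3]) && allIn mH r.2.dropLast) = true := by
  decide +kernel

theorem K_le_H : K ≤ H := closure_map_le fun w hw => ev_mem_H (List.all_eq_true.mp K_chk1 w hw)

theorem K_fix : ∀ k ∈ K, act p k = p := by
  have h : K ≤ fixer 112 p := closure_map_le fun w hw => by
    rw [mem_fixer]
    show act p (ev w) = p
    unfold p
    rw [act_ev, Nat.eq_of_beq_eq_true (List.all_eq_true.mp K_chk2 w hw)]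
  intro k hk
  exact h hk

theorem krel {a b : List ℕ} (h : (a, b) ∈ krels) : ev a = ev b := ev_eq (Checks.krels_ok _ h)

theorem conj_le {G : Type*} [Group G] {K H : Subgroup G} {t : G} (ht : t * t = 1) {S : Set G}
    (hK : K = Subgroup.closure S) (h : ∀ s ∈ S, t * s * t ∈ H) : ∀ k ∈ K, t * k * t ∈ H := by
  have hinv : t⁻¹ = t := inv_eq_of_mul_eq_one_left ht
  have hle : K ≤ H.comap (MulAut.conj t).toMonoidHom := by
    rw [hK, Subgroup.closure_le]
    intro s hs
    show t * s * t⁻¹ ∈ H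
    rw [hinv]; exact h s hs
  intro k hk
  have : t * k * t⁻¹ ∈ H := hle hk
  rwa [hinv] at this

theorem K_conj : ∀ k ∈ K, tg * k * tg ∈ H := by
  refine conj_le tg_sq rfl ?_
  intro s hs
  obtain ⟨w, hw, rfl⟩ := List.mem_map.mp (show s ∈ kwords.map ev from hs)
  obtain ⟨r, hr, h⟩ := List.any_eq_true.mp (List.all_eq_true.mp K_chk3 w hw)
  rw [Bool.and_eq_true, Bool.and_eq_true, beq_iff_eq, beq_iff_eq] at h
  obtain ⟨⟨h1, h2⟩, h3⟩ := h
  have h4 : (3 :: w, r.2.dropLast ++ [3]) ∈ krels := by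
    rw [← h1, ← h2]; exact hr
  have h5 := krel h4
  rw [ev_cons, ev_append, ev_cons, ev_nil, mul_one, e3] at h5
  rw [h5, mul_assoc, tg_sq, mul_one]
  exact ev_mem_H h3

/-- the intersection of `K` with `Q` -/
noncomputable def A : Subgroup GG := Subgroup.closure {g | g ∈ awords.map ev}

theorem qwords_chk : (qwords.all fun w => allIn mC w) = true := by decide +kernel

theorem qw_mem {w : List ℕ} (hw : w ∈ qwords) : ev w ∈ Q :=
  ev_mem_Q (List.all_eq_true.mp qwords_chk w hw)

theorem ind_q : Ind (qwords.map ev) := by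
  refine wchk_sound (n := 112) (ws := qvecs) (L := qwords.map (evW 112 db)) ?_
    (by decide +kernel) (by rw [List.length_map]; decide)
  rw [List.forall₂_map_left_iff, List.forall₂_map_right_iff, List.forall₂_same]
  exact fun w _ => codes_ev w

theorem qwords_eq : qwords = [4] :: [10] :: awords := rfl

theorem ind_a : Ind (awords.map ev) := by
  have h := ind_q
  rw [qwords_eq, List.map_cons, List.map_cons] at h
  exact h.2.2

theorem aw_mem {w : List ℕ} (hw : w ∈ awords) : ev w ∈ Q := by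
  refine qw_mem ?_
  rw [qwords_eq]
  exact List.mem_cons_of_mem _ (List.mem_cons_of_mem _ hw)

theorem card_of_ind {l : List (List ℕ)} (h : Ind (l.map ev)) (hl : ∀ w ∈ l, ev w ∈ Q) :
    2 ^ l.length ∣ Nat.card (Subgroup.closure {g | g ∈ l.map ev}) := by
  have := (two_group (l.map ev) ?_ ?_ h).2
  · rwa [List.length_map] at this
  · intro q hq
    obtain ⟨w, hw, rfl⟩ := List.mem_map.mp hq
    exact Q_sq _ (hl w hw)
  · intro a ha b hb
    obtain ⟨w, hw, rfl⟩ := List.mem_map.mp ha
    obtain ⟨w', hw', rfl⟩ := List.mem_map.mp hb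
    exact Q_comm _ (hl w hw) _ (hl w' hw')

theorem card_A_ge : 2 ^ 9 ≤ Nat.card A := Nat.le_of_dvd Nat.card_pos (card_of_ind ind_a fun _ => aw_mem)

theorem card_Q : Nat.card Q = 2 ^ 11 := by
  apply le_antisymm card_Q_le
  have h := card_of_ind ind_q fun _ => qw_mem
  have hle : Subgroup.closure {g | g ∈ qwords.map ev} ≤ Q := closure_map_le fun _ => qw_mem
  exact (Nat.le_of_dvd Nat.card_pos h).trans
    (Nat.le_of_dvd Nat.card_pos (Subgroup.card_dvd_of_le hle))

theorem A_le_Q : A ≤ Q := closure_map_le fun _ => aw_mem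

theorem card_K_ge : 2 ^ 9 * 64512 ≤ Nat.card K := by
  refine (Nat.mul_le_mul card_A_ge cardK_ge).trans ?_
  refine TwoGroup.card_mul_le_card A (Subgroup.closure {ev wK0, ev wK1}) K ?_ ?_ ?_
  · exact closure_map_le fun w hw => mem_closure_map (List.mem_cons_of_mem _ (List.mem_cons_of_mem _ hw))
  · exact closure_pair_le (mem_closure_map (List.mem_cons_self ..))
      (mem_closure_map (List.mem_cons_of_mem _ (List.mem_cons_self ..)))
  · rw [eq_bot_iff, ← Q_inf_M]
    refine inf_le_inf A_le_Q (closure_pair_le ?_ ?_)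
    · exact ev_mem_M (by decide +kernel)
    · exact ev_mem_M (by decide +kernel)

theorem card_H_le' : Nat.card H ≤ Nat.card K * 15180 := by
  refine card_H_le.trans ?_
  calc 2 ^ 11 * 244823040 = (2 ^ 9 * 64512) * 15180 := by norm_num
    _ ≤ Nat.card K * 15180 := Nat.mul_le_mul_right _ card_K_ge

/-! ### The double cosets -/

/-- representatives of the double cosets -/
noncomputable def gg (i : Fin 7) : GG := e (gi (i + 1))

/-- subgroups of `H` conjugated into `H` by the representatives -/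
noncomputable def BB (i : Fin 7) : Subgroup GG := if i = 0 then H else B (i + 1)

/-- the representatives of the double cosets in `H` -/
noncomputable def reps (i : Fin 7) : Set GG :=
  if i = 0 then {1} else {g | ∃ d ∈ dcs, d.i = i + 1 ∧ g = ev d.h}

theorem bw_chk : ((List.range 6).all fun i => (List.range 2).all fun g =>
    brels.any fun s => (Nat.beq s.i (i + 2)) && (s.b == bw (i + 2) g) && allIn mH s.b &&
      allIn mH s.c) = true := by decide +kernel

theorem brel {s : BR} (h : s ∈ brels) : ev s.eq.1 = ev s.eq.2 := ev_eq (Checks.brels_ok _ h)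

theorem bw_prop {i g : ℕ} (h1 : 2 ≤ i) (h2 : i ≤ 7) (hg : g < 2) :
    ev (bw i g) ∈ H ∧ ∃ c ∈ H, ev (bw i g) * e (gi i) = e (gi i) * c := by
  have h := List.all_eq_true.mp (List.all_eq_true.mp bw_chk (i - 2)
    (List.mem_range.mpr (by omega))) g (List.mem_range.mpr hg)
  obtain ⟨s, hs, h⟩ := List.any_eq_true.mp h
  rw [Bool.and_eq_true, Bool.and_eq_true, Bool.and_eq_true, beq_iff_eq] at h
  obtain ⟨⟨⟨h3, h4⟩, h5⟩, h6⟩ := h
  have h3' := Nat.eq_of_beq_eq_true h3
  rw [show i - 2 + 2 = i by omega] at h3' h4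
  rw [← h4]
  refine ⟨ev_mem_H h5, ev s.c, ev_mem_H h6, ?_⟩
  have h7 := brel hs
  unfold BR.eq at h7
  rw [ev_append, ev_cons, ev_nil, mul_one, ev_cons, h3'] at h7
  exact h7

theorem B_le_H {i : ℕ} (h1 : 2 ≤ i) (h2 : i ≤ 7) : B i ≤ H :=
  closure_pair_le (bw_prop h1 h2 (by norm_num)).1 (bw_prop h1 h2 (by norm_num)).1

theorem conj_mem_of_gens {G : Type*} [Group G] {H : Subgroup G} {a b g : G}
    (ha : ∃ c ∈ H, a * g = g * c) (hb : ∃ c ∈ H, b * g = g * c) :
    ∀ x ∈ Subgroup.closure {a, b}, g⁻¹ * x * g ∈ H := by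
  have hle : Subgroup.closure {a, b} ≤ H.comap (MulAut.conj g⁻¹).toMonoidHom := by
    refine closure_pair_le ?_ ?_
    · obtain ⟨c, hc, e⟩ := ha
      show g⁻¹ * a * g⁻¹⁻¹ ∈ H
      rw [inv_inv, mul_assoc, e, inv_mul_cancel_left]; exact hc
    · obtain ⟨c, hc, e⟩ := hb
      show g⁻¹ * b * g⁻¹⁻¹ ∈ H
      rw [inv_inv, mul_assoc, e, inv_mul_cancel_left]; exact hc
  intro x hx
  have : g⁻¹ * x * g⁻¹⁻¹ ∈ H := hle hx
  rwa [inv_inv] at this

theorem gi_one : gi 1 = 0 := by decide
theorem gi_two : gi 2 = 3 := by decide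

theorem BB_le (i : Fin 7) : BB i ≤ H := by
  unfold BB
  split
  · exact le_rfl
  · rename_i h
    have : (i : ℕ) ≠ 0 := fun h' => h (Fin.ext h')
    exact B_le_H (by omega) (by omega)

theorem BB_conj (i : Fin 7) : ∀ b ∈ BB i, (gg i)⁻¹ * b * gg i ∈ H := by
  unfold BB gg
  split
  · rename_i h
    subst h
    intro b hb
    have : gi (((0 : Fin 7) : ℕ) + 1) = 0 := by decide
    rw [this, e0, inv_one, one_mul, mul_one]
    exact hb
  · rename_i h
    have : (i : ℕ) ≠ 0 := fun h' => h (Fin.ext h')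
    exact conj_mem_of_gens (bw_prop (by omega) (by omega) (by norm_num)).2
      (bw_prop (by omega) (by omega) (by norm_num)).2

theorem dc_chk : (dcs.all fun d => allIn mH d.h && allIn mH d.a && allIn mH d.b &&
    Nat.ble 1 d.k && Nat.ble d.k 7) = true := by decide +kernel

theorem dcrel {d : DC} (h : d ∈ dcs) : ev d.eq.1 = ev d.eq.2 := ev_eq (Checks.dcs_ok _ h)

theorem reps_H (i : Fin 7) : ∀ r ∈ reps i, r ∈ H := by
  intro r hr
  unfold reps at hr
  split at hr
  · rw [Set.mem_singleton_iff.mp hr]; exact H.one_mem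
  · obtain ⟨d, hd, _, rfl⟩ := hr
    have h := List.all_eq_true.mp dc_chk d hd
    rw [Bool.and_eq_true, Bool.and_eq_true, Bool.and_eq_true, Bool.and_eq_true] at h
    exact ev_mem_H h.1.1.1.1

theorem cover (i : Fin 7) : ∀ h ∈ H, ∃ r ∈ reps i, ∃ k ∈ K, ∃ b ∈ BB i, h = k * r * b := by
  by_cases hi : i = 0
  · intro h hh
    refine ⟨1, ?_, 1, K.one_mem, h, ?_, by rw [one_mul, one_mul]⟩
    · unfold reps; rw [if_pos hi]; exact Set.mem_singleton _
    · unfold BB; rw [if_pos hi]; exact hh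
  · have hi' : (i : ℕ) ≠ 0 := fun h' => hi (Fin.ext h')
    have hreach : ∀ n < 15180, ∃ r ∈ reps i, ∃ b ∈ BB i, gv n = act p (r * b) := by
      intro n hn
      obtain ⟨d, hd, hdi, b, hb, e⟩ := reach (i := i + 1) (by omega) (by omega) n hn
      refine ⟨ev d.h, ?_, b, ?_, e⟩
      · unfold reps; rw [if_neg hi]; exact ⟨d, hd, hdi, rfl⟩
      · unfold BB; rw [if_neg hi]; exact hb
    exact Abstract.cover_of_count (G := GG) (V := VV) act (fun v g h => by rw [act_mul]) H K (BB i)
      K_le_H (BB_le i) (reps i) (reps_H i) p K_fix 15180 gv gv_inj hreach card_H_le'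

theorem dc_closed (i : Fin 7) : ∀ r ∈ reps i, ∃ k, ∃ a ∈ H, ∃ b ∈ H,
    tg * r * gg i = a * gg k * b := by
  intro r hr
  unfold reps at hr
  split at hr
  · rename_i hi
    subst hi
    rw [Set.mem_singleton_iff.mp hr]
    refine ⟨1, 1, H.one_mem, 1, H.one_mem, ?_⟩
    unfold gg
    have h1 : gi (((0 : Fin 7) : ℕ) + 1) = 0 := by decide
    have h2 : gi (((1 : Fin 7) : ℕ) + 1) = 3 := by decide
    rw [h1, h2, e0, e3, mul_one, mul_one, mul_one, one_mul]
  · obtain ⟨d, hd, hdi, rfl⟩ := hr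
    have h := List.all_eq_true.mp dc_chk d hd
    rw [Bool.and_eq_true, Bool.and_eq_true, Bool.and_eq_true, Bool.and_eq_true] at h
    obtain ⟨⟨⟨⟨_, h2⟩, h3⟩, h4⟩, h5⟩ := h
    have h4' := Nat.le_of_ble_eq_true h4
    have h5' := Nat.le_of_ble_eq_true h5
    refine ⟨⟨d.k - 1, by omega⟩, ev d.a, ev_mem_H h2, ev d.b, ev_mem_H h3, ?_⟩
    have h6 := dcrel hd
    unfold DC.eq at h6
    rw [ev_cons, ev_append, ev_append, ev_cons, ev_cons, ev_nil, mul_one, hdi, e3] at h6
    unfold gg
    rw [show (((⟨d.k - 1, by omega⟩ : Fin 7) : ℕ) + 1) = d.k from by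
      show d.k - 1 + 1 = d.k
      omega]
    rw [mul_assoc, h6, mul_assoc]

theorem gg_zero : gg 0 = 1 := by
  unfold gg
  have h1 : gi (((0 : Fin 7) : ℕ) + 1) = 0 := by decide
  rw [h1, e0]

/-- **The seven double cosets.** -/
theorem decomp : ∀ x ∈ R, ∃ i : Fin 7, ∃ a ∈ H, ∃ b ∈ H, x = a * gg i * b := by
  rw [R_eq_sup]
  exact Abstract.decomp_of_closed H tg tg_sq gg 0 gg_zero
    (Abstract.closed_of_reps H tg tg_sq gg K K_conj BB BB_conj reps cover dc_closed)

end Cfsg.Agent.J4M.Decomp
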