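import Cfsg.Agent.Lib.F2MatGroup

/-!
Straight-line derivations: a list of relations `l * e k * r = w` (words in a list of elements) shows
that each new element `e k` is invertible / lies in a subgroup as soon as the old ones do.
-/
set_option autoImplicit false

namespace Cfsg.Agent.J4M.Derive

open Cfsg.Agent.Lib Cfsg.Agent.Lib.F2MatGroup

/-- one relation `l * e k * r = w` -/
structure Step where
  l : List ℕ
  k : ℕ
  r : List ℕ
  w : List ℕ

/-- the relation as a pair of words -/
def Step.eq (s : Step) : List ℕ × List ℕ := (s.l ++ s.k :: s.r, s.w)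

/-- all letters are in the bit mask -/
def allIn (mask : ℕ) (w : List ℕ) : Bool :=
  List.rec true (fun a _ ih => cond (Nat.testBit mask a) ih false) w

theorem allIn_sound {mask : ℕ} {w : List ℕ} (h : allIn mask w = true) :
    ∀ a ∈ w, mask.testBit a = true := by
  induction w with
  | nil => intro a ha; simp at ha
  | cons b w ih =>
    have h' : cond (Nat.testBit mask b) (allIn mask w) false = true := h
    rcases hb : Nat.testBit mask b with _ | _
    · rw [hb] at h'; exact absurd h' Bool.false_ne_true
    · rw [hb] at h'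
      intro a ha
      rcases List.mem_cons.mp ha with rfl | ha
      · exact hb
      · exact ih h' a ha

/-- all old letters of the steps are known when used; `target` is the mask at the end -/
def closeB (target : ℕ) (ss : List Step) : ℕ → Bool :=
  List.rec (motive := fun _ => ℕ → Bool) (fun mask => Nat.beq mask target)
    (fun s _ ih mask =>
      cond (allIn mask s.l) (cond (allIn mask s.r) (cond (allIn mask s.w)
        (ih (Nat.lor mask (Nat.shiftLeft 1 s.k))) false) false) false) ss

theorem closeB_sound {target : ℕ} {ss : List Step} (P : ℕ → Prop)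
    (hstep : ∀ s ∈ ss, (∀ i ∈ s.l, P i) → (∀ i ∈ s.r, P i) → (∀ i ∈ s.w, P i) → P s.k)
    {mask : ℕ} (h0 : ∀ i, mask.testBit i = true → P i) (h : closeB target ss mask = true) :
    ∀ i, target.testBit i = true → P i := by
  induction ss generalizing mask with
  | nil =>
    have : mask = target := Nat.eq_of_beq_eq_true h
    subst this
    exact h0
  | cons s ss ih =>
    have h' : cond (allIn mask s.l) (cond (allIn mask s.r) (cond (allIn mask s.w)
        (closeB target ss (Nat.lor mask (Nat.shiftLeft 1 s.k))) false) false) false = true := h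
    rcases hl : allIn mask s.l with _ | _
    · rw [hl] at h'; exact absurd h' Bool.false_ne_true
    rcases hr : allIn mask s.r with _ | _
    · rw [hl, hr] at h'; exact absurd h' Bool.false_ne_true
    rcases hw : allIn mask s.w with _ | _
    · rw [hl, hr, hw] at h'; exact absurd h' Bool.false_ne_true
    rw [hl, hr, hw] at h'
    have hk : P s.k := hstep s (List.mem_cons_self ..) (fun i hi => h0 i (allIn_sound hl i hi))
      (fun i hi => h0 i (allIn_sound hr i hi)) (fun i hi => h0 i (allIn_sound hw i hi))
    refine ih (fun s' hs' => hstep s' (List.mem_cons_of_mem _ hs')) ?_ h'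
    intro i hi
    have hi' : (mask ||| (1 <<< s.k)).testBit i = true := hi
    rw [Nat.testBit_or, Nat.one_shiftLeft, Nat.testBit_two_pow] at hi'
    rcases Bool.or_eq_true _ _ |>.mp hi' with h1 | h1
    · exact h0 i h1
    · have : s.k = i := by simpa using h1
      rw [← this]; exact hk

/-! ### membership in subgroups -/

theorem evG_append {G : Type*} [Group G] (L : List G) (u v : List ℕ) :
    evG L (u ++ v) = evG L u * evG L v := by
  induction u with
  | nil => rw [List.nil_append, evG_nil, one_mul]
  | cons a u ih => rw [List.cons_append, evG_cons, evG_cons, ih, mul_assoc]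

theorem evG_mem {G : Type*} [Group G] (K : Subgroup G) {L : List G} {w : List ℕ}
    (h : ∀ i ∈ w, getG L i ∈ K) : evG L w ∈ K := by
  induction w with
  | nil => exact K.one_mem
  | cons i w ih =>
    rw [evG_cons]
    exact K.mul_mem (h i (List.mem_cons_self ..)) (ih fun j hj => h j (List.mem_cons_of_mem _ hj))

theorem mem_of_steps {G : Type*} [Group G] (K : Subgroup G) (L : List G) {target mask : ℕ}
    {ss : List Step} (hss : ∀ s ∈ ss, evG L s.eq.1 = evG L s.eq.2)
    (h0 : ∀ i, mask.testBit i = true → getG L i ∈ K) (h : closeB target ss mask = true) :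
    ∀ i, target.testBit i = true → getG L i ∈ K := by
  refine closeB_sound (fun i => getG L i ∈ K) ?_ h0 h
  intro s hs hl hr hw
  have e := hss s hs
  have e' : evG L s.l * (getG L s.k * evG L s.r) = evG L s.w := by
    rw [← evG_cons, ← evG_append]; exact e
  have : getG L s.k = (evG L s.l)⁻¹ * evG L s.w * (evG L s.r)⁻¹ := by
    rw [← e']; group
  show getG L s.k ∈ K
  rw [this]
  exact K.mul_mem (K.mul_mem (K.inv_mem (evG_mem K hl)) (evG_mem K hw)) (K.inv_mem (evG_mem K hr))

/-! ### invertibility -/

variable {n : ℕ}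

open Classical in
/-- the invertible matrix with a given code (`1` if it is not invertible) -/
noncomputable def gOf (n A : ℕ) : GL (Fin n) (ZMod 2) :=
  if h : IsUnit (F2Mat.toMat n A) then h.unit else 1

theorem codes_gOf {A : ℕ} (h : IsUnit (F2Mat.toMat n A)) : Codes n (gOf n A) A := by
  unfold gOf Codes
  rw [dif_pos h]
  exact h.unit_spec

theorem isUnit_of_codes {g : GL (Fin n) (ZMod 2)} {A : ℕ} (h : Codes n g A) :
    IsUnit (F2Mat.toMat n A) := ⟨g, h⟩

theorem gOf_eq {g : GL (Fin n) (ZMod 2)} {A : ℕ} (h : Codes n g A) : gOf n A = g := by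
  apply Units.ext
  have h1 : ((gOf n A : GL (Fin n) (ZMod 2)) : Matrix (Fin n) (Fin n) (ZMod 2)) = F2Mat.toMat n A :=
    codes_gOf (isUnit_of_codes h)
  rw [h1]
  exact h.symm

theorem isUnit_evW {L : List ℕ} {w : List ℕ}
    (h : ∀ i ∈ w, IsUnit (F2Mat.toMat n (get (F2Mat.one n) L i))) :
    IsUnit (F2Mat.toMat n (evW n L w)) := by
  induction w with
  | nil =>
    show IsUnit (F2Mat.toMat n (F2Mat.one n))
    rw [F2Mat.toMat_one]; exact isUnit_one
  | cons i w ih =>
    show IsUnit (F2Mat.toMat n (F2Mat.mul n (get (F2Mat.one n) L i) (evW n L w)))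
    rw [F2Mat.toMat_mul]
    exact (h i (List.mem_cons_self ..)).mul (ih fun j hj => h j (List.mem_cons_of_mem _ hj))

theorem toMat_evW_append (L : List ℕ) (u v : List ℕ) :
    F2Mat.toMat n (evW n L (u ++ v)) = F2Mat.toMat n (evW n L u) * F2Mat.toMat n (evW n L v) := by
  induction u with
  | nil =>
    show F2Mat.toMat n (evW n L v) = F2Mat.toMat n (F2Mat.one n) * _
    rw [F2Mat.toMat_one, one_mul]
  | cons a u ih =>
    show F2Mat.toMat n (F2Mat.mul n (get (F2Mat.one n) L a) (evW n L (u ++ v))) =
      F2Mat.toMat n (F2Mat.mul n (get (F2Mat.one n) L a) (evW n L u)) * _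
    rw [F2Mat.toMat_mul, F2Mat.toMat_mul, ih, mul_assoc]

theorem eqs_get {L : List ℕ} {es : List (List ℕ × List ℕ)} (h : eqs n es L = true) :
    ∀ p ∈ es, evW n L p.1 = evW n L p.2 := by
  induction es with
  | nil => intro p hp; simp at hp
  | cons q es ih =>
    have he' : cond (Nat.beq (evW n L q.1) (evW n L q.2)) (eqs n es L) false = true := h
    rcases hb : Nat.beq (evW n L q.1) (evW n L q.2) with _ | _
    · rw [hb] at he'; exact absurd he' Bool.false_ne_true
    · rw [hb] at he'
      intro p hp
      rcases List.mem_cons.mp hp with rfl | hp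
      · exact Nat.eq_of_beq_eq_true hb
      · exact ih he' p hp

theorem isUnit_of_steps {L : List ℕ} {target mask : ℕ} {ss : List Step}
    (hss : ∀ s ∈ ss, evW n L s.eq.1 = evW n L s.eq.2)
    (h0 : ∀ i, mask.testBit i = true → IsUnit (F2Mat.toMat n (get (F2Mat.one n) L i)))
    (h : closeB target ss mask = true) :
    ∀ i, target.testBit i = true → IsUnit (F2Mat.toMat n (get (F2Mat.one n) L i)) := by
  refine closeB_sound (fun i => IsUnit (F2Mat.toMat n (get (F2Mat.one n) L i))) ?_ h0 h
  intro s hs hl hr hw
  have e : F2Mat.toMat n (evW n L (s.l ++ s.k :: s.r)) = F2Mat.toMat n (evW n L s.w) :=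
    congrArg _ (hss s hs)
  rw [toMat_evW_append] at e
  have e2 : F2Mat.toMat n (evW n L (s.k :: s.r)) =
      F2Mat.toMat n (get (F2Mat.one n) L s.k) * F2Mat.toMat n (evW n L s.r) :=
    F2Mat.toMat_mul _ _ _
  rw [e2] at e
  obtain ⟨a, ha⟩ := isUnit_evW (n := n) (L := L) hl
  obtain ⟨b, hb⟩ := isUnit_evW (n := n) (L := L) hr
  obtain ⟨c, hc⟩ := isUnit_evW (n := n) (L := L) hw
  rw [← ha, ← hb, ← hc] at e
  refine ⟨a⁻¹ * c * b⁻¹, ?_⟩
  rw [Units.val_mul, Units.val_mul, ← e, ← mul_assoc (a : Matrix (Fin n) (Fin n) (ZMod 2)),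
    ← mul_assoc, ← mul_assoc, Units.inv_mul, one_mul, mul_assoc, Units.mul_inv, mul_one]

theorem forall₂_gOf {L : List ℕ} (h : ∀ i < L.length, IsUnit (F2Mat.toMat n (get (F2Mat.one n) L i))) :
    List.Forall₂ (Codes n) (L.map (gOf n)) L := by
  induction L with
  | nil => exact List.Forall₂.nil
  | cons a L ih =>
    rw [List.map_cons]
    refine List.Forall₂.cons (codes_gOf (h 0 (by simp))) (ih fun i hi => ?_)
    exact h (i + 1) (by simpa using hi)

end Cfsg.Agent.J4M.Derive
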