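import Cfsg.Agent.J4M.Derive

/-!
Words and relations in the list of matrices (data).
-/
set_option autoImplicit false

namespace Cfsg.Agent.J4M.Words

open Cfsg.Agent.J4M.Derive

/-- indices of the elements of the group of x and y -/
def mM : ℕ := 0xffffffffffffffffffffffffffffff8000007
/-- indices of the elements of H -/
def mH : ℕ := 0xffffffffffffffffffffffffffffffffffff7
/-- indices of the elements `c i` -/
def mC : ℕ := 0x7fffff0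
/-- all indices -/
def mA : ℕ := 0x7ffffffffffffffffffffffffffffffffffffff

/-- definitions of the elements of the group of x and y, part 0 -/
def msteps0 : List Step := [
  ⟨[], 27, [], [1, 2]⟩,
  ⟨[], 28, [], [2, 1]⟩,
  ⟨[], 29, [], [2, 2]⟩,
  ⟨[], 30, [], [27, 1]⟩,
  ⟨[], 31, [], [27, 2]⟩,
  ⟨[], 32, [], [28, 2]⟩,
  ⟨[], 33, [], [29, 1]⟩,
  ⟨[], 34, [], [31, 1]⟩,
  ⟨[], 35, [], [32, 1]⟩,
  ⟨[], 36, [], [32, 2]⟩,
  ⟨[], 37, [], [33, 2]⟩,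
  ⟨[], 38, [], [34, 2]⟩,
  ⟨[], 39, [], [35, 2]⟩,
  ⟨[], 40, [], [36, 1]⟩,
  ⟨[], 41, [], [37, 1]⟩,
  ⟨[], 42, [], [37, 2]⟩,
  ⟨[], 43, [], [38, 1]⟩,
  ⟨[], 44, [], [38, 2]⟩,
  ⟨[], 45, [], [39, 1]⟩,
  ⟨[], 46, [], [42, 1]⟩,
  ⟨[], 47, [], [44, 1]⟩,
  ⟨[], 48, [35], [45, 2]⟩,
  ⟨[], 49, [41], [41, 2]⟩,
  ⟨[], 50, [], [48, 48]⟩,
  ⟨[], 51, [], [48, 49]⟩,
  ⟨[], 52, [], [49, 48]⟩,
  ⟨[], 53, [], [49, 49]⟩,
  ⟨[], 54, [], [50, 48]⟩,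
  ⟨[], 55, [], [50, 49]⟩,
  ⟨[], 56, [], [51, 49]⟩,
  ⟨[], 57, [], [52, 48]⟩,
  ⟨[], 58, [], [52, 49]⟩,
  ⟨[], 59, [], [53, 48]⟩,
  ⟨[], 60, [], [54, 49]⟩,
  ⟨[], 61, [], [55, 48]⟩,
  ⟨[], 62, [], [56, 48]⟩]

/-- definitions of the elements of the group of x and y, part 1 -/
def msteps1 : List Step := [
  ⟨[], 63, [], [58, 49]⟩,
  ⟨[], 64, [], [60, 49]⟩,
  ⟨[], 65, [], [62, 48]⟩,
  ⟨[], 66, [], [63, 48]⟩,
  ⟨[], 67, [], [64, 48]⟩,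
  ⟨[], 68, [], [65, 48]⟩,
  ⟨[], 69, [], [65, 49]⟩,
  ⟨[], 70, [67], [67, 49]⟩,
  ⟨[], 71, [53], [57, 48]⟩,
  ⟨[], 72, [], [70, 70]⟩,
  ⟨[], 73, [], [70, 71]⟩,
  ⟨[], 74, [], [71, 70]⟩,
  ⟨[], 75, [], [71, 71]⟩,
  ⟨[], 76, [], [72, 71]⟩,
  ⟨[], 77, [], [73, 70]⟩,
  ⟨[], 78, [], [73, 71]⟩,
  ⟨[], 79, [], [74, 70]⟩,
  ⟨[], 80, [], [75, 70]⟩,
  ⟨[], 81, [], [75, 71]⟩,
  ⟨[], 82, [], [77, 70]⟩,
  ⟨[], 83, [], [77, 71]⟩,
  ⟨[], 84, [], [78, 70]⟩,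
  ⟨[], 85, [], [78, 71]⟩,
  ⟨[], 86, [], [80, 70]⟩,
  ⟨[], 87, [], [84, 70]⟩,
  ⟨[], 88, [], [85, 70]⟩,
  ⟨[], 89, [], [87, 71]⟩,
  ⟨[], 90, [], [88, 71]⟩,
  ⟨[], 91, [86], [89, 71]⟩,
  ⟨[], 92, [79], [85, 71]⟩,
  ⟨[], 93, [], [92, 91]⟩,
  ⟨[], 94, [], [92, 92]⟩,
  ⟨[], 95, [], [93, 91]⟩,
  ⟨[], 96, [], [93, 92]⟩,
  ⟨[], 97, [], [94, 91]⟩]

/-- definitions of the elements of the group of x and y, part 2 -/
def msteps2 : List Step := [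
  ⟨[], 98, [], [94, 92]⟩,
  ⟨[], 99, [], [96, 92]⟩,
  ⟨[], 100, [], [97, 92]⟩,
  ⟨[], 101, [], [98, 91]⟩,
  ⟨[], 102, [], [98, 92]⟩,
  ⟨[], 103, [], [99, 92]⟩,
  ⟨[], 104, [], [100, 91]⟩,
  ⟨[], 105, [], [100, 92]⟩,
  ⟨[], 106, [], [101, 91]⟩,
  ⟨[], 107, [], [103, 92]⟩,
  ⟨[], 108, [], [104, 92]⟩,
  ⟨[], 109, [], [105, 91]⟩,
  ⟨[], 110, [], [107, 91]⟩,
  ⟨[], 111, [], [108, 92]⟩,
  ⟨[], 112, [104], [101, 92]⟩,
  ⟨[], 113, [94], [96, 91]⟩,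
  ⟨[], 114, [], [112, 112]⟩,
  ⟨[], 115, [], [112, 113]⟩,
  ⟨[], 116, [], [113, 112]⟩,
  ⟨[], 117, [], [113, 113]⟩,
  ⟨[], 118, [], [114, 113]⟩,
  ⟨[], 119, [], [115, 113]⟩,
  ⟨[], 120, [], [116, 113]⟩,
  ⟨[], 121, [], [117, 112]⟩,
  ⟨[], 122, [], [118, 112]⟩,
  ⟨[], 123, [], [118, 113]⟩,
  ⟨[], 124, [], [119, 112]⟩,
  ⟨[], 125, [], [120, 112]⟩,
  ⟨[], 126, [], [120, 113]⟩,
  ⟨[], 127, [], [121, 112]⟩,
  ⟨[], 128, [], [122, 113]⟩,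
  ⟨[], 129, [], [124, 112]⟩,
  ⟨[], 130, [], [127, 113]⟩,
  ⟨[], 131, [115], [126, 112]⟩,
  ⟨[], 132, [129], [128, 113]⟩]

/-- definitions of the elements of the group of x and y, part 3 -/
def msteps3 : List Step := [
  ⟨[], 133, [119], [123, 112]⟩,
  ⟨[], 134, [], [131, 131]⟩,
  ⟨[], 135, [], [131, 133]⟩,
  ⟨[], 136, [], [132, 133]⟩,
  ⟨[], 137, [], [133, 131]⟩,
  ⟨[], 138, [], [133, 132]⟩,
  ⟨[], 139, [], [133, 133]⟩,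
  ⟨[], 140, [], [134, 133]⟩,
  ⟨[], 141, [], [135, 132]⟩,
  ⟨[], 142, [], [137, 131]⟩,
  ⟨[], 143, [], [137, 132]⟩,
  ⟨[], 144, [], [138, 131]⟩,
  ⟨[], 145, [], [138, 132]⟩,
  ⟨[], 146, [135], [142, 132]⟩,
  ⟨[], 147, [], [146, 146]⟩]

/-- definitions of the elements of the group of x and y -/
def msteps : List Step := msteps0 ++ (msteps1 ++ (msteps2 ++ (msteps3)))

/-- the involutions `c i`, `2 ≤ i`, part 0 -/
def csteps0 : List Step := [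
  ⟨[69], 5, [], [4, 69]⟩,
  ⟨[52], 6, [], [4, 52]⟩,
  ⟨[48], 7, [], [4, 48]⟩,
  ⟨[68], 8, [], [4, 68]⟩,
  ⟨[66], 9, [], [4, 66]⟩,
  ⟨[58], 10, [], [4, 58]⟩,
  ⟨[65], 11, [], [4, 65]⟩,
  ⟨[62], 12, [], [4, 62]⟩,
  ⟨[67], 13, [], [4, 67]⟩,
  ⟨[59], 14, [], [4, 59]⟩,
  ⟨[57], 15, [], [4, 57]⟩,
  ⟨[60], 16, [], [4, 60]⟩,
  ⟨[64], 17, [], [4, 64]⟩,
  ⟨[51], 18, [], [4, 51]⟩,
  ⟨[53], 19, [], [4, 53]⟩,
  ⟨[54], 20, [], [4, 54]⟩,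
  ⟨[63], 21, [], [4, 63]⟩,
  ⟨[61], 22, [], [4, 61]⟩,
  ⟨[50], 23, [], [4, 50]⟩,
  ⟨[56], 24, [], [4, 56]⟩,
  ⟨[55], 25, [], [4, 55]⟩,
  ⟨[49], 26, [], [4, 49]⟩]

/-- the involutions `c i`, `2 ≤ i` -/
def csteps : List Step := csteps0

/-- the involution `c 1`, part 0 -/
def tsteps0 : List Step := [
  ⟨[], 154, [], [2, 1, 2, 1, 2, 2, 1, 2, 2, 1, 2, 2, 1, 2, 2, 3, 2, 1, 2, 1, 2, 1, 2, 1, 2, 2, 1]⟩,
  ⟨[], 153, [], [154, 154, 154]⟩,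
  ⟨[], 4, [82, 62, 1], [153, 82, 62, 1, 153]⟩]

/-- the involution `c 1` -/
def tsteps : List Step := tsteps0

/-- the double coset representatives, part 0 -/
def gsteps0 : List Step := [
  ⟨[], 148, [], [3, 147, 141, 117, 97, 86, 58, 47, 3, 146, 141, 127, 106, 78, 60, 33, 3]⟩,
  ⟨[], 149, [], [3, 146, 132, 117, 96, 88, 67, 1, 3]⟩,
  ⟨[], 150, [], [3, 147, 142, 98, 89, 61, 3, 147, 145, 121, 102, 73, 52, 35, 3]⟩,
  ⟨[], 151, [], [3, 4, 5, 24, 139, 124, 97, 76, 51, 28, 3]⟩,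
  ⟨[], 152, [], [3, 146, 139, 115, 110, 83, 61, 39, 3]⟩]

/-- the double coset representatives -/
def gsteps : List Step := gsteps0

/-- the first eleven `c i` are commuting involutions, part 0 -/
def qrels0 : List (List ℕ × List ℕ) := [
  ([4, 4], [0]),
  ([5, 5], [0]),
  ([6, 6], [0]),
  ([7, 7], [0]),
  ([8, 8], [0]),
  ([9, 9], [0]),
  ([10, 10], [0]),
  ([11, 11], [0]),
  ([12, 12], [0]),
  ([13, 13], [0]),
  ([14, 14], [0]),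
  ([4, 5], [5, 4]),
  ([4, 6], [6, 4]),
  ([4, 7], [7, 4]),
  ([4, 8], [8, 4]),
  ([4, 9], [9, 4]),
  ([4, 10], [10, 4]),
  ([4, 11], [11, 4]),
  ([4, 12], [12, 4]),
  ([4, 13], [13, 4]),
  ([4, 14], [14, 4]),
  ([5, 6], [6, 5]),
  ([5, 7], [7, 5]),
  ([5, 8], [8, 5]),
  ([5, 9], [9, 5]),
  ([5, 10], [10, 5]),
  ([5, 11], [11, 5]),
  ([5, 12], [12, 5]),
  ([5, 13], [13, 5]),
  ([5, 14], [14, 5])]

/-- the first eleven `c i` are commuting involutions, part 1 -/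
def qrels1 : List (List ℕ × List ℕ) := [
  ([6, 7], [7, 6]),
  ([6, 8], [8, 6]),
  ([6, 9], [9, 6]),
  ([6, 10], [10, 6]),
  ([6, 11], [11, 6]),
  ([6, 12], [12, 6]),
  ([6, 13], [13, 6]),
  ([6, 14], [14, 6]),
  ([7, 8], [8, 7]),
  ([7, 9], [9, 7]),
  ([7, 10], [10, 7]),
  ([7, 11], [11, 7]),
  ([7, 12], [12, 7]),
  ([7, 13], [13, 7]),
  ([7, 14], [14, 7]),
  ([8, 9], [9, 8]),
  ([8, 10], [10, 8]),
  ([8, 11], [11, 8]),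
  ([8, 12], [12, 8]),
  ([8, 13], [13, 8]),
  ([8, 14], [14, 8]),
  ([9, 10], [10, 9]),
  ([9, 11], [11, 9]),
  ([9, 12], [12, 9]),
  ([9, 13], [13, 9]),
  ([9, 14], [14, 9]),
  ([10, 11], [11, 10])]

/-- the first eleven `c i` are commuting involutions, part 2 -/
def qrels2 : List (List ℕ × List ℕ) := [
  ([10, 12], [12, 10]),
  ([10, 13], [13, 10]),
  ([10, 14], [14, 10]),
  ([11, 12], [12, 11]),
  ([11, 13], [13, 11]),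
  ([11, 14], [14, 11]),
  ([12, 13], [13, 12]),
  ([12, 14], [14, 12]),
  ([13, 14], [14, 13])]

/-- the first eleven `c i` are commuting involutions -/
def qrels : List (List ℕ × List ℕ) := qrels0 ++ (qrels1 ++ (qrels2))

/-- the other `c i`, part 0 -/
def qdeps0 : List (List ℕ × List ℕ) := [
  ([15], [4, 5, 6, 7, 10, 13]),
  ([16], [4, 5, 6, 7, 8, 11, 14]),
  ([17], [4, 8, 9, 10, 12, 13]),
  ([18], [4, 5, 9, 10, 11, 13, 14]),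
  ([19], [4, 7, 11, 12, 13, 14]),
  ([20], [6, 7, 8, 10, 12, 14]),
  ([21], [5, 6, 8, 9, 10, 11]),
  ([22], [4, 6, 7, 9, 10, 11, 12]),
  ([23], [5, 7, 8, 10, 11, 12, 13]),
  ([24], [6, 8, 9, 11, 12, 13, 14]),
  ([25], [4, 5, 6, 9, 12, 14]),
  ([26], [5, 7, 8, 9, 13, 14])]

/-- the other `c i` -/
def qdeps : List (List ℕ × List ℕ) := qdeps0

/-- action of x and y on the `c i`, part 0 -/
def conjs0 : List (List ℕ × List ℕ) := [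
  ([1, 4], [12, 5, 1]),
  ([1, 5], [12, 4, 1]),
  ([1, 6], [12, 11, 1]),
  ([1, 7], [12, 8, 1]),
  ([1, 8], [12, 7, 1]),
  ([1, 9], [12, 10, 1]),
  ([1, 10], [12, 9, 1]),
  ([1, 11], [12, 6, 1]),
  ([1, 12], [12, 1]),
  ([1, 13], [12, 19, 1]),
  ([1, 14], [12, 16, 1]),
  ([1, 15], [12, 26, 1]),
  ([1, 16], [12, 14, 1]),
  ([1, 17], [12, 18, 1]),
  ([1, 18], [12, 17, 1]),
  ([1, 19], [12, 13, 1]),
  ([1, 20], [12, 25, 1]),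
  ([1, 21], [12, 22, 1]),
  ([1, 22], [12, 21, 1]),
  ([1, 23], [12, 24, 1]),
  ([1, 24], [12, 23, 1]),
  ([1, 25], [12, 20, 1])]

/-- action of x and y on the `c i`, part 1 -/
def conjs1 : List (List ℕ × List ℕ) := [
  ([1, 26], [12, 15, 1]),
  ([2, 4], [20, 12, 2]),
  ([2, 5], [20, 5, 2]),
  ([2, 6], [20, 4, 2]),
  ([2, 7], [20, 11, 2]),
  ([2, 8], [20, 8, 2]),
  ([2, 9], [20, 7, 2]),
  ([2, 10], [20, 10, 2]),
  ([2, 11], [20, 9, 2]),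
  ([2, 12], [20, 6, 2]),
  ([2, 13], [20, 2]),
  ([2, 14], [20, 19, 2]),
  ([2, 15], [20, 16, 2]),
  ([2, 16], [20, 26, 2]),
  ([2, 17], [20, 14, 2]),
  ([2, 18], [20, 18, 2]),
  ([2, 19], [20, 17, 2]),
  ([2, 20], [20, 13, 2]),
  ([2, 21], [20, 25, 2]),
  ([2, 22], [20, 22, 2]),
  ([2, 23], [20, 21, 2]),
  ([2, 24], [20, 24, 2])]

/-- action of x and y on the `c i`, part 2 -/
def conjs2 : List (List ℕ × List ℕ) := [
  ([2, 25], [20, 23, 2]),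
  ([2, 26], [20, 15, 2])]

/-- action of x and y on the `c i` -/
def conjs : List (List ℕ × List ℕ) := conjs0 ++ (conjs1 ++ (conjs2))

/-- index of the `i`-th double coset representative -/
def gi (i : ℕ) : ℕ := [0, 0, 3, 151, 152, 149, 148, 150].getD i 0

/-- the relation `b * g i = g i * b'` -/
structure BR where
  i : ℕ
  b : List ℕ
  c : List ℕ

/-- as a pair of words -/
def BR.eq (s : BR) : List ℕ × List ℕ := (s.b ++ [gi s.i], gi s.i :: s.c)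

/-- `b * g i = g i * b'`, part 0 -/
def brels0 : List BR := [
  ⟨2, [6, 15, 23, 146, 144, 130, 109, 90, 60, 32], [5, 6, 26, 147, 137, 116, 98, 88, 48, 47]⟩,
  ⟨2, [5, 8, 19, 146, 140, 129, 101, 79, 57, 34], [19, 24, 26, 146, 140, 127, 95, 75, 58, 47]⟩,
  ⟨3, [4, 10, 20, 147, 135, 127, 94, 89, 69, 27], [6, 20, 138, 115, 99, 77, 51, 39]⟩,
  ⟨3, [9, 19, 24, 143, 116, 99, 78, 57, 32], [9, 16, 18, 147, 134, 114, 100, 70, 56, 40]⟩,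
  ⟨4, [6, 7, 24, 134, 130, 96, 75, 50, 39], [6, 9, 16, 147, 134, 97, 78, 66, 30]⟩]

/-- `b * g i = g i * b'`, part 1 -/
def brels1 : List BR := [
  ⟨4, [15, 16, 17, 131, 125, 111, 90, 62, 38], [15, 17, 18, 139, 114, 100, 79, 56, 43]⟩,
  ⟨5, [5, 10, 15, 135, 120, 94, 72, 57, 1], [4, 12, 23, 131, 124, 110, 72, 64, 41]⟩,
  ⟨5, [6, 8, 24, 143, 125, 94, 79, 59], [7, 18, 26, 147, 136, 128, 95, 90, 61, 44]⟩,
  ⟨6, [8, 10, 12, 147, 125, 110, 72, 63, 41], [11, 16, 18, 147, 142, 117, 85, 61, 42]⟩,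
  ⟨6, [6, 10, 17, 147, 133, 122, 93, 79, 67, 43], [16, 23, 25, 146, 141, 130, 104, 89, 55, 2]⟩]

/-- `b * g i = g i * b'`, part 2 -/
def brels2 : List BR := [
  ⟨7, [9, 14, 23, 137, 120, 111, 80, 50, 36], [4, 5, 12, 146, 116, 98, 89, 67, 31]⟩,
  ⟨7, [9, 25, 26, 146, 145, 130, 99, 75, 51, 44], [7, 13, 14, 147, 143, 129, 107, 73, 59, 35]⟩]

/-- `b * g i = g i * b'` -/
def brels : List BR := brels0 ++ (brels1 ++ (brels2))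

/-- a double coset relation `t * h * g i = a * g k * b`; `n` is the number of the vector `p h` -/
structure DC where
  i : ℕ
  n : ℕ
  k : ℕ
  h : List ℕ
  a : List ℕ
  b : List ℕ

/-- as a pair of words -/
def DC.eq (s : DC) : List ℕ × List ℕ := (3 :: (s.h ++ [gi s.i]), s.a ++ gi s.k :: s.b)

/-- double coset relations, part 0 -/
def dcs0 : List DC := [
  ⟨2, 4805, 1, [], [], []⟩,
  ⟨2, 3325, 2, [4], [8, 9, 19, 147, 141, 119, 92, 80, 66, 43], [9, 24]⟩,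
  ⟨2, 4821, 2, [132, 130, 100, 84, 64, 32], [146, 137, 112, 98, 75, 68, 28], [53, 41]⟩,
  ⟨2, 10321, 3, [10, 18, 53, 41], [5, 20, 22, 132, 125, 97, 70, 55, 27], [5, 22, 53, 41]⟩,
  ⟨2, 2645, 2, [13, 21, 37], [18, 19, 25, 147, 135, 123, 109, 80, 32], [26, 146, 136, 101, 81, 69, 46]⟩,
  ⟨2, 8094, 4, [9, 17, 140, 112, 109, 87, 48, 28], [10, 11, 18, 146, 132, 122, 101, 87, 58, 34], [11, 22]⟩]

/-- double coset relations, part 1 -/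
def dcs1 : List DC := [
  ⟨2, 0, 5, [146, 138, 112, 106, 74, 53], [9, 10, 147, 135, 112, 111, 87, 49, 40], [18, 26, 143, 114, 98, 86, 48, 27]⟩,
  ⟨3, 6610, 4, [132, 115, 101, 86, 53, 36], [7, 15, 24, 146, 133, 119, 99, 86, 51, 44], [12, 19, 143, 119, 105, 82, 41]⟩,
  ⟨3, 8072, 2, [5, 6, 40], [4, 15, 26, 146, 132, 116, 92, 65, 2], [7, 16, 40]⟩,
  ⟨3, 13520, 4, [24, 25, 52, 32], [8, 24, 26, 144, 112, 94, 88, 62, 28], [14, 17, 24, 145, 114, 108, 83, 67, 30]⟩]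

/-- double coset relations, part 2 -/
def dcs2 : List DC := [
  ⟨3, 122, 3, [5, 12, 40], [13, 15, 16, 146, 133, 119, 97, 88, 53, 45], [9, 13]⟩,
  ⟨3, 11494, 3, [13, 25, 147, 140, 120, 92, 72, 31], [13, 15, 146, 131, 113, 110, 77, 60, 1], [19, 24, 29]⟩,
  ⟨3, 7738, 6, [20, 23, 144, 129, 93, 60, 42], [13, 17, 141, 120, 95, 77, 53, 44], [6, 18, 124, 72, 63, 42]⟩,
  ⟨4, 9955, 4, [131, 120, 101, 82, 56, 27], [9, 147, 131, 117, 101, 76, 57, 27], [4, 24]⟩,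
  ⟨4, 15052, 6, [146, 143, 127, 99, 75, 54, 2], [11, 25, 120, 111, 71, 54, 27], [8, 14, 20, 147, 138, 116, 84, 58, 36]⟩]

/-- double coset relations, part 3 -/
def dcs3 : List DC := [
  ⟨4, 10826, 3, [13, 131, 120, 101, 82, 56, 27], [16, 17, 147, 142, 115, 105, 86, 50, 28], [4, 7, 21]⟩,
  ⟨4, 133, 4, [40], [134, 116, 100, 77, 67, 28], [147, 140, 120, 92, 72]⟩,
  ⟨4, 7297, 4, [7, 13, 144, 115, 104, 81, 53, 46], [9, 22, 23, 125, 101, 76, 48, 2], [21]⟩,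
  ⟨4, 6477, 3, [9, 17, 40], [8, 19, 24, 136, 125, 104, 70, 58, 45], [5, 21, 53, 41]⟩,
  ⟨4, 13479, 7, [9, 26, 49, 31], [17, 18, 23, 146, 125, 107, 89, 54, 47], [19, 21, 26, 147, 138, 125, 99, 79, 30]⟩]

/-- double coset relations, part 4 -/
def dcs4 : List DC := [
  ⟨4, 3415, 4, [57, 45], [4, 6, 24, 138, 117, 100, 83, 32], [8, 9, 24, 147, 130, 108, 76, 54, 37]⟩,
  ⟨4, 4610, 6, [147, 136, 124, 104, 86, 49, 29], [5, 18, 20, 147, 133, 105, 68, 32], [8, 14, 20, 146, 138, 116, 94, 80, 42]⟩,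
  ⟨4, 11340, 6, [8, 9, 147, 133, 111, 66, 31], [8, 12, 19, 147, 135, 121, 87, 33], [16, 17, 21, 146, 119, 99, 80, 42]⟩,
  ⟨4, 1466, 5, [147, 140, 120, 92, 72, 48], [4, 10, 16, 141, 111, 79, 69, 43], [9, 10, 21, 139, 112, 98, 85, 60, 38]⟩]

/-- double coset relations, part 5 -/
def dcs5 : List DC := [
  ⟨4, 7456, 4, [146, 139, 113, 110, 73, 64, 40], [6, 17, 21, 146, 132, 127, 105, 63], [7, 10, 144, 121, 103, 82, 59, 33]⟩,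
  ⟨4, 12756, 5, [13, 25, 57, 35], [10, 13, 147, 133, 95, 71, 55, 35], [12, 16, 147, 142, 114, 97, 84, 64, 38]⟩,
  ⟨4, 4805, 2, [], [146, 139, 115, 110, 83, 61, 39], []⟩,
  ⟨4, 13860, 5, [146, 139, 127, 110, 79, 53, 39], [4, 11, 19, 125, 108, 85, 48, 30], [7, 11, 134, 125, 111, 75, 50, 39]⟩]

/-- double coset relations, part 6 -/
def dcs6 : List DC := [
  ⟨4, 7163, 4, [5, 12, 147, 141, 115, 98, 79, 64, 40], [4, 13, 15, 141, 120, 92, 84, 51, 36], [9, 18, 140, 112, 109, 87]⟩,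
  ⟨4, 5572, 6, [139, 128, 93, 73, 48, 38], [4, 13, 26, 135, 129, 103, 74, 60, 28], [7, 17, 147, 139, 108, 88, 53, 43]⟩,
  ⟨5, 4805, 2, [], [146, 132, 117, 96, 88, 67, 1], []⟩,
  ⟨5, 5126, 4, [19, 26, 57, 45], [5, 14, 24, 137, 115, 92, 84, 50, 27], [13, 22, 24, 147, 136, 125, 102, 88, 60, 2]⟩,
  ⟨5, 8480, 5, [146, 132, 122, 98, 82, 48, 43], [147, 134, 128, 95, 79, 48, 35], [9, 12, 22]⟩]

/-- double coset relations, part 7 -/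
def dcs7 : List DC := [
  ⟨5, 3325, 5, [4], [11, 14, 24, 146, 138, 120, 110, 78, 63, 30], [6, 9, 19]⟩,
  ⟨5, 4794, 5, [131, 120, 101, 82, 56, 30], [9, 10, 146, 145, 116, 110, 89, 54, 42], [5, 15, 147, 134, 118, 95, 63, 46]⟩,
  ⟨5, 7693, 6, [146, 139, 127, 110, 79, 53, 45], [9, 13, 21, 144, 123, 100, 90, 1], [6, 11, 21, 147, 112, 90, 38]⟩,
  ⟨5, 1374, 6, [112, 93, 82, 67, 1], [8, 19, 23, 142, 86, 63, 28], [15, 18, 26, 146, 137, 118, 95, 82, 66, 35]⟩]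

/-- double coset relations, part 8 -/
def dcs8 : List DC := [
  ⟨5, 7389, 4, [4, 146, 135, 126, 110, 72, 36], [5, 145, 116, 95, 87, 48, 44], [8, 23, 146, 136, 126, 111, 81, 67, 27]⟩,
  ⟨5, 2224, 6, [146, 143, 127, 99, 71, 66, 45], [6, 16, 146, 133, 114, 92, 89, 55, 1], [11, 22, 25, 131, 122, 94, 50, 40]⟩,
  ⟨5, 8607, 6, [26, 147, 143, 107, 73, 51], [4, 19, 21, 133, 103, 72, 64, 1], [18, 147, 131, 124, 102, 75, 50, 44]⟩,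
  ⟨5, 5558, 7, [2], [4, 15, 26, 146, 136, 112, 106, 90, 63, 35], [11, 21, 24, 135, 130, 103, 90, 59, 45]⟩]

/-- double coset relations, part 9 -/
def dcs9 : List DC := [
  ⟨5, 3415, 5, [57, 45], [9, 14, 20, 146, 143, 128, 96, 70, 60, 43], [6, 8, 24, 50, 34]⟩,
  ⟨5, 9840, 7, [146, 145, 116, 78, 51, 35], [5, 11, 17, 121, 110, 76, 65, 30], [4, 10, 16, 137, 127, 103, 79, 64, 47]⟩,
  ⟨5, 12591, 5, [18, 20, 23, 49, 2], [4, 7, 9, 143, 120, 100, 76, 52], [14, 21, 26, 137, 112, 106, 80, 57, 34]⟩,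
  ⟨5, 9865, 7, [10, 16, 26, 49, 28], [22, 131, 125, 100, 83, 54, 1], [10, 13, 20, 147, 135, 115, 106, 86, 55, 41]⟩]

/-- double coset relations, part 10 -/
def dcs10 : List DC := [
  ⟨5, 1964, 5, [145, 122, 98, 70, 63, 45], [6, 14, 24, 127, 94, 74, 53, 40], [18, 20, 24, 144, 121, 97, 79, 55, 42]⟩,
  ⟨5, 3171, 5, [19, 24, 71, 59, 35], [14, 18, 25, 138, 128, 92, 79, 69, 36], [5, 18, 26, 146, 144, 113, 81, 49, 28]⟩,
  ⟨5, 2645, 4, [13, 21, 37], [16, 19, 22, 133, 122, 78, 57, 37], [7, 11, 21, 146, 140, 117, 100, 82, 44]⟩,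
  ⟨5, 6635, 5, [46], [4, 9, 147, 140, 113, 96, 78, 57, 47], [20, 25, 26, 146, 114, 106, 84, 57, 33]⟩]

/-- double coset relations, part 11 -/
def dcs11 : List DC := [
  ⟨6, 6499, 6, [5, 9, 147, 137, 121, 76, 69, 39], [19, 23, 146, 143, 125, 82, 54, 1], [14, 18, 23]⟩,
  ⟨6, 265, 4, [147, 137, 121, 76, 69, 39], [8, 20, 26, 134, 112, 109, 82, 53, 37], [8, 22, 25, 136, 115, 105, 77, 57, 38]⟩,
  ⟨6, 1419, 6, [9, 12, 35], [11, 146, 117, 99, 88, 58], [4, 11, 14]⟩,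
  ⟨6, 12496, 6, [147, 143, 122, 94, 88, 62, 2], [19, 25, 146, 133, 129, 103, 82, 57, 37], [4, 11, 23]⟩,
  ⟨6, 281, 6, [147, 118, 99, 90, 60, 32], [7, 21, 25, 138, 129, 93, 76, 51, 37], [145, 125, 95, 81, 69, 40]⟩]

/-- double coset relations, part 12 -/
def dcs12 : List DC := [
  ⟨6, 1266, 6, [22, 136, 110, 54, 31], [21, 23, 138, 126, 109, 74, 56, 34], [4, 7, 9, 147, 142, 123, 97, 85, 54, 45]⟩,
  ⟨6, 0, 4, [146, 138, 112, 106, 74, 53], [5, 12, 13, 143, 102, 49, 46], [15, 16, 19, 147, 133, 126, 111, 54, 43]⟩,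
  ⟨6, 9343, 6, [6, 12, 147, 133, 111, 66, 47], [12, 14, 23, 146, 125, 111, 86, 64, 27], [4, 20, 24, 51, 28]⟩,
  ⟨6, 1417, 4, [5, 12, 49, 39], [10, 15, 16, 147, 132, 121, 75, 52, 39], [10, 22, 25, 117, 98, 87, 51, 46]⟩]

/-- double coset relations, part 13 -/
def dcs13 : List DC := [
  ⟨6, 12618, 5, [57, 2], [7, 10, 16, 140, 125, 98, 70, 59, 33], [4, 6, 12, 147, 136, 121, 107, 89, 59, 35]⟩,
  ⟨6, 3916, 5, [146, 136, 101, 81, 69, 46], [6, 11, 26, 122, 103, 87, 62, 40], [12, 16, 22, 146, 117, 104, 81, 53, 2]⟩,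
  ⟨6, 5841, 6, [142, 95, 84, 53, 32], [19, 20, 24, 140, 130, 98, 49, 28], [5, 7, 132, 117, 100, 69, 47]⟩,
  ⟨6, 5678, 6, [127, 104, 83, 56, 40], [11, 14, 25, 147, 135, 126, 104, 86, 53, 39], [10, 13, 20, 71, 59, 46]⟩]

/-- double coset relations, part 14 -/
def dcs14 : List DC := [
  ⟨6, 14945, 5, [144, 115, 104, 81, 53, 45], [4, 18, 23, 122, 97, 77, 52, 28], [9, 12, 23, 147, 144, 112, 73, 53, 44]⟩,
  ⟨6, 139, 6, [146, 132, 113, 104, 84, 68, 40], [4, 13, 26, 133, 125, 109, 82, 63, 1], [11, 16, 18, 147, 144, 126, 100, 74, 69, 2]⟩,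
  ⟨6, 13109, 7, [13, 23, 146, 135, 126, 110, 72, 39], [5, 15, 24, 146, 134, 124, 109, 79, 50, 36], [10, 12, 23, 57, 45]⟩,
  ⟨6, 14870, 3, [4, 22, 142, 120, 96, 73, 52], [7, 9, 23, 144, 119, 92, 69], [8, 14, 141, 112, 93, 88, 55, 1]⟩]

/-- double coset relations, part 15 -/
def dcs15 : List DC := [
  ⟨6, 12202, 5, [48, 33], [6, 14, 146, 138, 122, 99, 84, 67, 45], [5, 10, 15, 137, 112, 106, 80, 49, 2]⟩,
  ⟨6, 11489, 6, [147, 143, 125, 82, 51, 35], [12, 141, 116, 97, 82, 56, 46], [9, 21, 146, 144, 124, 102, 89, 69, 2]⟩,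
  ⟨6, 3294, 7, [5, 12, 49, 35], [7, 11, 147, 133, 128, 107, 73, 64, 2], [4, 17, 24, 121, 104, 88, 54, 2]⟩,
  ⟨6, 8535, 4, [4, 20, 146, 134, 113, 102, 82, 62, 2], [11, 22, 145, 126, 81, 56, 36], [10, 24, 25, 127, 105, 89, 51, 47]⟩]

/-- double coset relations, part 16 -/
def dcs16 : List DC := [
  ⟨6, 14899, 6, [24, 25, 49, 46], [9, 21, 23, 147, 133, 121, 105, 74, 52, 27], [145, 99, 54, 39]⟩,
  ⟨6, 122, 7, [5, 12, 40], [9, 16, 21, 146, 135, 115, 106, 74, 60, 27], [11, 15, 19, 134, 116, 83, 55]⟩,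
  ⟨7, 7835, 7, [7, 14, 48, 39], [6, 7, 9, 147, 138, 112, 95, 74, 51, 45], [6, 18, 25, 123, 108, 82, 52]⟩,
  ⟨7, 6607, 5, [18, 20, 23, 49], [12, 13, 25, 143, 120, 104, 82, 64], [14, 26, 141, 130, 95, 82, 32]⟩]

/-- double coset relations, part 17 -/
def dcs17 : List DC := [
  ⟨7, 9210, 7, [15, 25, 48, 38], [10, 22, 147, 121, 103, 86, 50, 29], [7, 8, 9, 146, 133, 112, 98, 31]⟩,
  ⟨7, 13503, 7, [17, 23, 144, 112, 105, 76, 52, 32], [10, 15, 16, 147, 113, 94, 76, 59, 47], [9, 20, 147, 139, 110, 53, 38]⟩,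
  ⟨7, 11902, 6, [147, 143, 125, 82, 48, 2], [12, 22, 26, 146, 132, 112, 109, 89, 50, 29], [14, 24, 147, 123, 98, 76, 52]⟩,
  ⟨7, 12166, 5, [13, 131, 127, 93, 56, 30], [7, 25, 134, 106, 84, 54, 33], [5, 12, 13, 131, 124, 100, 71, 55, 41]⟩]

/-- double coset relations, part 18 -/
def dcs18 : List DC := [
  ⟨7, 4852, 4, [13, 147, 134, 122, 100, 84, 62], [5, 7, 16, 146, 136, 120, 94, 82, 64, 33], [21, 146, 133, 123, 93, 51, 28]⟩,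
  ⟨7, 3459, 7, [147, 114, 102, 75, 66, 27], [8, 9, 26, 139, 123, 103, 71, 54, 31], [10, 15, 18, 146, 145, 112, 108, 83]⟩,
  ⟨7, 9702, 6, [21, 26, 146, 136, 124, 101, 56, 34], [10, 16, 24, 141, 129, 98, 67], [4, 12, 147, 140, 130, 100, 72, 31]⟩,
  ⟨7, 12655, 5, [21, 22, 48], [11, 16, 21, 146, 135, 119, 75, 50, 27], [7, 19, 22, 134, 116, 83, 54, 32]⟩]

/-- double coset relations, part 19 -/
def dcs19 : List DC := [
  ⟨7, 2683, 7, [5, 6, 45], [5, 6, 15, 147, 139, 92, 76, 67, 28], [4, 14, 20, 136, 118, 93, 70, 49, 37]⟩,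
  ⟨7, 5799, 6, [142, 112, 109, 71, 59, 41], [10, 12, 17, 147, 128, 78, 52, 34], [8, 24, 146, 138, 129, 75, 50, 32]⟩,
  ⟨7, 4274, 7, [138, 122, 104, 79, 63, 27], [5, 10, 17, 146, 135, 123, 105, 49, 34], [5, 21, 146, 134, 128, 80, 50, 32]⟩]

/-- double coset relations -/
def dcs : List DC := dcs0 ++ (dcs1 ++ (dcs2 ++ (dcs3 ++ (dcs4 ++ (dcs5 ++ (dcs6 ++ (dcs7 ++ (dcs8 ++ (dcs9 ++ (dcs10 ++ (dcs11 ++ (dcs12 ++ (dcs13 ++ (dcs14 ++ (dcs15 ++ (dcs16 ++ (dcs17 ++ (dcs18 ++ (dcs19)))))))))))))))))))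

/-- `t` normalizes modulo H, part 0 -/
def krels0 : List (List ℕ × List ℕ) := [
  ([3, 1], [1, 3]),
  ([3, 146, 144, 113, 81, 49, 28], [146, 144, 113, 81, 49, 28, 3]),
  ([3, 6], [6, 146, 133, 130, 103, 88, 56, 3]),
  ([3, 9], [9, 146, 145, 118, 109, 72, 68, 3]),
  ([3, 19], [19, 147, 139, 117, 102, 81, 48, 3]),
  ([3, 16], [16, 144, 124, 97, 74, 69, 3]),
  ([3, 21], [21, 147, 144, 117, 110, 75, 50, 3]),
  ([3, 25], [25, 135, 130, 105, 80, 49, 3]),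
  ([3, 17, 22], [17, 22, 144, 125, 107, 70, 53, 40, 3]),
  ([3, 13, 20], [13, 20, 133, 123, 103, 75, 54, 35, 3])]

/-- `t` normalizes modulo H, part 1 -/
def krels1 : List (List ℕ × List ℕ) := [
  ([3, 13, 22], [13, 22, 134, 125, 103, 85, 68, 28, 3])]

/-- `t` normalizes modulo H -/
def krels : List (List ℕ × List ℕ) := krels0 ++ (krels1)

end Cfsg.Agent.J4M.Words
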