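import Cfsg.Agent.J4M.BitMat
import Cfsg.Agent.J4M.GammaData
import Cfsg.Agent.J4M.Words
import Cfsg.Agent.J4M.DBData

/-!
Checks on the packed list of 15180 vectors.
-/
set_option autoImplicit false

namespace Cfsg.Agent.J4M.Gamma

open Cfsg.Agent.Lib Cfsg.Agent.Lib.F2Mat Cfsg.Agent.Lib.F2MatGroup
open Cfsg.Agent.J4M.BitMat (bmul)
open Cfsg.Agent.J4M.GammaData Cfsg.Agent.J4M.Words Cfsg.Agent.J4M.DBData

/-- bounded universal quantifier -/
def loop (f : ℕ → Bool) (k : ℕ) : Bool := Nat.rec true (fun j ih => cond (f j) ih false) k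

theorem loop_sound {f : ℕ → Bool} {k : ℕ} (h : loop f k = true) : ∀ j < k, f j = true := by
  induction k with
  | zero => intro j hj; omega
  | succ k ih =>
    have h' : cond (f k) (loop f k) false = true := h
    rcases hb : f k with _ | _
    · rw [hb] at h'; exact absurd h' Bool.false_ne_true
    · rw [hb] at h'
      intro j hj
      rcases Nat.lt_succ_iff_lt_or_eq.mp hj with h1 | rfl
      · exact ih h' j h1
      · exact hb

/-- row `j` of a packed matrix with 112 columns -/
def rowv (A j : ℕ) : ℕ :=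
  Nat.mod (Nat.shiftRight A (Nat.mul 112 j)) 5192296858534827628530496329220096

theorem rowv_eq (A j : ℕ) : rowv A j = (A >>> (112 * j)) % 2 ^ 112 := rfl

theorem rowv_lt (A j : ℕ) : rowv A j < 2 ^ 112 := by
  rw [rowv_eq]; exact Nat.mod_lt _ (by positivity)

theorem testBit_rowv (A j : ℕ) {k : ℕ} (hk : k < 112) :
    (rowv A j).testBit k = A.testBit (112 * j + k) := by
  rw [rowv_eq, Nat.testBit_mod_two_pow, Nat.testBit_shiftRight]
  simp [hk]

theorem toVec_rowv (N A : ℕ) (i : Fin N) : toVec 112 (rowv A i) = BitMat.toMat N 112 A i := by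
  ext k
  show F2Mat.bz ((rowv A i).testBit k) = BitMat.bz (A.testBit (112 * i + k))
  rw [testBit_rowv A i k.2]
  rfl

theorem bitMat_toMat (B : ℕ) : BitMat.toMat 112 112 B = F2Mat.toMat 112 B := rfl

theorem toVec_bmul (N A B : ℕ) {j : ℕ} (hj : j < N) :
    toVec 112 (rowv (bmul N 112 A B) j) =
      Matrix.vecMul (toVec 112 (rowv A j)) (F2Mat.toMat 112 B) := by
  have h1 := toVec_rowv N (bmul N 112 A B) ⟨j, hj⟩
  have h2 := toVec_rowv N A ⟨j, hj⟩
  rw [BitMat.toMat_bmul N 112 (by norm_num)] at h1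
  show toVec 112 (rowv (bmul N 112 A B) ((⟨j, hj⟩ : Fin N) : ℕ)) = _
  rw [h1, bitMat_toMat]
  show Matrix.vecMul (BitMat.toMat N 112 A ⟨j, hj⟩) (F2Mat.toMat 112 B) = _
  rw [← h2]

/-- vector number `n` -/
def row (n : ℕ) : ℕ := rowv (get 0 gam (Nat.div n 1012)) (Nat.mod n 1012)

theorem row_lt (n : ℕ) : row n < 2 ^ 112 := rowv_lt _ _

/-- vector number `n` -/
def gv (n : ℕ) : Fin 112 → ZMod 2 := toVec 112 (row n)

/-- the forest number `i` -/
def fo (i : ℕ) : List ℕ :=
  cond (Nat.beq i 2) fo2 (cond (Nat.beq i 3) fo3 (cond (Nat.beq i 4) fo4 (cond (Nat.beq i 5) fo5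
    (cond (Nat.beq i 6) fo6 fo7))))

/-- entry of a packed table -/
def fieldv (F j : ℕ) : ℕ := Nat.mod (Nat.shiftRight F (Nat.mul 24 j)) 16777216

/-- entry `n` of forest `i` -/
def field (i n : ℕ) : ℕ := fieldv (get 0 (fo i) (Nat.div n 1012)) (Nat.mod n 1012)

/-- the depth -/
def depth (f : ℕ) : ℕ := Nat.shiftRight f 16

/-- `n` is a root of forest `i` -/
def rootB (i n : ℕ) : Bool := dcs.any fun d => Nat.beq d.i i && Nat.beq d.n n

/-- check of one vector -/
def chk1 (i n I0 I1 j f : ℕ) : Bool :=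
  force (Nat.mod f 16384) fun p =>
    force (Nat.mod (Nat.shiftRight f 14) 4) fun g =>
      cond (Nat.beq g 2) (rootB i n)
        (cond (Nat.ble (Nat.succ p) 15180)
          (cond (Nat.beq (rowv (cond (Nat.beq g 0) I0 I1) j) (row p))
            (Nat.ble (Nat.succ (depth (field i p))) (depth f)) false) false)

/-- check of one block -/
def chk (i c B0 B1 : ℕ) : Bool :=
  force (get 0 gam c) fun A =>
    force (bmul 1012 112 A B0) fun I0 =>
      force (bmul 1012 112 A B1) fun I1 =>
        force (get 0 (fo i) c) fun F =>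
          loop (fun j => force (fieldv F j) fun f => chk1 i (Nat.add (Nat.mul 1012 c) j) I0 I1 j f)
            1012

/-- check of `k` blocks -/
def chkR (i : ℕ) (b0 b1 : List ℕ) (c0 k : ℕ) : Bool :=
  force (evW 112 db b0) fun B0 =>
    force (evW 112 db b1) fun B1 =>
      loop (fun c => chk i (Nat.add c0 c) B0 B1) k

/-- `n` is a root, or is mapped by one of the two matrices to a vector of smaller depth -/
def Good (i n B0 B1 : ℕ) : Prop :=
  rootB i n = true ∨ ∃ p < 15180, depth (field i p) < depth (field i n) ∧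
    (Matrix.vecMul (gv n) (F2Mat.toMat 112 B0) = gv p ∨
      Matrix.vecMul (gv n) (F2Mat.toMat 112 B1) = gv p)

theorem div_add {c j : ℕ} (hj : j < 1012) : (1012 * c + j) / 1012 = c := by omega

theorem mod_add {c j : ℕ} (hj : j < 1012) : (1012 * c + j) % 1012 = j := by omega

theorem row_add {c j : ℕ} (hj : j < 1012) : row (1012 * c + j) = rowv (get 0 gam c) j := by
  show rowv (get 0 gam ((1012 * c + j) / 1012)) ((1012 * c + j) % 1012) = _
  rw [div_add hj, mod_add hj]

theorem field_add {i c j : ℕ} (hj : j < 1012) :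
    field i (1012 * c + j) = fieldv (get 0 (fo i) c) j := by
  show fieldv (get 0 (fo i) ((1012 * c + j) / 1012)) ((1012 * c + j) % 1012) = _
  rw [div_add hj, mod_add hj]

theorem chk_sound {i c B0 B1 : ℕ} (h : chk i c B0 B1 = true) {j : ℕ} (hj : j < 1012) :
    Good i (1012 * c + j) B0 B1 := by
  unfold chk at h
  rw [force_eq, force_eq, force_eq, force_eq] at h
  have h1 := loop_sound h j hj
  rw [force_eq] at h1
  have e1 : fieldv (get 0 (fo i) c) j = field i (1012 * c + j) := (field_add hj).symm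
  rw [e1] at h1
  unfold chk1 at h1
  rw [force_eq, force_eq] at h1
  generalize hf : field i (1012 * c + j) = f at h1
  rcases h2 : Nat.beq (Nat.mod (Nat.shiftRight f 14) 4) 2 with _ | _
  · rw [h2, cond_false] at h1
    rcases h3 : Nat.ble (Nat.succ (Nat.mod f 16384)) 15180 with _ | _
    · rw [h3] at h1; exact absurd h1 Bool.false_ne_true
    rw [h3, cond_true] at h1
    rcases h4 : Nat.beq (rowv (cond (Nat.beq (Nat.mod (Nat.shiftRight f 14) 4) 0)
        (bmul 1012 112 (get 0 gam c) B0) (bmul 1012 112 (get 0 gam c) B1)) j)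
        (row (Nat.mod f 16384)) with _ | _
    · rw [h4] at h1; exact absurd h1 Bool.false_ne_true
    rw [h4, cond_true] at h1
    refine Or.inr ⟨Nat.mod f 16384, Nat.le_of_ble_eq_true h3, ?_, ?_⟩
    · rw [hf]; exact Nat.le_of_ble_eq_true h1
    · have h5 := Nat.eq_of_beq_eq_true h4
      have hg : gv (1012 * c + j) = toVec 112 (rowv (get 0 gam c) j) := by
        unfold gv; rw [row_add hj]
      rw [hg]
      rcases h6 : Nat.beq (Nat.mod (Nat.shiftRight f 14) 4) 0 with _ | _
      · rw [h6, cond_false] at h5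
        right
        rw [← toVec_bmul 1012 _ _ hj, h5]; rfl
      · rw [h6, cond_true] at h5
        left
        rw [← toVec_bmul 1012 _ _ hj, h5]; rfl
  · rw [h2, cond_true] at h1
    exact Or.inl h1

theorem chkR_sound {i : ℕ} {b0 b1 : List ℕ} {c0 k : ℕ} (h : chkR i b0 b1 c0 k = true) {n : ℕ}
    (h1 : 1012 * c0 ≤ n) (h2 : n < 1012 * (c0 + k)) :
    Good i n (evW 112 db b0) (evW 112 db b1) := by
  unfold chkR at h
  rw [force_eq, force_eq] at h
  have h3 := loop_sound h (n / 1012 - c0) (by omega)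
  have h4 : Nat.add c0 (n / 1012 - c0) = n / 1012 := by
    show c0 + (n / 1012 - c0) = n / 1012
    omega
  rw [h4] at h3
  have h5 := chk_sound h3 (j := n % 1012) (by omega)
  rwa [Nat.div_add_mod] at h5

/-- the vectors are strictly increasing -/
def sortedB (c k : ℕ) : Bool :=
  force (get 0 gam c) fun A =>
    loop (fun j => Nat.ble (Nat.succ (rowv A j))
      (row (Nat.succ (Nat.add (Nat.mul 1012 c) j)))) k

theorem sortedB_sound {c k : ℕ} (h : sortedB c k = true) {j : ℕ} (hj : j < k) (hk : k ≤ 1012) :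
    row (1012 * c + j) < row (1012 * c + j + 1) := by
  unfold sortedB at h
  rw [force_eq] at h
  have := Nat.le_of_ble_eq_true (loop_sound h j hj)
  rw [row_add (by omega)]
  exact this

/-- generating word number `g` of the group number `i` -/
def bw (i g : ℕ) : List ℕ := (brels.getD (2 * (i - 2) + g) ⟨0, [], []⟩).b

/-! ### Vectors times words -/

/-- vector times a word -/
def vw (v : ℕ) (w : List ℕ) : ℕ :=
  List.rec (motive := fun _ => ℕ → ℕ) (fun v => v)
    (fun i _ ih v => ih (vmul 112 v (get (F2Mat.one 112) db i))) w v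

theorem vw_nil (v : ℕ) : vw v [] = v := rfl
theorem vw_cons (v i : ℕ) (w : List ℕ) :
    vw v (i :: w) = vw (vmul 112 v (get (F2Mat.one 112) db i)) w := rfl

end Cfsg.Agent.J4M.Gamma
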