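import Cfsg.Agent.J4M.PermTab
import Cfsg.Agent.J4M.Words

/-!
Permutations of the 24 points: tables for the elements of the group of x and y, and stabilizer chains
(data and kernel checks).
-/
set_option autoImplicit false

namespace Cfsg.Agent.J4M.MPerm

open Cfsg.Agent.J4M.Derive Cfsg.Agent.J4M.Words Cfsg.Agent.J4M.PermTab
open Cfsg.Agent.SporadicA.DegPOne Cfsg.Agent.SporadicA.ChainCert

/-- tables of the permutations of the elements number `0 .. 147` (identity if not in the group of x, y) -/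
def ptab : List (List ℕ) := [
  [0, 1, 2, 3, 4, 5, 6, 7, 8, 9, 10, 11, 12, 13, 14, 15, 16, 17, 18, 19, 20, 21, 22, 23],
  [9, 2, 1, 8, 5, 4, 7, 6, 3, 0, 16, 13, 23, 11, 15, 14, 10, 22, 19, 18, 21, 20, 17, 12],
  [17, 9, 2, 1, 8, 5, 4, 7, 6, 3, 0, 16, 13, 23, 11, 15, 14, 10, 22, 19, 18, 21, 20, 12],
  [0, 1, 2, 3, 4, 5, 6, 7, 8, 9, 10, 11, 12, 13, 14, 15, 16, 17, 18, 19, 20, 21, 22, 23],
  [0, 1, 2, 3, 4, 5, 6, 7, 8, 9, 10, 11, 12, 13, 14, 15, 16, 17, 18, 19, 20, 21, 22, 23],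
  [0, 1, 2, 3, 4, 5, 6, 7, 8, 9, 10, 11, 12, 13, 14, 15, 16, 17, 18, 19, 20, 21, 22, 23],
  [0, 1, 2, 3, 4, 5, 6, 7, 8, 9, 10, 11, 12, 13, 14, 15, 16, 17, 18, 19, 20, 21, 22, 23],
  [0, 1, 2, 3, 4, 5, 6, 7, 8, 9, 10, 11, 12, 13, 14, 15, 16, 17, 18, 19, 20, 21, 22, 23],
  [0, 1, 2, 3, 4, 5, 6, 7, 8, 9, 10, 11, 12, 13, 14, 15, 16, 17, 18, 19, 20, 21, 22, 23],
  [0, 1, 2, 3, 4, 5, 6, 7, 8, 9, 10, 11, 12, 13, 14, 15, 16, 17, 18, 19, 20, 21, 22, 23],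
  [0, 1, 2, 3, 4, 5, 6, 7, 8, 9, 10, 11, 12, 13, 14, 15, 16, 17, 18, 19, 20, 21, 22, 23],
  [0, 1, 2, 3, 4, 5, 6, 7, 8, 9, 10, 11, 12, 13, 14, 15, 16, 17, 18, 19, 20, 21, 22, 23],
  [0, 1, 2, 3, 4, 5, 6, 7, 8, 9, 10, 11, 12, 13, 14, 15, 16, 17, 18, 19, 20, 21, 22, 23],
  [0, 1, 2, 3, 4, 5, 6, 7, 8, 9, 10, 11, 12, 13, 14, 15, 16, 17, 18, 19, 20, 21, 22, 23],
  [0, 1, 2, 3, 4, 5, 6, 7, 8, 9, 10, 11, 12, 13, 14, 15, 16, 17, 18, 19, 20, 21, 22, 23],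
  [0, 1, 2, 3, 4, 5, 6, 7, 8, 9, 10, 11, 12, 13, 14, 15, 16, 17, 18, 19, 20, 21, 22, 23],
  [0, 1, 2, 3, 4, 5, 6, 7, 8, 9, 10, 11, 12, 13, 14, 15, 16, 17, 18, 19, 20, 21, 22, 23],
  [0, 1, 2, 3, 4, 5, 6, 7, 8, 9, 10, 11, 12, 13, 14, 15, 16, 17, 18, 19, 20, 21, 22, 23],
  [0, 1, 2, 3, 4, 5, 6, 7, 8, 9, 10, 11, 12, 13, 14, 15, 16, 17, 18, 19, 20, 21, 22, 23],
  [0, 1, 2, 3, 4, 5, 6, 7, 8, 9, 10, 11, 12, 13, 14, 15, 16, 17, 18, 19, 20, 21, 22, 23],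
  [0, 1, 2, 3, 4, 5, 6, 7, 8, 9, 10, 11, 12, 13, 14, 15, 16, 17, 18, 19, 20, 21, 22, 23],
  [0, 1, 2, 3, 4, 5, 6, 7, 8, 9, 10, 11, 12, 13, 14, 15, 16, 17, 18, 19, 20, 21, 22, 23],
  [0, 1, 2, 3, 4, 5, 6, 7, 8, 9, 10, 11, 12, 13, 14, 15, 16, 17, 18, 19, 20, 21, 22, 23],
  [0, 1, 2, 3, 4, 5, 6, 7, 8, 9, 10, 11, 12, 13, 14, 15, 16, 17, 18, 19, 20, 21, 22, 23],
  [0, 1, 2, 3, 4, 5, 6, 7, 8, 9, 10, 11, 12, 13, 14, 15, 16, 17, 18, 19, 20, 21, 22, 23],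
  [0, 1, 2, 3, 4, 5, 6, 7, 8, 9, 10, 11, 12, 13, 14, 15, 16, 17, 18, 19, 20, 21, 22, 23],
  [0, 1, 2, 3, 4, 5, 6, 7, 8, 9, 10, 11, 12, 13, 14, 15, 16, 17, 18, 19, 20, 21, 22, 23],
  [22, 0, 1, 2, 3, 4, 5, 6, 7, 8, 9, 10, 11, 12, 13, 14, 15, 16, 17, 18, 19, 20, 21, 23],
  [3, 2, 9, 6, 5, 8, 7, 4, 1, 17, 14, 23, 12, 16, 15, 11, 0, 20, 19, 22, 21, 18, 10, 13],
  [10, 3, 2, 9, 6, 5, 8, 7, 4, 1, 17, 14, 23, 12, 16, 15, 11, 0, 20, 19, 22, 21, 18, 13],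
  [8, 1, 0, 7, 4, 3, 6, 5, 2, 22, 15, 12, 23, 10, 14, 13, 9, 21, 18, 17, 20, 19, 16, 11],
  [16, 8, 1, 0, 7, 4, 3, 6, 5, 2, 22, 15, 12, 23, 10, 14, 13, 9, 21, 18, 17, 20, 19, 11],
  [20, 17, 9, 2, 1, 8, 5, 4, 7, 6, 3, 0, 16, 13, 23, 11, 15, 14, 10, 22, 19, 18, 21, 12],
  [1, 2, 3, 4, 5, 6, 7, 8, 9, 10, 11, 12, 13, 14, 15, 16, 17, 18, 19, 20, 21, 22, 0, 23],
  [2, 1, 8, 5, 4, 7, 6, 3, 0, 16, 13, 23, 11, 15, 14, 10, 22, 19, 18, 21, 20, 17, 9, 12],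
  [6, 9, 17, 7, 8, 1, 4, 5, 2, 20, 15, 13, 12, 0, 11, 23, 3, 21, 22, 10, 18, 19, 14, 16],
  [14, 6, 9, 17, 7, 8, 1, 4, 5, 2, 20, 15, 13, 12, 0, 11, 23, 3, 21, 22, 10, 18, 19, 16],
  [18, 10, 3, 2, 9, 6, 5, 8, 7, 4, 1, 17, 14, 23, 12, 16, 15, 11, 0, 20, 19, 22, 21, 13],
  [19, 16, 8, 1, 0, 7, 4, 3, 6, 5, 2, 22, 15, 12, 23, 10, 14, 13, 9, 21, 18, 17, 20, 11],
  [21, 20, 17, 9, 2, 1, 8, 5, 4, 7, 6, 3, 0, 16, 13, 23, 11, 15, 14, 10, 22, 19, 18, 12],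
  [2, 9, 6, 5, 8, 7, 4, 1, 17, 14, 23, 12, 16, 15, 11, 0, 20, 19, 22, 21, 18, 10, 3, 13],
  [4, 3, 10, 7, 6, 9, 8, 5, 2, 18, 15, 23, 13, 17, 16, 12, 1, 21, 20, 0, 22, 19, 11, 14],
  [11, 4, 3, 10, 7, 6, 9, 8, 5, 2, 18, 15, 23, 13, 17, 16, 12, 1, 21, 20, 0, 22, 19, 14],
  [5, 8, 16, 6, 7, 0, 3, 4, 1, 19, 14, 12, 11, 22, 10, 23, 2, 20, 21, 9, 17, 18, 13, 15],
  [13, 5, 8, 16, 6, 7, 0, 3, 4, 1, 19, 14, 12, 11, 22, 10, 23, 2, 20, 21, 9, 17, 18, 15],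
  [7, 17, 20, 4, 1, 2, 5, 8, 9, 21, 11, 16, 12, 3, 23, 13, 6, 18, 10, 14, 19, 22, 15, 0],
  [2, 3, 4, 5, 6, 7, 8, 9, 10, 11, 12, 13, 14, 15, 16, 17, 18, 19, 20, 21, 22, 0, 1, 23],
  [1, 8, 5, 4, 7, 6, 3, 0, 16, 13, 23, 11, 15, 14, 10, 22, 19, 18, 21, 20, 17, 9, 2, 12],
  [0, 2, 5, 23, 1, 8, 18, 17, 9, 21, 14, 16, 3, 6, 19, 7, 12, 20, 10, 22, 4, 11, 15, 13],
  [0, 16, 8, 18, 21, 5, 2, 3, 6, 9, 10, 22, 12, 17, 13, 4, 23, 14, 7, 19, 11, 15, 20, 1],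
  [0, 5, 8, 13, 2, 9, 10, 20, 21, 11, 19, 12, 23, 18, 22, 17, 3, 4, 14, 15, 1, 16, 7, 6],
  [0, 12, 9, 10, 11, 8, 5, 23, 18, 21, 14, 15, 3, 20, 6, 1, 13, 19, 17, 22, 16, 7, 4, 2],
  [0, 8, 5, 1, 16, 6, 7, 14, 9, 15, 13, 23, 18, 2, 19, 3, 12, 11, 10, 20, 21, 22, 4, 17],
  [0, 23, 6, 7, 15, 5, 8, 18, 2, 9, 10, 20, 12, 14, 17, 21, 1, 13, 3, 19, 22, 4, 11, 16],
  [0, 8, 9, 6, 5, 21, 14, 4, 11, 16, 22, 3, 13, 10, 15, 20, 23, 1, 19, 7, 2, 12, 17, 18],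
  [0, 3, 21, 14, 16, 9, 8, 13, 10, 11, 19, 7, 23, 4, 18, 2, 6, 22, 20, 15, 12, 17, 1, 5],
  [0, 13, 18, 17, 7, 8, 9, 10, 5, 21, 14, 4, 3, 19, 20, 11, 2, 6, 23, 22, 15, 1, 16, 12],
  [0, 5, 6, 17, 8, 9, 10, 11, 15, 22, 19, 12, 1, 7, 20, 14, 18, 21, 13, 4, 16, 23, 3, 2],
  [0, 12, 9, 10, 22, 6, 5, 1, 7, 15, 13, 4, 18, 11, 2, 16, 17, 19, 14, 20, 23, 3, 21, 8],
  [0, 6, 5, 16, 23, 2, 3, 13, 9, 4, 17, 1, 7, 8, 19, 18, 12, 22, 10, 11, 15, 20, 21, 14],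
  [0, 23, 11, 19, 12, 21, 9, 6, 14, 16, 22, 17, 13, 1, 10, 5, 18, 15, 4, 7, 3, 20, 2, 8],
  [0, 21, 9, 5, 3, 10, 20, 22, 11, 17, 18, 6, 14, 8, 15, 13, 23, 12, 19, 1, 16, 7, 2, 4],
  [0, 18, 8, 12, 13, 5, 23, 6, 21, 1, 20, 2, 17, 9, 22, 10, 3, 15, 14, 16, 7, 4, 11, 19],
  [0, 17, 7, 14, 3, 6, 9, 10, 5, 15, 13, 21, 18, 19, 11, 22, 8, 2, 1, 20, 4, 16, 23, 12],
  [0, 18, 14, 4, 20, 21, 11, 19, 9, 16, 22, 2, 13, 15, 1, 12, 8, 10, 6, 7, 17, 5, 3, 23],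
  [0, 8, 5, 19, 18, 21, 14, 15, 1, 4, 22, 3, 12, 23, 16, 6, 17, 7, 20, 11, 13, 2, 10, 9],
  [0, 7, 6, 12, 17, 5, 1, 2, 15, 16, 11, 8, 14, 9, 20, 10, 18, 4, 13, 23, 3, 21, 22, 19],
  [0, 14, 21, 23, 18, 9, 6, 10, 16, 5, 1, 8, 4, 11, 7, 19, 13, 17, 22, 3, 20, 2, 12, 15],
  [0, 5, 21, 9, 8, 1, 20, 7, 4, 2, 16, 17, 19, 14, 11, 15, 12, 13, 22, 10, 18, 3, 6, 23],
  [0, 17, 1, 20, 2, 21, 5, 19, 14, 4, 22, 10, 12, 7, 23, 18, 9, 16, 15, 11, 3, 6, 13, 8],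
  [0, 1, 19, 3, 4, 5, 21, 11, 12, 9, 23, 17, 20, 15, 13, 14, 6, 7, 2, 18, 8, 16, 10, 22],
  [0, 1, 22, 19, 12, 15, 9, 2, 13, 23, 20, 14, 17, 16, 10, 5, 7, 4, 21, 3, 18, 11, 8, 6],
  [0, 1, 18, 3, 4, 5, 16, 17, 20, 9, 22, 7, 8, 14, 15, 13, 21, 11, 19, 2, 12, 6, 23, 10],
  [0, 1, 10, 18, 20, 14, 9, 19, 15, 22, 8, 13, 7, 6, 23, 5, 11, 4, 16, 3, 2, 17, 12, 21],
  [0, 1, 3, 19, 12, 15, 11, 14, 17, 23, 6, 4, 18, 5, 16, 10, 9, 2, 22, 21, 13, 7, 20, 8],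
  [0, 1, 8, 3, 17, 5, 23, 22, 16, 6, 18, 10, 4, 7, 20, 15, 2, 12, 11, 19, 21, 14, 13, 9],
  [0, 1, 23, 2, 8, 13, 9, 18, 14, 10, 12, 15, 11, 21, 22, 5, 17, 4, 6, 3, 19, 7, 20, 16],
  [0, 1, 3, 18, 20, 14, 17, 13, 7, 22, 21, 4, 2, 5, 6, 23, 9, 19, 10, 16, 15, 11, 8, 12],
  [0, 1, 12, 3, 7, 5, 22, 10, 6, 21, 2, 23, 4, 11, 8, 14, 19, 20, 17, 18, 16, 13, 15, 9],
  [0, 1, 21, 19, 12, 15, 7, 4, 18, 23, 8, 2, 13, 10, 5, 16, 11, 14, 3, 22, 17, 9, 6, 20],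
  [0, 1, 19, 3, 17, 5, 14, 10, 4, 6, 9, 12, 21, 15, 7, 20, 23, 22, 8, 11, 16, 2, 18, 13],
  [0, 1, 13, 19, 4, 15, 6, 8, 7, 9, 21, 20, 12, 2, 18, 5, 22, 17, 14, 3, 11, 10, 16, 23],
  [0, 1, 16, 18, 20, 14, 11, 4, 2, 22, 12, 19, 15, 23, 5, 6, 17, 13, 3, 10, 7, 9, 21, 8],
  [0, 1, 8, 16, 2, 23, 22, 3, 5, 12, 15, 6, 19, 9, 21, 14, 13, 20, 11, 18, 10, 4, 7, 17],
  [0, 1, 18, 3, 7, 5, 13, 23, 4, 21, 9, 20, 16, 14, 11, 8, 22, 10, 12, 17, 6, 19, 2, 15],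
  [0, 1, 15, 18, 4, 14, 21, 12, 11, 9, 16, 8, 20, 19, 2, 5, 10, 7, 13, 3, 17, 23, 6, 22],
  [0, 1, 11, 3, 17, 5, 2, 12, 21, 6, 13, 22, 16, 20, 15, 7, 14, 10, 19, 8, 4, 23, 9, 18],
  [0, 1, 17, 3, 7, 5, 19, 20, 16, 21, 15, 10, 6, 8, 14, 11, 13, 23, 18, 12, 4, 22, 9, 2],
  [0, 1, 3, 18, 4, 14, 23, 8, 20, 9, 22, 7, 17, 5, 19, 2, 21, 12, 15, 13, 11, 10, 16, 6],
  [0, 1, 9, 12, 6, 11, 21, 17, 8, 2, 4, 14, 23, 13, 15, 5, 20, 7, 22, 3, 18, 10, 16, 19],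
  [0, 1, 16, 13, 17, 2, 9, 3, 5, 6, 11, 19, 12, 21, 22, 14, 8, 4, 10, 18, 15, 7, 20, 23],
  [0, 1, 2, 3, 22, 5, 19, 11, 12, 8, 6, 16, 9, 18, 17, 4, 7, 23, 21, 10, 20, 13, 15, 14],
  [0, 1, 2, 23, 15, 16, 11, 9, 17, 8, 10, 12, 20, 7, 4, 5, 14, 13, 19, 3, 21, 6, 18, 22],
  [0, 1, 2, 23, 18, 16, 3, 12, 20, 17, 11, 14, 8, 19, 13, 15, 9, 22, 6, 10, 21, 7, 5, 4],
  [0, 1, 2, 22, 5, 14, 12, 8, 13, 17, 10, 20, 21, 9, 15, 16, 4, 7, 3, 23, 6, 11, 19, 18],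
  [0, 1, 2, 23, 5, 16, 10, 14, 8, 20, 3, 9, 17, 6, 22, 18, 12, 4, 7, 11, 21, 19, 15, 13],
  [0, 1, 2, 4, 15, 9, 14, 17, 22, 20, 11, 8, 21, 12, 18, 16, 13, 19, 10, 23, 7, 3, 6, 5],
  [0, 1, 2, 22, 19, 14, 23, 20, 21, 13, 12, 4, 17, 3, 7, 5, 8, 18, 11, 10, 6, 9, 16, 15],
  [0, 1, 2, 18, 16, 4, 20, 17, 7, 13, 10, 21, 6, 8, 5, 14, 15, 9, 23, 22, 11, 12, 3, 19],
  [0, 1, 2, 5, 16, 13, 8, 20, 19, 22, 11, 21, 7, 17, 15, 9, 18, 12, 23, 4, 3, 14, 10, 6],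
  [0, 1, 2, 15, 5, 8, 4, 13, 18, 21, 12, 17, 6, 20, 19, 14, 7, 3, 10, 22, 9, 23, 11, 16],
  [0, 1, 2, 18, 3, 4, 22, 21, 6, 7, 20, 15, 13, 23, 9, 16, 17, 19, 12, 10, 11, 8, 14, 5],
  [0, 1, 2, 19, 14, 15, 21, 13, 9, 7, 10, 6, 11, 17, 16, 4, 5, 8, 22, 18, 12, 20, 23, 3],
  [0, 1, 2, 6, 9, 18, 21, 22, 12, 19, 11, 7, 3, 20, 16, 13, 15, 17, 4, 5, 14, 8, 23, 10],
  [0, 1, 2, 15, 11, 8, 22, 17, 6, 18, 4, 7, 21, 10, 3, 5, 13, 16, 23, 12, 9, 20, 14, 19],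
  [0, 1, 2, 16, 14, 7, 17, 21, 3, 18, 12, 6, 9, 13, 5, 8, 19, 20, 22, 15, 23, 4, 10, 11],
  [0, 1, 2, 18, 14, 4, 10, 15, 13, 6, 22, 17, 7, 12, 19, 3, 21, 5, 8, 20, 11, 23, 16, 9],
  [0, 1, 2, 10, 13, 15, 7, 19, 17, 12, 11, 3, 14, 22, 9, 18, 16, 20, 5, 6, 8, 21, 4, 23],
  [0, 1, 2, 19, 5, 13, 7, 18, 16, 6, 4, 21, 9, 17, 11, 8, 3, 10, 12, 15, 20, 22, 23, 14],
  [0, 1, 2, 16, 10, 7, 15, 6, 9, 3, 17, 19, 18, 22, 20, 14, 21, 11, 4, 12, 23, 13, 8, 5],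
  [0, 1, 2, 10, 4, 15, 6, 3, 14, 17, 7, 16, 12, 5, 20, 13, 19, 23, 21, 11, 8, 22, 18, 9],
  [0, 1, 2, 14, 8, 3, 21, 6, 10, 16, 4, 9, 20, 18, 5, 13, 11, 17, 15, 19, 22, 7, 12, 23],
  [0, 1, 2, 3, 20, 4, 19, 13, 17, 8, 21, 16, 18, 9, 12, 5, 23, 7, 6, 14, 22, 11, 15, 10],
  [0, 1, 2, 3, 17, 6, 7, 5, 8, 10, 14, 12, 23, 21, 9, 19, 15, 22, 18, 16, 13, 20, 4, 11],
  [0, 1, 2, 3, 22, 20, 14, 9, 7, 17, 11, 23, 6, 8, 18, 4, 10, 13, 19, 12, 15, 16, 5, 21],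
  [0, 1, 2, 3, 7, 19, 13, 4, 17, 21, 12, 18, 10, 11, 8, 14, 5, 15, 6, 23, 9, 22, 20, 16],
  [0, 1, 2, 3, 13, 17, 16, 21, 22, 8, 20, 15, 18, 10, 23, 6, 11, 5, 7, 9, 4, 12, 19, 14],
  [0, 1, 2, 3, 22, 7, 5, 6, 8, 14, 9, 23, 11, 20, 10, 16, 19, 4, 18, 15, 21, 13, 17, 12],
  [0, 1, 2, 3, 13, 14, 9, 20, 7, 11, 18, 6, 21, 16, 17, 12, 4, 5, 19, 10, 8, 15, 22, 23],
  [0, 1, 2, 3, 15, 13, 4, 19, 17, 12, 8, 10, 16, 22, 21, 23, 14, 20, 6, 5, 11, 9, 7, 18],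
  [0, 1, 2, 3, 5, 16, 21, 17, 22, 20, 23, 18, 14, 12, 8, 9, 6, 19, 7, 11, 10, 4, 13, 15],
  [0, 1, 2, 3, 21, 22, 15, 20, 4, 8, 13, 19, 18, 14, 11, 7, 12, 6, 5, 10, 17, 23, 16, 9],
  [0, 1, 2, 3, 8, 13, 10, 16, 5, 7, 15, 4, 19, 11, 21, 14, 23, 20, 9, 17, 22, 6, 12, 18],
  [0, 1, 2, 3, 5, 9, 20, 14, 7, 18, 17, 21, 23, 15, 11, 10, 12, 22, 19, 4, 16, 8, 13, 6],
  [0, 1, 2, 3, 11, 15, 5, 22, 20, 17, 9, 14, 6, 12, 16, 13, 18, 19, 4, 21, 7, 10, 23, 8],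
  [0, 1, 2, 3, 10, 5, 11, 12, 19, 22, 4, 6, 7, 20, 14, 16, 15, 17, 21, 8, 13, 18, 9, 23],
  [0, 1, 2, 3, 19, 21, 17, 16, 22, 23, 8, 14, 15, 4, 20, 11, 9, 13, 7, 6, 12, 10, 5, 18],
  [0, 1, 2, 3, 17, 21, 10, 14, 6, 4, 23, 12, 5, 8, 18, 22, 9, 20, 15, 11, 16, 19, 7, 13],
  [0, 1, 2, 3, 20, 10, 16, 13, 5, 15, 21, 19, 18, 6, 7, 17, 14, 12, 9, 23, 11, 22, 8, 4],
  [0, 1, 2, 3, 7, 11, 21, 12, 19, 20, 10, 18, 4, 17, 6, 15, 8, 22, 5, 16, 23, 14, 13, 9],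
  [0, 1, 2, 3, 20, 10, 14, 21, 6, 23, 18, 5, 13, 19, 4, 11, 22, 7, 15, 9, 8, 16, 17, 12],
  [0, 1, 2, 3, 4, 18, 17, 12, 15, 5, 7, 23, 10, 6, 21, 16, 8, 13, 9, 19, 11, 22, 14, 20],
  [0, 1, 2, 3, 4, 9, 15, 12, 17, 19, 7, 16, 10, 20, 11, 23, 14, 22, 18, 5, 21, 13, 8, 6],
  [0, 1, 2, 3, 4, 11, 20, 10, 8, 21, 12, 13, 7, 5, 6, 16, 19, 22, 17, 15, 14, 23, 18, 9],
  [0, 1, 2, 3, 4, 9, 13, 10, 16, 18, 12, 20, 7, 17, 22, 8, 15, 6, 5, 19, 23, 14, 21, 11],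
  [0, 1, 2, 3, 4, 23, 11, 7, 15, 22, 10, 6, 12, 18, 17, 8, 19, 14, 13, 16, 21, 20, 9, 5],
  [0, 1, 2, 3, 4, 16, 21, 7, 17, 13, 10, 20, 12, 9, 15, 14, 5, 8, 22, 23, 11, 6, 18, 19],
  [0, 1, 2, 3, 4, 17, 22, 7, 16, 11, 10, 9, 12, 20, 23, 19, 8, 5, 21, 15, 13, 18, 6, 14],
  [0, 1, 2, 3, 4, 21, 16, 7, 22, 15, 10, 19, 12, 14, 13, 9, 6, 18, 17, 11, 23, 5, 8, 20],
  [0, 1, 2, 3, 4, 13, 14, 12, 8, 23, 7, 5, 10, 11, 20, 19, 15, 18, 22, 16, 6, 9, 17, 21],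
  [0, 1, 2, 3, 4, 20, 23, 12, 16, 14, 7, 17, 10, 9, 13, 15, 19, 21, 6, 8, 22, 11, 5, 18],
  [0, 1, 2, 3, 4, 22, 8, 12, 14, 16, 7, 19, 10, 21, 6, 5, 17, 9, 13, 23, 20, 18, 15, 11],
  [0, 1, 2, 3, 4, 21, 5, 12, 19, 17, 7, 14, 10, 22, 18, 8, 16, 20, 11, 15, 9, 6, 23, 13],
  [0, 1, 2, 3, 4, 11, 19, 12, 5, 15, 7, 8, 10, 13, 9, 14, 23, 6, 21, 17, 18, 20, 16, 22],
  [0, 1, 2, 3, 4, 17, 18, 12, 9, 21, 7, 20, 10, 16, 5, 6, 22, 14, 15, 11, 19, 8, 13, 23],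
  [0, 1, 2, 3, 4, 15, 9, 12, 18, 11, 7, 6, 10, 23, 19, 20, 13, 8, 17, 21, 5, 14, 22, 16],
  [0, 1, 2, 3, 4, 5, 16, 10, 13, 19, 12, 8, 7, 11, 23, 20, 21, 14, 9, 18, 22, 6, 15, 17],
  [0, 1, 2, 3, 4, 5, 21, 12, 11, 18, 7, 13, 10, 8, 17, 22, 6, 23, 19, 9, 15, 16, 20, 14]]

theorem ptab_ok : ptab.all okTab = true := by decide +kernel

theorem msteps0_perm : (msteps0.all fun s => relOK ptab s.eq.1 s.eq.2) = true := by decide +kernel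
theorem msteps1_perm : (msteps1.all fun s => relOK ptab s.eq.1 s.eq.2) = true := by decide +kernel
theorem msteps2_perm : (msteps2.all fun s => relOK ptab s.eq.1 s.eq.2) = true := by decide +kernel
theorem msteps3_perm : (msteps3.all fun s => relOK ptab s.eq.1 s.eq.2) = true := by decide +kernel

/-- first generating word -/
def wK0 : List ℕ := [1]
/-- second generating word -/
def wK1 : List ℕ := [146, 144, 113, 81, 49, 28]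
/-- table of the first generator -/
def aK : List ℕ := [9, 2, 1, 8, 5, 4, 7, 6, 3, 0, 16, 13, 23, 11, 15, 14, 10, 22, 19, 18, 21, 20, 17, 12]
/-- table of the second generator -/
def bK : List ℕ := [6, 14, 10, 13, 8, 7, 15, 5, 4, 20, 2, 1, 17, 22, 23, 16, 0, 21, 3, 12, 9, 19, 18, 11]
/-- tables of further elements -/
def TK : List (List ℕ) := [
  [0, 23, 4, 15, 12, 1, 22, 19, 10, 9, 14, 11, 2, 13, 8, 16, 3, 7, 6, 17, 20, 21, 18, 5],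
  [0, 17, 19, 16, 11, 7, 18, 2, 12, 20, 23, 5, 9, 22, 4, 6, 15, 1, 13, 21, 10, 8, 3, 14],
  [0, 1, 21, 18, 5, 23, 22, 7, 8, 11, 17, 19, 12, 3, 10, 15, 6, 14, 13, 9, 2, 20, 16, 4],
  [0, 1, 23, 3, 20, 2, 13, 11, 7, 10, 19, 8, 4, 22, 14, 16, 18, 17, 15, 9, 12, 21, 6, 5],
  [0, 1, 21, 18, 5, 23, 22, 7, 8, 11, 17, 19, 12, 3, 10, 15, 6, 14, 13, 9, 2, 20, 16, 4],
  [0, 1, 5, 15, 4, 20, 18, 7, 9, 10, 8, 11, 23, 6, 19, 22, 16, 14, 13, 17, 2, 12, 3, 21],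
  [0, 1, 2, 6, 21, 4, 16, 7, 9, 17, 19, 10, 23, 13, 14, 22, 3, 8, 15, 11, 12, 5, 18, 20]]
/-- relations defining the further elements -/
def SK : List Step := [
  ⟨[1, 0, 1, 0, 1], 2, [], [0, 1, 0, 1, 0, 1, 0]⟩,
  ⟨[0, 1, 0, 1, 0], 3, [], [1, 0, 1, 1, 1, 0, 1, 0]⟩,
  ⟨[3, 2, 2, 3], 4, [], [2, 3, 2, 2, 3]⟩,
  ⟨[3, 3, 3, 2], 5, [], [2, 3, 3, 3, 2]⟩,
  ⟨[], 6, [], [4]⟩,
  ⟨[5, 5], 7, [], [4, 5, 5]⟩,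
  ⟨[7, 6], 8, [], [6, 7, 6]⟩]
/-- the stabilizer chain -/
def CK : List (ℕ × List (ℕ × List ℕ)) := [
  (0, [(0, []), (1, [1, 1, 1, 0, 1, 1]), (2, [1, 0, 1, 1, 1]), (3, [1, 0, 1, 0, 1, 0]), (4, [0, 1, 0, 1]), (5, [1, 0, 1]), (6, [1]), (7, [0, 1]), (8, [1, 0, 1, 0, 1]), (9, [0]), (10, [0, 1, 1, 1]), (11, [1, 1, 0, 1, 1]), (12, [1, 1, 0, 1, 0]), (13, [0, 1, 1, 0, 1, 1]), (14, [0, 1, 1]), (15, [1, 1]), (16, [1, 1, 1]), (17, [1, 1, 1, 0, 1, 0]), (18, [0, 1, 0, 1, 0]), (19, [1, 0, 1, 0]), (20, [1, 0]), (21, [0, 1, 0]), (22, [0, 1, 1, 1, 0, 1, 0]), (23, [1, 0, 1, 1])]),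
  (1, [(1, []), (2, [3, 2, 3]), (4, [3, 3, 2]), (5, [2, 2]), (7, [2, 3]), (8, [2, 3, 2]), (9, [3, 3, 2, 3, 2]), (10, [2, 2, 3, 2]), (11, [3, 3, 3, 2]), (12, [3, 2, 3, 2]), (14, [3, 2]), (17, [3]), (19, [2, 2, 3]), (20, [3, 3, 3, 2, 3, 2]), (21, [3, 2, 2, 3]), (23, [2])]),
  (7, [(7, []), (8, [5, 5]), (9, [4, 4, 5]), (10, [5, 4, 4, 5]), (11, [5]), (14, [4, 4, 5, 4, 4, 5]), (17, [4, 5, 4, 4, 5]), (19, [4, 5])]),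
  (2, [(2, []), (4, [6, 6, 7]), (5, [7]), (12, [7, 6]), (20, [6, 6]), (21, [6]), (23, [6, 7])]),
  (3, [(3, []), (6, [8]), (16, [8, 8])])]
theorem cardK : 64512 ≤ Nat.card (Subgroup.closure {pOf aK, pOf bK}) := by
  have h := chain_ge (a := aK) (b := bK) TK SK CK (by decide +kernel) (by decide +kernel)
    (by decide +kernel) (by decide +kernel)
  have h2 : chainProd CK = 64512 := by decide +kernel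
  rwa [h2] at h
theorem tabK : (okTab aK && okTab bK && tabOK ptab wK0 aK && tabOK ptab wK1 bK) = true := by
  decide +kernel

/-- first generating word -/
def wZ0 : List ℕ := [147, 142, 98, 73, 68, 34]
/-- second generating word -/
def wZ1 : List ℕ := [134, 112, 99, 83, 58, 31]
/-- table of the first generator -/
def aZ : List ℕ := [23, 16, 17, 1, 19, 14, 2, 3, 0, 15, 22, 7, 6, 4, 9, 21, 20, 10, 5, 8, 11, 18, 12, 13]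
/-- table of the second generator -/
def bZ : List ℕ := [3, 4, 23, 0, 1, 21, 16, 19, 14, 17, 11, 10, 20, 18, 8, 22, 6, 9, 13, 7, 12, 5, 15, 2]
/-- tables of further elements -/
def TZ : List (List ℕ) := [
  [0, 19, 21, 22, 23, 12, 6, 4, 2, 20, 5, 8, 17, 16, 7, 15, 13, 10, 18, 9, 1, 11, 3, 14],
  [0, 9, 17, 15, 19, 11, 12, 20, 5, 2, 4, 18, 8, 21, 13, 22, 1, 6, 23, 16, 14, 7, 3, 10],
  [0, 1, 2, 3, 20, 5, 8, 18, 6, 16, 13, 19, 21, 10, 14, 22, 9, 17, 7, 11, 4, 12, 15, 23],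
  [0, 1, 19, 3, 14, 17, 2, 6, 13, 16, 18, 8, 12, 20, 10, 22, 5, 9, 4, 7, 11, 23, 15, 21],
  [0, 1, 19, 15, 11, 14, 6, 7, 8, 10, 9, 4, 12, 18, 5, 3, 16, 20, 13, 2, 17, 23, 22, 21],
  [0, 1, 2, 15, 5, 4, 7, 6, 16, 18, 13, 14, 12, 10, 11, 3, 8, 17, 9, 19, 20, 23, 22, 21],
  [0, 1, 2, 22, 5, 4, 11, 8, 7, 9, 10, 6, 21, 17, 16, 15, 14, 13, 19, 18, 20, 12, 3, 23],
  [0, 1, 2, 3, 20, 5, 8, 18, 6, 16, 13, 19, 21, 10, 14, 22, 9, 17, 7, 11, 4, 12, 15, 23],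
  [0, 1, 2, 22, 20, 5, 6, 19, 14, 11, 17, 9, 12, 13, 8, 15, 18, 10, 16, 7, 4, 23, 3, 21]]
/-- relations defining the further elements -/
def SZ : List Step := [
  ⟨[1, 0, 1, 0], 2, [], [0, 0, 0, 1, 0, 0]⟩,
  ⟨[0, 1], 3, [], [1, 0, 0, 0]⟩,
  ⟨[3, 3, 3, 3, 3], 4, [], [2, 2, 2, 3, 3, 3]⟩,
  ⟨[2, 3, 3], 5, [], [3, 2, 3, 2]⟩,
  ⟨[2, 3, 3, 3], 6, [], [3, 2, 2, 2, 3, 2, 3]⟩,
  ⟨[4, 5], 7, [], [5, 4, 6, 4, 5]⟩,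
  ⟨[5, 4, 5], 8, [], [6, 5, 4, 5]⟩,
  ⟨[], 9, [], [4]⟩,
  ⟨[7, 8], 10, [], [9, 7, 8]⟩]
/-- the stabilizer chain -/
def CZ : List (ℕ × List (ℕ × List ℕ)) := [
  (0, [(0, []), (1, [0, 1]), (2, [1, 0]), (3, [1]), (4, [0, 0, 0]), (5, [0, 1, 0, 0]), (6, [1, 0, 0, 1]), (7, [1, 0, 0, 0, 0]), (8, [0, 0, 0, 0, 0]), (9, [1, 0, 1, 0]), (10, [0, 0, 1, 0]), (11, [1, 0, 0, 1, 0]), (12, [1, 0, 0, 0, 1]), (13, [0, 0]), (14, [0, 0, 1, 0, 0]), (15, [0, 1, 0, 1, 0]), (16, [0, 0, 1]), (17, [0, 1, 0]), (18, [1, 0, 0]), (19, [0, 0, 0, 0]), (20, [0, 0, 0, 1]), (21, [1, 0, 1, 0, 0]), (22, [0, 0, 0, 1, 0]), (23, [0])]),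
  (1, [(1, []), (2, [3, 3]), (4, [2, 2, 3, 2, 3]), (5, [2, 2, 3, 3, 3]), (6, [3, 3, 3, 3]), (7, [2, 3, 2, 3]), (8, [2, 2, 2, 3, 3]), (9, [3]), (10, [2, 3, 3, 3]), (11, [2, 2, 3, 3]), (12, [3, 3, 3, 3, 3]), (13, [2, 3, 2]), (14, [3, 2, 3]), (16, [3, 2]), (17, [3, 3, 3]), (18, [3, 2, 2, 3, 3]), (19, [2]), (20, [2, 3]), (21, [2, 3, 3]), (23, [2, 2, 2, 3, 2, 3])]),
  (2, [(2, []), (4, [6, 4, 5]), (5, [6, 5, 6, 4, 5]), (6, [5, 5, 5]), (7, [5, 5]), (8, [5, 4, 5]), (9, [6, 4, 5, 5, 4, 5]), (10, [4, 5, 5, 4, 5]), (11, [4, 5]), (13, [5, 5, 4, 5]), (14, [5, 6, 4, 5]), (16, [4, 6, 4, 5, 5, 4, 5]), (17, [6, 4, 6, 4, 5]), (18, [4, 5, 5]), (19, [5]), (20, [4, 6, 4, 5])]),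
  (6, [(6, []), (7, [7]), (8, [9]), (9, [7, 9, 7]), (11, [8]), (14, [7, 8]), (16, [7, 9]), (18, [9, 7]), (19, [9, 8])]),
  (3, [(3, []), (22, [10])])]
theorem cardZ : 138240 ≤ Nat.card (Subgroup.closure {pOf aZ, pOf bZ}) := by
  have h := chain_ge (a := aZ) (b := bZ) TZ SZ CZ (by decide +kernel) (by decide +kernel)
    (by decide +kernel) (by decide +kernel)
  have h2 : chainProd CZ = 138240 := by decide +kernel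
  rwa [h2] at h
theorem tabZ : (okTab aZ && okTab bZ && tabOK ptab wZ0 aZ && tabOK ptab wZ1 bZ) = true := by
  decide +kernel

/-- first generating word -/
def wB20 : List ℕ := [146, 144, 130, 109, 90, 60, 32]
/-- second generating word -/
def wB21 : List ℕ := [146, 140, 129, 101, 79, 57, 34]
/-- table of the first generator -/
def aB2 : List ℕ := [23, 19, 17, 21, 10, 9, 5, 16, 3, 22, 18, 0, 7, 1, 13, 20, 2, 6, 12, 15, 11, 14, 4, 8]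
/-- table of the second generator -/
def bB2 : List ℕ := [11, 21, 5, 14, 4, 2, 8, 15, 0, 22, 3, 13, 23, 7, 18, 17, 10, 6, 9, 16, 20, 12, 19, 1]
/-- tables of further elements -/
def TB2 : List (List ℕ) := [
  [0, 7, 11, 6, 14, 8, 15, 12, 4, 21, 2, 5, 17, 16, 20, 18, 13, 23, 3, 1, 10, 19, 22, 9],
  [0, 11, 8, 6, 7, 19, 3, 20, 21, 4, 23, 12, 9, 18, 1, 13, 16, 5, 22, 2, 14, 10, 15, 17],
  [0, 1, 5, 22, 12, 21, 3, 14, 9, 7, 11, 19, 4, 6, 8, 16, 15, 10, 18, 17, 20, 23, 13, 2],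
  [0, 1, 2, 6, 21, 4, 16, 7, 9, 17, 19, 10, 23, 13, 14, 22, 3, 8, 15, 11, 12, 5, 18, 20],
  [0, 1, 12, 18, 21, 2, 13, 7, 19, 9, 17, 10, 5, 15, 8, 6, 3, 11, 16, 14, 4, 20, 22, 23],
  [0, 1, 21, 22, 20, 5, 6, 7, 11, 14, 9, 17, 4, 3, 10, 16, 18, 8, 15, 19, 12, 23, 13, 2],
  [0, 1, 2, 6, 21, 4, 16, 7, 9, 17, 19, 10, 23, 13, 14, 22, 3, 8, 15, 11, 12, 5, 18, 20]]
/-- relations defining the further elements -/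
def SB2 : List Step := [
  ⟨[0, 1, 0, 0, 1, 0], 2, [], [1, 1, 0, 0, 1, 0]⟩,
  ⟨[0, 0, 0, 1, 0], 3, [], [1, 0, 0, 0, 1, 0]⟩,
  ⟨[3, 2], 4, [], [2, 3, 3, 2]⟩,
  ⟨[2, 3, 2, 2], 5, [], [3, 2, 2, 3]⟩,
  ⟨[4], 6, [], [5, 4]⟩,
  ⟨[4, 5, 4, 4, 4], 7, [], [5, 4, 4, 5, 4, 4, 4]⟩,
  ⟨[7], 8, [], [6, 7, 6]⟩]
/-- the stabilizer chain -/
def CB2 : List (ℕ × List (ℕ × List ℕ)) := [
  (0, [(0, []), (1, [1, 0]), (2, [0, 1, 0, 1, 0]), (3, [0, 0, 0]), (4, [0, 0, 1, 1, 1, 0, 0, 0]), (5, [1, 0, 1, 0, 1, 0]), (6, [0, 1, 0, 0, 1, 0]), (7, [1, 1, 1]), (8, [0, 0]), (9, [1, 1, 1, 0, 0, 0]), (10, [1, 1, 0, 1, 0]), (11, [1]), (12, [1, 1, 1, 0]), (13, [1, 1]), (14, [1, 0, 0, 0]), (15, [0, 0, 1, 0]), (16, [1, 0, 1, 0]), (17, [1, 0, 0, 1, 0]), (18, [1, 1, 0, 0, 0]), (19, [0, 1, 0]), (20, [0, 0, 0, 1, 0]), (21,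 [1, 1, 0]), (22, [0, 1, 1, 1, 0, 0, 0]), (23, [0])]),
  (1, [(1, []), (2, [2, 2, 3, 2]), (4, [3, 3, 2, 2]), (5, [2, 3]), (7, [2]), (8, [2, 2, 3]), (9, [3, 2, 2]), (10, [2, 3, 2]), (11, [3]), (12, [2, 2]), (14, [3, 3, 2]), (17, [2, 2, 2]), (19, [3, 2, 3]), (20, [3, 2]), (21, [2, 3, 2, 2]), (23, [2, 2, 2, 2])]),
  (7, [(7, []), (8, [4, 4]), (9, [4, 4, 4]), (10, [4, 5, 4, 4, 4]), (11, [4, 4, 5, 4, 4, 4]), (14, [4]), (17, [5, 4, 4, 4]), (19, [5, 4, 5, 4, 4, 4])]),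
  (2, [(2, []), (4, [7, 6]), (5, [6, 6]), (12, [6]), (20, [6, 7]), (21, [7]), (23, [7, 7])]),
  (3, [(3, []), (6, [8]), (16, [8, 8])])]
theorem cardB2 : 64512 ≤ Nat.card (Subgroup.closure {pOf aB2, pOf bB2}) := by
  have h := chain_ge (a := aB2) (b := bB2) TB2 SB2 CB2 (by decide +kernel) (by decide +kernel)
    (by decide +kernel) (by decide +kernel)
  have h2 : chainProd CB2 = 64512 := by decide +kernel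
  rwa [h2] at h
theorem tabB2 : (okTab aB2 && okTab bB2 && tabOK ptab wB20 aB2 && tabOK ptab wB21 bB2) = true := by
  decide +kernel

/-- first generating word -/
def wB30 : List ℕ := [147, 135, 127, 94, 89, 69, 27]
/-- second generating word -/
def wB31 : List ℕ := [143, 116, 99, 78, 57, 32]
/-- table of the first generator -/
def aB3 : List ℕ := [4, 0, 13, 1, 3, 16, 5, 9, 12, 20, 14, 17, 15, 11, 23, 19, 21, 2, 7, 8, 18, 6, 10, 22]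
/-- table of the second generator -/
def bB3 : List ℕ := [13, 11, 5, 18, 7, 19, 22, 16, 23, 2, 3, 0, 21, 14, 20, 8, 15, 12, 9, 6, 4, 10, 17, 1]
/-- tables of further elements -/
def TB3 : List (List ℕ) := [
  [0, 12, 9, 6, 20, 23, 3, 15, 5, 21, 22, 13, 14, 10, 1, 11, 16, 4, 19, 18, 8, 2, 7, 17],
  [0, 9, 13, 3, 8, 17, 16, 11, 12, 2, 19, 10, 18, 4, 23, 21, 6, 20, 1, 7, 15, 14, 5, 22],
  [0, 1, 15, 16, 4, 5, 3, 12, 14, 8, 20, 2, 18, 10, 9, 11, 6, 17, 7, 23, 13, 21, 19, 22],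
  [0, 1, 23, 16, 21, 4, 3, 17, 15, 18, 8, 9, 20, 19, 22, 11, 6, 13, 10, 14, 12, 5, 7, 2],
  [0, 1, 14, 3, 21, 5, 16, 7, 12, 20, 11, 10, 8, 13, 2, 18, 6, 23, 15, 19, 9, 4, 22, 17],
  [0, 1, 2, 3, 21, 5, 16, 13, 9, 8, 18, 15, 20, 7, 14, 11, 6, 17, 10, 22, 12, 4, 19, 23],
  [0, 1, 2, 3, 5, 21, 6, 14, 15, 22, 17, 9, 23, 7, 13, 19, 16, 18, 10, 8, 12, 4, 11, 20],
  [0, 1, 2, 6, 5, 4, 3, 13, 17, 9, 15, 22, 12, 7, 14, 10, 16, 8, 19, 18, 23, 21, 11, 20],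
  [0, 1, 2, 16, 4, 21, 6, 13, 8, 17, 22, 18, 23, 7, 14, 19, 3, 9, 11, 15, 20, 5, 10, 12]]
/-- relations defining the further elements -/
def SB3 : List Step := [
  ⟨[1, 1, 0, 1, 0], 2, [], [0, 0, 0, 1, 1, 0]⟩,
  ⟨[1, 1, 1, 0], 3, [], [0, 1, 0, 0, 1]⟩,
  ⟨[2, 3], 4, [], [3, 2, 3, 2, 3, 2]⟩,
  ⟨[2, 3, 2, 2], 5, [], [3, 3, 3, 3, 2, 2]⟩,
  ⟨[3, 3], 6, [], [2, 2, 3]⟩,
  ⟨[6, 4, 6], 7, [], [4, 6, 4, 4]⟩,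
  ⟨[6, 4], 8, [], [5, 4, 6]⟩,
  ⟨[4], 9, [], [5, 4, 4, 6]⟩,
  ⟨[8, 9], 10, [], [7, 9, 8]⟩]
/-- the stabilizer chain -/
def CB3 : List (ℕ × List (ℕ × List ℕ)) := [
  (0, [(0, []), (1, [0, 0, 0]), (2, [1, 0, 1, 0]), (3, [0, 0]), (4, [0]), (5, [1, 1, 0, 1, 0]), (6, [0, 0, 1, 1, 0]), (7, [1, 0]), (8, [1, 1, 1, 1, 0]), (9, [0, 1, 0]), (10, [1, 0, 1, 1, 0]), (11, [0, 1]), (12, [1, 0, 0, 1]), (13, [1]), (14, [1, 1]), (15, [1, 1, 1, 0]), (16, [1, 1, 0]), (17, [0, 0, 1]), (18, [1, 0, 0]), (19, [0, 1, 1, 1, 0]), (20, [1, 1, 1]), (21, [0, 1, 1, 0]), (22, [0, 0, 1, 1]), (23, [0, 1, 1])]),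
  (1, [(1, []), (2, [3, 3]), (4, [3, 3, 3, 3]), (5, [3, 3, 3, 2, 2]), (7, [3, 2, 3, 2]), (8, [3, 3, 3, 3, 3]), (9, [3]), (10, [2, 3, 3, 3]), (11, [3, 3, 2, 3, 2]), (12, [2]), (13, [3, 3, 3]), (14, [2, 2]), (15, [2, 3, 2, 3, 2]), (17, [2, 3, 2, 2]), (18, [3, 2]), (19, [2, 3, 2]), (20, [3, 2, 3, 2, 2]), (21, [2, 3]), (22, [3, 3, 2, 2]), (23, [3, 2, 2])]),
  (2, [(2, []), (7, [4, 6, 4]), (8, [4, 4, 6]), (9, [4, 6]), (10, [6, 4, 4]), (11, [4, 4]), (12, [4, 4, 6, 4]), (13, [5, 6, 5]), (14, [6]), (15, [4]), (17, [6, 5]), (18, [6, 4]), (19, [4, 4, 5]), (20, [6, 4, 6]), (22, [4, 5]), (23, [5])]),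
  (8, [(8, []), (9, [7]), (10, [9, 8]), (11, [7, 8]), (15, [8]), (17, [9]), (18, [8, 9]), (19, [8, 8]), (22, [8, 7])]),
  (3, [(3, []), (16, [10])])]
theorem cardB3 : 138240 ≤ Nat.card (Subgroup.closure {pOf aB3, pOf bB3}) := by
  have h := chain_ge (a := aB3) (b := bB3) TB3 SB3 CB3 (by decide +kernel) (by decide +kernel)
    (by decide +kernel) (by decide +kernel)
  have h2 : chainProd CB3 = 138240 := by decide +kernel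
  rwa [h2] at h
theorem tabB3 : (okTab aB3 && okTab bB3 && tabOK ptab wB30 aB3 && tabOK ptab wB31 bB3) = true := by
  decide +kernel

/-- first generating word -/
def wB40 : List ℕ := [134, 130, 96, 75, 50, 39]
/-- second generating word -/
def wB41 : List ℕ := [131, 125, 111, 90, 62, 38]
/-- table of the first generator -/
def aB4 : List ℕ := [2, 1, 18, 9, 19, 11, 8, 4, 6, 3, 5, 10, 0, 23, 13, 12, 20, 15, 17, 7, 22, 21, 14, 16]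
/-- table of the second generator -/
def bB4 : List ℕ := [4, 22, 23, 7, 0, 16, 10, 6, 20, 2, 3, 15, 14, 19, 8, 11, 5, 9, 1, 13, 12, 18, 21, 17]
/-- tables of further elements -/
def TB4 : List (List ℕ) := [
  [0, 19, 17, 3, 10, 7, 6, 1, 20, 2, 21, 4, 9, 22, 23, 18, 16, 12, 15, 5, 14, 11, 13, 8],
  [0, 21, 17, 6, 4, 5, 3, 10, 12, 23, 7, 11, 8, 13, 20, 15, 16, 2, 22, 19, 14, 1, 18, 9],
  [0, 17, 5, 15, 20, 2, 13, 12, 1, 21, 23, 8, 11, 18, 10, 22, 16, 7, 6, 9, 4, 14, 3, 19],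
  [0, 1, 17, 13, 10, 7, 15, 4, 12, 23, 5, 19, 20, 6, 8, 3, 16, 9, 22, 11, 14, 21, 18, 2],
  [0, 1, 12, 22, 11, 19, 18, 5, 8, 9, 4, 10, 14, 3, 2, 6, 16, 20, 15, 7, 23, 21, 13, 17],
  [0, 1, 2, 13, 10, 7, 15, 11, 23, 12, 19, 5, 14, 18, 9, 22, 16, 8, 3, 4, 20, 21, 6, 17]]
/-- relations defining the further elements -/
def SB4 : List Step := [
  ⟨[1, 0], 2, [], [0, 1, 0, 1]⟩,
  ⟨[], 3, [], [1, 1]⟩,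
  ⟨[1, 0, 0], 4, [], [0, 1, 0, 0]⟩,
  ⟨[4, 4, 3], 5, [], [2, 2, 2, 3]⟩,
  ⟨[3, 4, 2], 6, [], [2, 4, 3]⟩,
  ⟨[6, 5], 7, [], [5, 6]⟩]
/-- the stabilizer chain -/
def CB4 : List (ℕ × List (ℕ × List ℕ)) := [
  (0, [(0, []), (1, [1, 0, 0]), (2, [0]), (3, [0, 1, 0, 0, 0]), (4, [1]), (5, [1, 0, 1, 0]), (6, [1, 0, 0, 1]), (7, [0, 0, 1]), (8, [0, 1, 0, 0, 1]), (9, [1, 0, 0, 0]), (10, [1, 1, 0, 0, 1]), (11, [1, 0, 0, 0, 0]), (12, [0, 0, 0, 0, 0]), (13, [1, 0, 1]), (14, [0, 1, 1, 0, 0]), (15, [0, 0, 0, 0]), (16, [0, 1, 0]), (17, [0, 0, 0]), (18, [0, 0]), (19, [0, 1]), (20, [0, 0, 1, 0]), (21, [1, 1, 1, 0, 0]), (22, [1, 1, 0, 0]), (23, [1, 0])]),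
  (1, [(1, []), (2, [3, 4]), (4, [2, 2, 3]), (5, [2, 2]), (7, [4, 4]), (8, [4, 2, 3]), (9, [4, 2]), (10, [4, 4, 3]), (11, [2, 3]), (12, [2, 4]), (14, [4, 3]), (17, [4]), (19, [2]), (20, [3, 4, 3]), (21, [3]), (23, [3, 4, 2])]),
  (2, [(2, []), (8, [5, 6, 6]), (9, [5, 5]), (12, [6]), (14, [6, 6]), (17, [5]), (20, [6, 5]), (23, [5, 5, 5])]),
  (3, [(3, []), (13, [7]), (18, [7, 7])])]
theorem cardB4 : 9216 ≤ Nat.card (Subgroup.closure {pOf aB4, pOf bB4}) := by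
  have h := chain_ge (a := aB4) (b := bB4) TB4 SB4 CB4 (by decide +kernel) (by decide +kernel)
    (by decide +kernel) (by decide +kernel)
  have h2 : chainProd CB4 = 9216 := by decide +kernel
  rwa [h2] at h
theorem tabB4 : (okTab aB4 && okTab bB4 && tabOK ptab wB40 aB4 && tabOK ptab wB41 bB4) = true := by
  decide +kernel

/-- first generating word -/
def wB50 : List ℕ := [135, 120, 94, 72, 57, 1]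
/-- second generating word -/
def wB51 : List ℕ := [143, 125, 94, 79, 59]
/-- table of the first generator -/
def aB5 : List ℕ := [7, 23, 15, 21, 16, 20, 9, 6, 10, 0, 8, 14, 3, 12, 11, 4, 2, 18, 19, 22, 5, 13, 17, 1]
/-- table of the second generator -/
def bB5 : List ℕ := [0, 17, 14, 13, 8, 19, 22, 4, 20, 21, 23, 1, 11, 3, 5, 15, 16, 12, 18, 2, 7, 10, 6, 9]
/-- tables of further elements -/
def TB5 : List (List ℕ) := [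
  [0, 23, 13, 11, 3, 5, 22, 2, 17, 12, 7, 19, 15, 10, 9, 14, 8, 21, 18, 4, 20, 16, 6, 1],
  [0, 9, 8, 13, 14, 7, 22, 21, 23, 4, 20, 5, 10, 3, 1, 15, 16, 2, 18, 12, 19, 11, 6, 17],
  [0, 1, 17, 21, 9, 20, 22, 10, 15, 14, 3, 13, 19, 12, 16, 2, 4, 8, 18, 11, 5, 7, 6, 23],
  [0, 1, 21, 13, 12, 5, 6, 19, 10, 17, 8, 14, 4, 3, 11, 16, 15, 9, 18, 7, 20, 2, 22, 23]]
/-- relations defining the further elements -/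
def SB5 : List Step := [
  ⟨[0, 0, 0, 1, 0], 2, [], [1, 0, 0, 0, 1, 0]⟩,
  ⟨[1, 1, 0, 1, 0, 0], 3, [], [0, 1, 0, 0, 1, 0]⟩,
  ⟨[3, 2], 4, [], [2, 3, 3, 3, 2]⟩,
  ⟨[3, 2, 3, 2], 5, [], [2, 2, 3, 3]⟩]
/-- the stabilizer chain -/
def CB5 : List (ℕ × List (ℕ × List ℕ)) := [
  (0, [(0, []), (1, [0, 1, 0, 1, 1, 0]), (2, [0, 0, 1, 0]), (3, [1, 0, 1, 0, 0, 0]), (4, [1, 0]), (5, [0, 1, 1, 1, 0]), (6, [0, 0]), (7, [0]), (8, [1, 1, 0]), (9, [0, 0, 0]), (10, [0, 1, 1, 0]), (11, [1, 1, 0, 1, 0, 0]), (12, [1, 0, 1, 0, 0]), (13, [0, 1, 0, 0, 0]), (14, [1, 0, 0, 1, 0]), (15, [0, 0, 0, 1, 0]), (16, [0, 1, 0]), (17, [0, 1, 0, 0]), (18, [0, 0, 1, 0, 0]), (19, [0, 0, 0, 1, 0, 0]), (20, [1, 1, 1, 0]), (21, [1, 0, 0, 0]), (22, [1, 0, 0]), (23, [1, 0, 1, 1, 0])]),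
  (1, [(1, []), (2, [3, 3, 2]), (3, [2, 3, 3]), (4, [3, 3]), (5, [3, 3, 2, 3, 2]), (7, [2, 3, 2, 3]), (8, [3, 3, 3, 2]), (9, [3]), (10, [3, 2, 3]), (11, [3, 2, 3, 2]), (12, [2, 3]), (13, [2, 3, 3, 2]), (14, [3, 3, 3]), (15, [2, 2, 3]), (16, [2, 2, 3, 2]), (17, [3, 2]), (19, [2, 3, 2, 3, 2]), (20, [3, 3, 2, 3]), (21, [2, 3, 2]), (23, [2])]),
  (2, [(2, []), (3, [4, 5, 4, 4]), (4, [4, 5, 4, 4, 4]), (7, [4, 5]), (8, [4, 4]), (9, [5, 4]), (10, [5, 4, 4]), (11, [5, 4, 5, 4]), (12, [5, 4, 5, 4, 4, 4]), (13, [5, 4, 5, 4, 4]), (14, [4, 5, 4]), (15, [4, 4, 4]), (16, [5, 4, 4, 4]), (17, [4]), (19, [5, 4, 5]), (21, [5])])]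
theorem cardB5 : 7680 ≤ Nat.card (Subgroup.closure {pOf aB5, pOf bB5}) := by
  have h := chain_ge (a := aB5) (b := bB5) TB5 SB5 CB5 (by decide +kernel) (by decide +kernel)
    (by decide +kernel) (by decide +kernel)
  have h2 : chainProd CB5 = 7680 := by decide +kernel
  rwa [h2] at h
theorem tabB5 : (okTab aB5 && okTab bB5 && tabOK ptab wB50 aB5 && tabOK ptab wB51 bB5) = true := by
  decide +kernel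

/-- first generating word -/
def wB60 : List ℕ := [147, 125, 110, 72, 63, 41]
/-- second generating word -/
def wB61 : List ℕ := [147, 133, 122, 93, 79, 67, 43]
/-- table of the first generator -/
def aB6 : List ℕ := [4, 15, 8, 16, 23, 5, 6, 11, 14, 1, 20, 17, 2, 19, 9, 21, 22, 18, 7, 0, 10, 12, 13, 3]
/-- table of the second generator -/
def bB6 : List ℕ := [11, 14, 4, 22, 19, 0, 15, 23, 18, 6, 16, 13, 10, 20, 1, 7, 17, 12, 9, 21, 8, 3, 2, 5]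
/-- tables of further elements -/
def TB6 : List (List ℕ) := [
  [0, 11, 7, 18, 5, 4, 21, 19, 15, 9, 14, 2, 23, 12, 6, 16, 8, 1, 3, 17, 22, 20, 10, 13],
  [0, 17, 18, 11, 10, 3, 2, 4, 16, 13, 19, 22, 12, 9, 6, 15, 8, 21, 14, 7, 1, 20, 5, 23],
  [0, 1, 3, 2, 14, 18, 7, 5, 8, 12, 17, 10, 23, 9, 21, 16, 15, 20, 6, 19, 11, 22, 4, 13],
  [0, 1, 2, 19, 21, 18, 11, 6, 15, 13, 7, 10, 23, 12, 4, 8, 16, 5, 20, 3, 17, 22, 14, 9],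
  [0, 1, 3, 19, 14, 5, 20, 18, 16, 23, 6, 11, 12, 9, 22, 8, 15, 7, 17, 2, 10, 21, 4, 13]]
/-- relations defining the further elements -/
def SB6 : List Step := [
  ⟨[], 2, [], [0, 1, 0]⟩,
  ⟨[0, 0, 0, 1], 3, [], [1, 0, 0, 1, 0, 0, 1]⟩,
  ⟨[], 4, [], [2, 3]⟩,
  ⟨[3, 3, 2, 2], 5, [], [2, 2, 3, 2]⟩,
  ⟨[5, 4], 6, [], [4, 5, 5, 4]⟩]
/-- the stabilizer chain -/
def CB6 : List (ℕ × List (ℕ × List ℕ)) := [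
  (0, [(0, []), (1, [0, 1, 0, 0, 1]), (2, [0, 1, 0, 1]), (3, [0, 0, 0]), (4, [0]), (5, [1, 0, 0]), (6, [1, 1, 0, 0, 1]), (7, [0, 0, 0, 1]), (8, [1, 1, 1, 1]), (9, [1, 0, 0, 1]), (10, [1, 1, 0, 1]), (11, [1]), (12, [1, 0, 1]), (13, [1, 1]), (14, [0, 1, 1, 1, 1]), (15, [0, 0, 1, 0, 0, 1]), (16, [0, 0, 0, 0]), (17, [0, 1]), (18, [0, 0, 1]), (19, [1, 0]), (20, [1, 1, 1]), (21, [1, 1, 0]), (22, [1, 0, 0, 0]), (23, [0, 0])]),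
  (1, [(1, []), (2, [2, 2]), (3, [2, 3, 2, 2]), (4, [3, 2, 2, 2]), (5, [3, 3, 2]), (6, [2, 3, 3, 2, 2]), (7, [2, 2, 2]), (10, [2, 3, 2]), (11, [2]), (14, [3, 3, 2, 2]), (17, [3]), (18, [3, 2, 2]), (19, [2, 2, 2, 2]), (20, [2, 3, 3]), (21, [3, 3]), (22, [3, 2])]),
  (5, [(5, []), (6, [4, 4]), (7, [4, 4, 4]), (10, [4, 5, 4, 4]), (11, [5, 4, 4]), (17, [5, 5, 4]), (18, [4]), (20, [5, 4])]),
  (2, [(2, []), (3, [6]), (19, [6, 6])])]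
theorem cardB6 : 9216 ≤ Nat.card (Subgroup.closure {pOf aB6, pOf bB6}) := by
  have h := chain_ge (a := aB6) (b := bB6) TB6 SB6 CB6 (by decide +kernel) (by decide +kernel)
    (by decide +kernel) (by decide +kernel)
  have h2 : chainProd CB6 = 9216 := by decide +kernel
  rwa [h2] at h
theorem tabB6 : (okTab aB6 && okTab bB6 && tabOK ptab wB60 aB6 && tabOK ptab wB61 bB6) = true := by
  decide +kernel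

/-- first generating word -/
def wB70 : List ℕ := [137, 120, 111, 80, 50, 36]
/-- second generating word -/
def wB71 : List ℕ := [146, 145, 130, 99, 75, 51, 44]
/-- table of the first generator -/
def aB7 : List ℕ := [11, 22, 10, 15, 21, 2, 3, 9, 4, 6, 1, 23, 14, 7, 0, 5, 8, 12, 19, 17, 13, 18, 20, 16]
/-- table of the second generator -/
def bB7 : List ℕ := [4, 22, 11, 9, 6, 13, 0, 12, 20, 15, 7, 18, 10, 21, 17, 3, 8, 19, 2, 14, 16, 5, 23, 1]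
/-- tables of further elements -/
def TB7 : List (List ℕ) := [
  [0, 11, 6, 15, 14, 17, 22, 23, 8, 7, 1, 21, 16, 20, 10, 4, 3, 9, 2, 12, 18, 19, 5, 13],
  [0, 19, 16, 23, 9, 21, 18, 2, 15, 8, 17, 4, 11, 1, 14, 22, 20, 3, 5, 7, 10, 12, 6, 13],
  [0, 1, 7, 10, 18, 9, 12, 20, 17, 3, 8, 4, 19, 15, 5, 11, 22, 6, 16, 23, 21, 13, 2, 14]]
/-- relations defining the further elements -/
def SB7 : List Step := [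
  ⟨[0, 0, 1, 0], 2, [], [1, 1, 0, 1, 0]⟩,
  ⟨[1, 0, 1, 1, 0], 3, [], [0, 1, 1, 0, 1]⟩,
  ⟨[3, 2, 2, 3], 4, [], [2, 2, 2, 3, 3]⟩]
/-- the stabilizer chain -/
def CB7 : List (ℕ × List (ℕ × List ℕ)) := [
  (0, [(0, []), (1, [1, 0, 0]), (2, [1, 1, 0]), (3, [0, 1, 1]), (4, [1]), (5, [1, 0, 1]), (6, [1, 1]), (7, [1, 0, 1, 1, 0]), (8, [0, 0, 0, 0]), (9, [1, 0, 1, 1]), (10, [0, 1, 1, 0]), (11, [0]), (12, [0, 0, 0, 1, 0]), (13, [1, 1, 0, 1]), (14, [1, 0, 1, 0]), (15, [0, 0, 1, 1]), (16, [0, 0, 0]), (17, [0, 0, 1, 0]), (18, [1, 0]), (19, [0, 1, 0]), (20, [1, 0, 0, 0, 0]), (21, [0, 1]), (22, [0, 1, 0, 0]), (23, [0, 0])]),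
  (1, [(1, []), (2, [3, 3, 3]), (3, [2, 2, 2, 3]), (4, [3, 2]), (5, [3, 2, 3, 2, 2, 3]), (6, [2, 3, 3, 3]), (7, [3, 3]), (8, [3, 3, 3, 2]), (9, [3, 3, 2]), (10, [2, 2, 3, 2]), (11, [2]), (12, [2, 3]), (13, [2, 2, 3, 3]), (14, [2, 3, 2]), (15, [3, 3, 3, 3, 2]), (16, [2, 2, 3]), (17, [3, 2, 2, 3, 2]), (18, [2, 3, 2, 2, 3]), (19, [3]), (20, [3, 2, 2, 3]), (21, [2, 2]), (22, [2, 2, 3, 3, 3]), (23, [2, 3, 3])]),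
  (2, [(2, []), (4, [4, 4, 4, 4, 4, 4, 4]), (7, [4]), (11, [4, 4, 4, 4, 4, 4]), (13, [4, 4, 4, 4]), (15, [4, 4, 4, 4, 4]), (16, [4, 4, 4, 4, 4, 4, 4, 4, 4]), (18, [4, 4, 4, 4, 4, 4, 4, 4]), (20, [4, 4]), (21, [4, 4, 4]), (22, [4, 4, 4, 4, 4, 4, 4, 4, 4, 4])])]
theorem cardB7 : 6072 ≤ Nat.card (Subgroup.closure {pOf aB7, pOf bB7}) := by
  have h := chain_ge (a := aB7) (b := bB7) TB7 SB7 CB7 (by decide +kernel) (by decide +kernel)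
    (by decide +kernel) (by decide +kernel)
  have h2 : chainProd CB7 = 6072 := by decide +kernel
  rwa [h2] at h
theorem tabB7 : (okTab aB7 && okTab bB7 && tabOK ptab wB70 aB7 && tabOK ptab wB71 bB7) = true := by
  decide +kernel

end Cfsg.Agent.J4M.MPerm
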