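import Cfsg.Agent.J4M.QBase
import Cfsg.Agent.J4M.MPerm
import Cfsg.Agent.J4.Dvd
import Cfsg.Agent.Golay.Core

/-!
The complement `M = ⟨x, y⟩` is M24: orders of subgroups of `M`, `Q ⊓ M = 1`, order of `H`.
-/
set_option autoImplicit false

namespace Cfsg.Agent.J4M.MGroup

open Cfsg Cfsg.Agent.Lib.F2MatGroup
open Cfsg.Agent.J4.Rep112 Cfsg.Agent.J4.M24Hom Cfsg.Agent.J4M.Derive Cfsg.Agent.J4M.Words
open Cfsg.Agent.J4M.Base Cfsg.Agent.J4M.QBase Cfsg.Agent.J4M.PermTab Cfsg.Agent.J4M.MPerm
open Cfsg.Agent.SporadicA.DegPOne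

/-- M24 acting on 24 points numbered from 0 to 23 -/
def fhom : M24 →* Equiv.Perm (Fin 24) :=
  (Cfsg.Agent.Golay.Core.ptEquiv.symm.permCongrHom.toMonoidHom).comp M24.subtype

theorem fhom_injective : Function.Injective fhom := fun a b h =>
  Subtype.ext ((MulEquiv.injective Cfsg.Agent.Golay.Core.ptEquiv.symm.permCongrHom) h)

/-- permutation number `i` -/
noncomputable def P (i : ℕ) : Equiv.Perm (Fin 24) := getG (ptab.map pOf) i

theorem comp_P (i : ℕ) : Comp (P i) (evalW (ptab.map tabF) [i]) := by
  have h := comp_evG ptab_ok [i]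
  rwa [evG_cons, evG_nil, mul_one] at h

theorem fhom_XM : fhom XM = P 1 := by
  refine comp_ext (f := evalW (ptab.map tabF) [1]) ?_ (comp_P 1)
  intro x
  revert x
  decide +kernel

theorem fhom_YM : fhom YM = P 2 := by
  refine comp_ext (f := evalW (ptab.map tabF) [2]) ?_ (comp_P 2)
  intro x
  revert x
  decide +kernel

theorem fhom_one : P 0 = 1 := by
  refine comp_ext (f := evalW (ptab.map tabF) [0]) (comp_P 0) ?_
  intro x
  revert x
  decide +kernel

theorem exists_phi : ∃ φ : M24 →* GG, φ XM = xg ∧ φ YM = yg :=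
  exists_hom Cfsg.Agent.J4.Dvd.rels_g

/-- the isomorphism of M24 with `M` -/
noncomputable def phi : M24 →* GG := exists_phi.choose

theorem phi_XM : phi XM = xg := exists_phi.choose_spec.1
theorem phi_YM : phi YM = yg := exists_phi.choose_spec.2

theorem phi_range : phi.range = M := range_eq phi phi_XM phi_YM

theorem injective_of_simple {A B : Type*} [Group A] [Group B] [IsSimpleGroup A] (f : A →* B)
    {a : A} (ha : f a ≠ 1) : Function.Injective f := by
  rw [← MonoidHom.ker_eq_bot_iff]
  rcases (inferInstance : f.ker.Normal).eq_bot_or_eq_top with h | h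
  · exact h
  · exfalso
    apply ha
    have : a ∈ f.ker := by rw [h]; trivial
    exact this

theorem phi_injective : Function.Injective phi := by
  have hsimple : IsSimpleGroup Cfsg.M24 := Cfsg.Agent.S0365.result
  refine injective_of_simple phi (a := XM) ?_
  rw [phi_XM, ← rho_x]
  exact Cfsg.Agent.J4.Lower.xg_ne

/-- the graph of the isomorphism -/
noncomputable def D : Subgroup (Equiv.Perm (Fin 24) × GG) := (fhom.prod phi).range

/-- the pairs -/
noncomputable def pr (i : ℕ) : Equiv.Perm (Fin 24) × GG := (P i, e i)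

theorem evG_mapF {G : Type*} [Group G] (f : ℕ → G) {L : List G} (h : ∀ i, getG L i = f i)
    (w : List ℕ) : evG L w = (w.map f).prod := by
  induction w with
  | nil => rfl
  | cons i w ih => rw [evG_cons, ih, h, List.map_cons, List.prod_cons]

theorem ev_prod (w : List ℕ) : ev w = (w.map e).prod := by
  induction w with
  | nil => rw [ev_nil]; rfl
  | cons i w ih => rw [ev_cons, ih, List.map_cons, List.prod_cons]

/-- value of a word in the permutations -/
noncomputable def evP (w : List ℕ) : Equiv.Perm (Fin 24) := evG (ptab.map pOf) w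

theorem evP_prod (w : List ℕ) : evP w = (w.map P).prod := evG_mapF P (fun _ => rfl) w

theorem pr_prod (w : List ℕ) : (w.map pr).prod = (evP w, ev w) := by
  induction w with
  | nil =>
    rw [evP_prod, ev_nil]
    rfl
  | cons i w ih =>
    rw [List.map_cons, List.prod_cons, ih, ev_cons, evP_prod, evP_prod, List.map_cons,
      List.prod_cons]
    rfl

/-- `mem_of_steps` for functions -/
theorem mem_of_stepsF {G : Type*} [Group G] (K : Subgroup G) (f : ℕ → G) {target mask : ℕ}
    {ss : List Step} (hss : ∀ s ∈ ss, (s.eq.1.map f).prod = (s.eq.2.map f).prod)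
    (h0 : ∀ i, mask.testBit i = true → f i ∈ K) (h : closeB target ss mask = true) :
    ∀ i, target.testBit i = true → f i ∈ K := by
  refine closeB_sound (fun i => f i ∈ K) ?_ h0 h
  intro s hs hl hr hw
  have hmem : ∀ w : List ℕ, (∀ i ∈ w, f i ∈ K) → (w.map f).prod ∈ K := by
    intro w hw
    apply Subgroup.list_prod_mem
    intro x hx
    obtain ⟨i, hi, rfl⟩ := List.mem_map.mp hx
    exact hw i hi
  have e := hss s hs
  have e' : (s.l.map f).prod * (f s.k * (s.r.map f).prod) = (s.w.map f).prod := by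
    rw [← List.prod_cons, ← List.map_cons, ← List.prod_append, ← List.map_append]; exact e
  have : f s.k = ((s.l.map f).prod)⁻¹ * (s.w.map f).prod * ((s.r.map f).prod)⁻¹ := by
    rw [← e']; group
  show f s.k ∈ K
  rw [this]
  exact K.mul_mem (K.mul_mem (K.inv_mem (hmem _ hl)) (hmem _ hw)) (K.inv_mem (hmem _ hr))

theorem msteps_perm : ∀ s ∈ msteps, evP s.eq.1 = evP s.eq.2 := by
  intro s hs
  simp only [msteps, List.mem_append] at hs
  rcases hs with h | h | h | h
  · exact rel_sound ptab_ok (List.all_eq_true.mp msteps0_perm s h)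
  · exact rel_sound ptab_ok (List.all_eq_true.mp msteps1_perm s h)
  · exact rel_sound ptab_ok (List.all_eq_true.mp msteps2_perm s h)
  · exact rel_sound ptab_ok (List.all_eq_true.mp msteps3_perm s h)

theorem pr_mem : ∀ i, mM.testBit i = true → pr i ∈ D := by
  refine mem_of_stepsF D pr (mask := 7) (ss := msteps) ?_ ?_ ?_
  · intro s hs
    rw [pr_prod, pr_prod, msteps_perm s hs, ev_eq (Checks.msteps_ok s hs)]
  · intro i hi
    have hi4 : i < 3 := testBit_lt (by norm_num) hi
    interval_cases i
    · refine ⟨1, ?_⟩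
      rw [map_one, pr, fhom_one, e0]
      rfl
    · refine ⟨XM, ?_⟩
      rw [MonoidHom.prod_apply, pr, fhom_XM, phi_XM, e1]
    · refine ⟨YM, ?_⟩
      rw [MonoidHom.prod_apply, pr, fhom_YM, phi_YM, e2]
  · decide +kernel

theorem word_mem_D {w : List ℕ} (h : allIn mM w = true) : (evP w, ev w) ∈ D := by
  rw [← pr_prod]
  apply Subgroup.list_prod_mem
  intro x hx
  obtain ⟨i, hi, rfl⟩ := List.mem_map.mp hx
  exact pr_mem i (allIn_sound h i hi)

theorem card_eq {u v : List ℕ} (hu : allIn mM u = true) (hv : allIn mM v = true) :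
    Nat.card (Subgroup.closure {evP u, evP v}) = Nat.card (Subgroup.closure {ev u, ev v}) :=
  card_closure_eq fhom phi fhom_injective phi_injective (word_mem_D hu) (word_mem_D hv)

theorem card_ge {u v a b : List ℕ} {N : ℕ} (hu : allIn mM u = true) (hv : allIn mM v = true)
    (h : (okTab a && okTab b && tabOK ptab u a && tabOK ptab v b) = true)
    (hN : N ≤ Nat.card (Subgroup.closure {pOf a, pOf b})) :
    N ≤ Nat.card (Subgroup.closure {ev u, ev v}) := by
  rw [Bool.and_eq_true, Bool.and_eq_true, Bool.and_eq_true] at h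
  obtain ⟨⟨⟨h1, h2⟩, h3⟩, h4⟩ := h
  rw [← card_eq hu hv]
  have e1 : evP u = pOf a := tab_sound ptab_ok h1 h3
  have e2 : evP v = pOf b := tab_sound ptab_ok h2 h4
  rw [e1, e2]
  exact hN

theorem cardK_ge : 64512 ≤ Nat.card (Subgroup.closure {ev wK0, ev wK1}) :=
  card_ge (by decide +kernel) (by decide +kernel) tabK cardK
theorem cardZ_ge : 138240 ≤ Nat.card (Subgroup.closure {ev wZ0, ev wZ1}) :=
  card_ge (by decide +kernel) (by decide +kernel) tabZ cardZ
theorem cardB2_ge : 64512 ≤ Nat.card (Subgroup.closure {ev wB20, ev wB21}) :=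
  card_ge (by decide +kernel) (by decide +kernel) tabB2 cardB2
theorem cardB3_ge : 138240 ≤ Nat.card (Subgroup.closure {ev wB30, ev wB31}) :=
  card_ge (by decide +kernel) (by decide +kernel) tabB3 cardB3
theorem cardB4_ge : 9216 ≤ Nat.card (Subgroup.closure {ev wB40, ev wB41}) :=
  card_ge (by decide +kernel) (by decide +kernel) tabB4 cardB4
theorem cardB5_ge : 7680 ≤ Nat.card (Subgroup.closure {ev wB50, ev wB51}) :=
  card_ge (by decide +kernel) (by decide +kernel) tabB5 cardB5
theorem cardB6_ge : 9216 ≤ Nat.card (Subgroup.closure {ev wB60, ev wB61}) :=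
  card_ge (by decide +kernel) (by decide +kernel) tabB6 cardB6
theorem cardB7_ge : 6072 ≤ Nat.card (Subgroup.closure {ev wB70, ev wB71}) :=
  card_ge (by decide +kernel) (by decide +kernel) tabB7 cardB7

/-! ### `Q ⊓ M = 1` and the order of `H` -/

theorem inf_eq_bot_of_simple {G A : Type*} [Group G] [Group A] [IsSimpleGroup A]
    (Q : Subgroup G) (hQ : IsPGroup 2 Q) (f : A →* G) (hf : Function.Injective f)
    (hM : ¬ IsPGroup 2 A) (hn : f.range ≤ Subgroup.normalizer (Q : Set G)) : Q ⊓ f.range = ⊥ := by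
  have hnorm : (Q.comap f).Normal := by
    constructor
    intro a ha g
    have h1 : f g ∈ Subgroup.normalizer (Q : Set G) := hn ⟨g, rfl⟩
    change f (g * a * g⁻¹) ∈ Q
    rw [map_mul, map_mul, map_inv]
    exact (Subgroup.mem_normalizer_iff.mp h1 (f a)).mp ha
  rcases hnorm.eq_bot_or_eq_top with h | h
  · rw [eq_bot_iff]
    rintro q ⟨hq1, a, rfl⟩
    have : a ∈ Q.comap f := hq1
    rw [h, Subgroup.mem_bot] at this
    rw [this, map_one]; exact one_mem _
  · exfalso
    apply hM
    have hle : f.range ≤ Q := by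
      rintro _ ⟨a, rfl⟩
      have : a ∈ Q.comap f := by rw [h]; trivial
      exact this
    exact (hQ.to_le hle).of_equiv (MonoidHom.ofInjective hf).symm

theorem isPGroup_of_sq {G : Type*} [Group G] (K : Subgroup G) (h : ∀ x ∈ K, x * x = 1) :
    IsPGroup 2 K := by
  rintro ⟨x, hx⟩
  refine ⟨1, Subtype.ext ?_⟩
  simp only [pow_one, pow_two, OneMemClass.coe_one]
  exact h x hx

/-- a group generated by commuting involutions -/
theorem sq_of_closure {G : Type*} [Group G] (f : ℕ → G) (n : ℕ) (hsq : ∀ i < n, f i * f i = 1)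
    (hcomm : ∀ i < n, ∀ j < n, f i * f j = f j * f i) :
    (∀ x ∈ Subgroup.closure {q | q ∈ (List.range n).map f}, x * x = 1) ∧
    (∀ x ∈ Subgroup.closure {q | q ∈ (List.range n).map f},
      ∀ y ∈ Subgroup.closure {q | q ∈ (List.range n).map f}, x * y = y * x) := by
  have hc : ∀ x ∈ Subgroup.closure {q | q ∈ (List.range n).map f},
      ∀ y ∈ Subgroup.closure {q | q ∈ (List.range n).map f}, x * y = y * x := by
    have h1 : Subgroup.closure {q | q ∈ (List.range n).map f} ≤
        Subgroup.centralizer ((Subgroup.closure {q | q ∈ (List.range n).map f} : Subgroup G) : Set G) := by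
      rw [Subgroup.le_centralizer_iff, Subgroup.closure_le]
      intro q hq
      obtain ⟨i, hi, rfl⟩ := List.mem_map.mp (show q ∈ (List.range n).map f from hq)
      have h2 : Subgroup.closure {q | q ∈ (List.range n).map f} ≤ Subgroup.centralizer {f i} := by
        rw [Subgroup.closure_le]
        intro q hq
        obtain ⟨j, hj, rfl⟩ := List.mem_map.mp (show q ∈ (List.range n).map f from hq)
        exact Subgroup.mem_centralizer_singleton_iff.mpr
          (hcomm j (List.mem_range.mp hj) i (List.mem_range.mp hi))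
      rw [SetLike.mem_coe, Subgroup.mem_centralizer_iff]
      intro h hh
      exact Subgroup.mem_centralizer_singleton_iff.mp (h2 hh)
    intro x hx y hy
    exact (Subgroup.mem_centralizer_iff.mp (h1 hx) y hy).symm
  refine ⟨?_, hc⟩
  intro x hx
  induction hx using Subgroup.closure_induction with
  | mem x hx =>
    obtain ⟨i, hi, rfl⟩ := List.mem_map.mp (show x ∈ (List.range n).map f from hx)
    exact hsq i (List.mem_range.mp hi)
  | one => rw [mul_one]
  | mul x y hx hy ihx ihy =>
    calc x * y * (x * y) = x * (y * x) * y := by group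
      _ = x * (x * y) * y := by rw [hc y hy x hx]
      _ = (x * x) * (y * y) := by group
      _ = 1 := by rw [ihx, ihy, mul_one]
  | inv x _ ih => rw [← mul_inv_rev, ih, inv_one]

theorem Q_props : (∀ x ∈ Q, x * x = 1) ∧ (∀ x ∈ Q, ∀ y ∈ Q, x * y = y * x) := by
  rw [Q_def]
  exact sq_of_closure (fun i => e (4 + i)) 11 (fun i hi => e_sq (by omega) (by omega))
    fun i hi j hj => e_comm (by omega) (by omega) (by omega) (by omega)

theorem Q_sq : ∀ x ∈ Q, x * x = 1 := Q_props.1

theorem Q_comm : ∀ x ∈ Q, ∀ y ∈ Q, x * y = y * x := Q_props.2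

theorem Q_inf_M : Q ⊓ M = ⊥ := by
  have hsimple : IsSimpleGroup Cfsg.M24 := Cfsg.Agent.S0365.result
  rw [← phi_range]
  refine inf_eq_bot_of_simple Q (isPGroup_of_sq Q Q_sq) phi phi_injective
    Cfsg.Agent.J4.LowerBound.not_two_group_M24 ?_
  rw [phi_range]
  exact M_norm

theorem card_M : Nat.card M = 244823040 := by
  rw [← phi_range, ← Cfsg.Agent.S0364.result]
  exact (Nat.card_congr (MonoidHom.ofInjective phi_injective).toEquiv).symm

theorem card_H_le : Nat.card H ≤ 2 ^ 11 * 244823040 := by
  rw [H_eq]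
  refine (TwoGroup.card_sup_le Q M M_norm).trans ?_
  rw [card_M]
  exact Nat.mul_le_mul_right _ card_Q_le

end Cfsg.Agent.J4M.MGroup
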