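import Cfsg.Agent.J4M.Decomp

/-!
The order of `R = ⟨x, y, t⟩` is the order of J4.
-/
set_option autoImplicit false

namespace Cfsg.Agent.J4M.Order

open Cfsg.Agent.Lib.F2MatGroup
open Cfsg.Agent.J4.Rep112
open Cfsg.Agent.J4M.Derive Cfsg.Agent.J4M.Words
open Cfsg.Agent.J4M.Base Cfsg.Agent.J4M.QBase Cfsg.Agent.J4M.MPerm Cfsg.Agent.J4M.MGroup
open Cfsg.Agent.J4M.Gamma Cfsg.Agent.J4M.Decomp

theorem card_H : Nat.card H = 2 ^ 11 * 244823040 := by
  apply le_antisymm card_H_le
  rw [← card_Q, ← card_M]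
  exact TwoGroup.card_mul_le_card Q M H Q_le_H M_le_H Q_inf_M

/-- `b` is `w` preceded by letters in `Q` -/
def splitB (b w : List ℕ) : Bool :=
  (b == b.take (b.length - w.length) ++ w) && allIn mC (b.take (b.length - w.length)) &&
    allIn mM w && allIn mH b

theorem split_sound {b w : List ℕ} (h : splitB b w = true) :
    ev b ∈ Subgroup.normalizer (Q : Set GG) ∧ ev w ∈ M ∧ ev b * (ev w)⁻¹ ∈ Q := by
  unfold splitB at h
  rw [Bool.and_eq_true, Bool.and_eq_true, Bool.and_eq_true, beq_iff_eq] at h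
  obtain ⟨⟨⟨h1, h2⟩, h3⟩, h4⟩ := h
  refine ⟨H_norm (ev_mem_H h4), ev_mem_M h3, ?_⟩
  have h5 : ev b = ev (b.take (b.length - w.length)) * ev w := by
    rw [← ev_append, ← h1]
  rw [h5, mul_inv_cancel_right]
  exact ev_mem_Q h2

theorem card_B_ge {i N : ℕ} {u v : List ℕ} (hN : N ≤ Nat.card (Subgroup.closure {ev u, ev v}))
    (hu : splitB (bw i 0) u = true) (hv : splitB (bw i 1) v = true) : N ≤ Nat.card (B i) := by
  obtain ⟨h1, h2, h3⟩ := split_sound hu
  obtain ⟨h4, h5, h6⟩ := split_sound hv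
  exact hN.trans (Abstract.card_closure_le_of_mod Q M Q_inf_M h1 h4 h2 h5 h3 h6)

theorem card_B2 : 64512 ≤ Nat.card (B 2) :=
  card_B_ge cardB2_ge (by decide +kernel) (by decide +kernel)
theorem card_B3 : 138240 ≤ Nat.card (B 3) :=
  card_B_ge cardB3_ge (by decide +kernel) (by decide +kernel)
theorem card_B4 : 9216 ≤ Nat.card (B 4) :=
  card_B_ge cardB4_ge (by decide +kernel) (by decide +kernel)
theorem card_B5 : 7680 ≤ Nat.card (B 5) :=
  card_B_ge cardB5_ge (by decide +kernel) (by decide +kernel)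
theorem card_B6 : 9216 ≤ Nat.card (B 6) :=
  card_B_ge cardB6_ge (by decide +kernel) (by decide +kernel)
theorem card_B7 : 6072 ≤ Nat.card (B 7) :=
  card_B_ge cardB7_ge (by decide +kernel) (by decide +kernel)

theorem relIndex_le {G : Type*} [Group G] [Finite G] {B H : Subgroup G} (hBH : B ≤ H) {m k N : ℕ}
    (hm : m ≤ Nat.card B) (hH : Nat.card H = N) (hk : N < m * (k + 1)) : B.relIndex H ≤ k := by
  have h1 : Nat.card (B.subgroupOf H) * (B.subgroupOf H).index = Nat.card H :=
    (B.subgroupOf H).card_mul_index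
  have h2 : Nat.card (B.subgroupOf H) = Nat.card B :=
    Nat.card_congr (Subgroup.subgroupOfEquivOfLe hBH).toEquiv
  rw [h2, hH] at h1
  by_contra h
  push Not at h
  have h3 : m * (k + 1) ≤ Nat.card B * (B.subgroupOf H).index := Nat.mul_le_mul hm h
  omega

theorem card_R_le : Nat.card R ≤ 268070913 * Nat.card H := by
  refine (Abstract.card_le_of_decomp H R gg BB BB_conj decomp).trans ?_
  rw [← Finset.sum_mul]
  refine Nat.mul_le_mul_right _ ?_
  have h0 : (BB 0).relIndex H ≤ 1 := by
    have : BB 0 = H := by unfold BB; rw [if_pos rfl]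
    rw [this, Subgroup.relIndex_self]
  have hb : ∀ i : Fin 7, i ≠ 0 → BB i = B (i + 1) := by
    intro i hi
    unfold BB; rw [if_neg hi]
  have h1 : (BB 1).relIndex H ≤ 7772160 :=
    relIndex_le (BB_le 1) (m := 64512) (by rw [hb 1 (by decide)]; exact card_B2) card_H (by norm_num)
  have h2 : (BB 2).relIndex H ≤ 3627008 :=
    relIndex_le (BB_le 2) (m := 138240) (by rw [hb 2 (by decide)]; exact card_B3) card_H (by norm_num)
  have h3 : (BB 3).relIndex H ≤ 54405120 :=
    relIndex_le (BB_le 3) (m := 9216) (by rw [hb 3 (by decide)]; exact card_B4) card_H (by norm_num)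
  have h4 : (BB 4).relIndex H ≤ 65286144 :=
    relIndex_le (BB_le 4) (m := 7680) (by rw [hb 4 (by decide)]; exact card_B5) card_H (by norm_num)
  have h5 : (BB 5).relIndex H ≤ 54405120 :=
    relIndex_le (BB_le 5) (m := 9216) (by rw [hb 5 (by decide)]; exact card_B6) card_H (by norm_num)
  have h6 : (BB 6).relIndex H ≤ 82575360 :=
    relIndex_le (BB_le 6) (m := 6072) (by rw [hb 6 (by decide)]; exact card_B7) card_H (by norm_num)
  have hsum : ∑ i : Fin 7, (BB i).relIndex H = (BB 0).relIndex H + (BB 1).relIndex H +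
      (BB 2).relIndex H + (BB 3).relIndex H + (BB 4).relIndex H + (BB 5).relIndex H +
      (BB 6).relIndex H := by
    rw [Fin.sum_univ_seven]
  rw [hsum]
  omega

/-- **The order of the group of matrices generated by x, y, t.** -/
theorem card_R : Nat.card R = 86775571046077562880 := by
  have h1 : 86775571046077562880 ∣ Nat.card R := Cfsg.Agent.J4.Dvd.dvd
  have h2 : Nat.card R ≤ 268070913 * (2 ^ 11 * 244823040) := card_H ▸ card_R_le
  obtain ⟨k, hk⟩ := h1
  have h3 : 0 < Nat.card R := Nat.card_pos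
  have h4 : k < 2 := by
    by_contra h
    push Not at h
    have : 86775571046077562880 * 2 ≤ Nat.card R := by rw [hk]; exact Nat.mul_le_mul_left _ h
    have h5 : 268070913 * (2 ^ 11 * 244823040) < 86775571046077562880 * 2 := by norm_num
    omega
  have h5 : k ≠ 0 := by
    intro h; rw [h] at hk; omega
  have h6 : k = 1 := by omega
  rw [hk, h6]

end Cfsg.Agent.J4M.Order
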