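import Cfsg.Agent.SporadicA.ChainCert
import Cfsg.Agent.J4M.Derive

/-!
Permutations of 24 points given by tables; lower bounds for the order of a two-generator group.
-/
set_option autoImplicit false

namespace Cfsg.Agent.J4M.PermTab

open Equiv Equiv.Perm Cfsg.Agent.SporadicA.DegPOne Cfsg.Agent.SporadicA.ChainCert
open Cfsg.Agent.J4M.Derive Cfsg.Agent.Lib.F2MatGroup

/-- the function of a table -/
def tabF (t : List ℕ) (x : ℕ) : ℕ := t.getD x 0

/-- a table of a permutation -/
def okTab (t : List ℕ) : Bool :=
  Nat.beq t.length 24 && (t.all fun x => Nat.ble (x + 1) 24) && decide t.Nodup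

open Classical in
/-- the permutation of a table -/
noncomputable def pOf (t : List ℕ) : Perm (Fin 24) :=
  if h : Function.Injective (fun i : Fin 24 => (Fin.ofNat 24 (tabF t i) : Fin 24)) then
    Equiv.ofBijective _ (Finite.injective_iff_bijective.mp h) else 1

theorem comp_pOf {t : List ℕ} (h : okTab t = true) : Comp (pOf t) (tabF t) := by
  rw [okTab, Bool.and_eq_true, Bool.and_eq_true, decide_eq_true_eq, List.all_eq_true] at h
  obtain ⟨⟨h1, h2⟩, h3⟩ := h
  have hlen : t.length = 24 := Nat.eq_of_beq_eq_true h1
  have hval : ∀ i : Fin 24, tabF t i = t[(i : ℕ)]'(by rw [hlen]; exact i.2) := by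
    intro i
    unfold tabF
    rw [List.getD_eq_getElem?_getD, List.getElem?_eq_getElem (by rw [hlen]; exact i.2),
      Option.getD_some]
  have hlt : ∀ i : Fin 24, tabF t i < 24 := by
    intro i
    rw [hval]
    exact Nat.le_of_ble_eq_true (h2 _ (List.getElem_mem _))
  have hinj : Function.Injective (fun i : Fin 24 => (Fin.ofNat 24 (tabF t i) : Fin 24)) := by
    intro i j hij
    have h4 : tabF t i = tabF t j := by
      have h5 := congrArg (fun z : Fin 24 => (z : ℕ)) hij
      simp only [Fin.val_ofNat] at h5
      rwa [Nat.mod_eq_of_lt (hlt i), Nat.mod_eq_of_lt (hlt j)] at h5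
    rw [hval, hval] at h4
    exact Fin.ext ((List.Nodup.getElem_inj_iff h3).mp h4)
  intro x
  unfold pOf
  rw [dif_pos hinj]
  show ((Fin.ofNat 24 (tabF t x) : Fin 24) : ℕ) = _
  rw [Fin.val_ofNat, Nat.mod_eq_of_lt (hlt x)]

theorem comp_all {T : List (List ℕ)} (h : T.all okTab = true) :
    List.Forall₂ Comp (T.map pOf) (T.map tabF) := by
  rw [List.all_eq_true] at h
  induction T with
  | nil => exact List.Forall₂.nil
  | cons t T ih =>
    exact List.Forall₂.cons (comp_pOf (h t (List.mem_cons_self ..)))
      (ih fun s hs => h s (List.mem_cons_of_mem _ hs))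

theorem evG_eq {gs : List (Perm (Fin 24))} (w : List ℕ) : evG gs w = evalP gs w := by
  induction w with
  | nil => rfl
  | cons i w ih => rw [evG_cons, ih]; rfl

/-- two words have the same value -/
def relOK (T : List (List ℕ)) (a b : List ℕ) : Bool :=
  (List.range 24).all fun x => Nat.beq (evalW (T.map tabF) a x) (evalW (T.map tabF) b x)

theorem comp_evG {T : List (List ℕ)} (hT : T.all okTab = true) (w : List ℕ) :
    Comp (evG (T.map pOf) w) (evalW (T.map tabF) w) := by
  rw [evG_eq]; exact comp_evalW (comp_all hT) w

theorem rel_sound {T : List (List ℕ)} (hT : T.all okTab = true) {a b : List ℕ}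
    (h : relOK T a b = true) : evG (T.map pOf) a = evG (T.map pOf) b := by
  ext x
  rw [comp_evG hT a x, comp_evG hT b x]
  exact Nat.eq_of_beq_eq_true (List.all_eq_true.mp h x (List.mem_range.mpr x.2))

/-- a word in the tables `T` has the table `t` -/
def tabOK (T : List (List ℕ)) (w : List ℕ) (t : List ℕ) : Bool :=
  (List.range 24).all fun x => Nat.beq (evalW (T.map tabF) w x) (tabF t x)

theorem tab_sound {T : List (List ℕ)} (hT : T.all okTab = true) {w t : List ℕ}
    (ht : okTab t = true) (h : tabOK T w t = true) : evG (T.map pOf) w = pOf t := by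
  ext x
  rw [comp_evG hT w x, comp_pOf ht x]
  exact Nat.eq_of_beq_eq_true (List.all_eq_true.mp h x (List.mem_range.mpr x.2))

/-- a lower bound for the order of a group of permutations generated by two elements -/
theorem chain_ge {a b : List ℕ} (T : List (List ℕ)) (ss : List Step)
    (c : List (ℕ × List (ℕ × List ℕ)))
    (hT : (a :: b :: T).all okTab = true)
    (hss : (ss.all fun s => relOK (a :: b :: T) s.eq.1 s.eq.2) = true)
    (hclose : closeB (2 ^ (T.length + 2) - 1) ss 3 = true)
    (hc : chainCheck 24 ((a :: b :: T).map tabF) [] c = true) :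
    chainProd c ≤ Nat.card (Subgroup.closure {pOf a, pOf b}) := by
  have hm : ∀ i, (2 ^ (T.length + 2) - 1).testBit i = true →
      getG ((a :: b :: T).map pOf) i ∈ Subgroup.closure {pOf a, pOf b} := by
    refine mem_of_steps _ _ (mask := 3) (ss := ss) ?_ ?_ hclose
    · intro s hs
      exact rel_sound hT (List.all_eq_true.mp hss s hs)
    · intro i hi
      have hi2 : i < 2 := by
        by_contra hk
        have : Nat.testBit 3 i = false :=
          Nat.testBit_lt_two_pow (lt_of_lt_of_le (by norm_num : 3 < 2 ^ 2)
            (Nat.pow_le_pow_right (by norm_num) (by omega)))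
        rw [this] at hi
        exact Bool.false_ne_true hi
      interval_cases i
      · exact Subgroup.subset_closure (by simp [getG])
      · exact Subgroup.subset_closure (by simp [getG])
  refine card_ge _ (gs := (a :: b :: T).map pOf) ?_ (comp_all hT) c hc
  intro g hg
  obtain ⟨i, hi, rfl⟩ := List.mem_iff_getElem.mp hg
  have hi' : i < T.length + 2 := by
    have := hi
    simp only [List.length_map, List.length_cons] at this
    omega
  have h := hm i (by
    rw [Nat.testBit_two_pow_sub_one]
    exact decide_eq_true hi')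
  unfold getG at h
  rwa [List.getD_eq_getElem?_getD, List.getElem?_eq_getElem hi, Option.getD_some] at h

/-! ### Transfer of orders along the graph of an isomorphism -/

theorem card_closure_eq {A B C : Type*} [Group A] [Group B] [Group C] (f : A →* B) (g : A →* C)
    (hf : Function.Injective f) (hg : Function.Injective g) {x y : B} {x' y' : C}
    (hx : (x, x') ∈ (f.prod g).range) (hy : (y, y') ∈ (f.prod g).range) :
    Nat.card (Subgroup.closure {x, y}) = Nat.card (Subgroup.closure {x', y'}) := by
  obtain ⟨a, ha⟩ := hx
  obtain ⟨b, hb⟩ := hy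
  obtain ⟨rfl, rfl⟩ := Prod.ext_iff.mp ha
  obtain ⟨rfl, rfl⟩ := Prod.ext_iff.mp hb
  have h1 : Subgroup.closure {f a, f b} = (Subgroup.closure {a, b}).map f := by
    rw [MonoidHom.map_closure, Set.image_pair]
  have h2 : Subgroup.closure {g a, g b} = (Subgroup.closure {a, b}).map g := by
    rw [MonoidHom.map_closure, Set.image_pair]
  show Nat.card (Subgroup.closure {f a, f b}) = Nat.card (Subgroup.closure {g a, g b})
  rw [h1, h2, Subgroup.card_map_of_injective hf, Subgroup.card_map_of_injective hg]

end Cfsg.Agent.J4M.PermTab
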