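import Cfsg.Agent.J4M.Base

/-!
The normal subgroup `Q` of `H`.
-/
set_option autoImplicit false

namespace Cfsg.Agent.J4M.QBase

open Cfsg.Agent.Lib Cfsg.Agent.Lib.F2MatGroup
open Cfsg.Agent.J4.Rep112 Cfsg.Agent.J4M.DBData Cfsg.Agent.J4M.Derive Cfsg.Agent.J4M.Words
open Cfsg.Agent.J4M.Checks Cfsg.Agent.J4M.Base

/-- the elementary abelian normal subgroup of `H` -/
noncomputable def Q : Subgroup GG := Subgroup.closure {q | q ∈ (List.range 11).map fun i => e (4 + i)}

theorem Q_def : Q = Subgroup.closure {q | q ∈ (List.range 11).map fun i => e (4 + i)} := rfl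

theorem sq_chk : (List.range 11).all (fun i => qrels.contains ([4 + i, 4 + i], [0])) = true := by
  decide +kernel

theorem comm_chk : (List.range 11).all (fun i => (List.range 11).all fun j =>
    (Nat.beq i j || qrels.contains ([4 + i, 4 + j], [4 + j, 4 + i])) ||
      qrels.contains ([4 + j, 4 + i], [4 + i, 4 + j])) = true := by
  decide +kernel

theorem qrel {a b : List ℕ} (h : (a, b) ∈ qrels) : ev a = ev b := ev_eq (qrels_ok _ h)

theorem qdep {a b : List ℕ} (h : (a, b) ∈ qdeps) : ev a = ev b := ev_eq (qdeps_ok _ h)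

theorem conj {a b : List ℕ} (h : (a, b) ∈ conjs) : ev a = ev b := ev_eq (conjs_ok _ h)

theorem e_sq1 {i : ℕ} (h1 : 4 ≤ i) (h2 : i < 15) : ([i, i], [0]) ∈ qrels := by
  obtain ⟨k, rfl⟩ := Nat.exists_eq_add_of_le h1
  have h := List.all_eq_true.mp sq_chk k (by rw [List.mem_range]; omega)
  rw [List.contains_iff_mem] at h
  exact h

theorem e_sq {i : ℕ} (h1 : 4 ≤ i) (h2 : i < 15) : e i * e i = 1 := by
  have h := qrel (e_sq1 h1 h2)
  rw [ev_cons, ev_cons, ev_cons, ev_nil, e0, mul_one, mul_one] at h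
  exact h

theorem e_comm1 {i j : ℕ} (h1 : 4 ≤ i) (h2 : i < 15) (h3 : 4 ≤ j) (h4 : j < 15) :
    i = j ∨ ([i, j], [j, i]) ∈ qrels ∨ ([j, i], [i, j]) ∈ qrels := by
  obtain ⟨k, rfl⟩ := Nat.exists_eq_add_of_le h1
  obtain ⟨l, rfl⟩ := Nat.exists_eq_add_of_le h3
  have h := List.all_eq_true.mp comm_chk k (by rw [List.mem_range]; omega)
  have h := List.all_eq_true.mp h l (by rw [List.mem_range]; omega)
  rw [Bool.or_eq_true, Bool.or_eq_true, List.contains_iff_mem, List.contains_iff_mem] at h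
  rcases h with (h | h) | h
  · exact Or.inl (by rw [Nat.eq_of_beq_eq_true h])
  · exact Or.inr (Or.inl h)
  · exact Or.inr (Or.inr h)

theorem e_comm {i j : ℕ} (h1 : 4 ≤ i) (h2 : i < 15) (h3 : 4 ≤ j) (h4 : j < 15) :
    e i * e j = e j * e i := by
  rcases e_comm1 h1 h2 h3 h4 with h | h | h
  · rw [h]
  · have h := qrel h
    rw [ev_cons, ev_cons, ev_cons, ev_cons, ev_nil, mul_one, mul_one] at h
    exact h
  · have h := qrel h
    rw [ev_cons, ev_cons, ev_cons, ev_cons, ev_nil, mul_one, mul_one] at h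
    exact h.symm

theorem Q_mem0 {i : ℕ} (h1 : 4 ≤ i) (h2 : i < 15) : e i ∈ Q := by
  obtain ⟨k, rfl⟩ := Nat.exists_eq_add_of_le h1
  exact TwoGroup.mem_closure_map (fun i => e (4 + i)) (by omega)

/-- mask of the generators of `Q` -/
def mQ : ℕ := 0b111111111110000

theorem mQ_mem : ∀ i, mQ.testBit i = true → e i ∈ Q := by
  intro i hi
  have h1 : i < 15 := testBit_lt (by decide) hi
  have h2 : ∀ i < 15, mQ.testBit i = true → 4 ≤ i := by decide
  exact Q_mem0 (h2 i h1 hi) h1

/-- the dependent generators as steps -/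
def qsteps : List Step := qdeps.map fun p => ⟨[], p.1.headD 0, [], p.2⟩

theorem qsteps_eq : qsteps.map Step.eq = qdeps := by decide +kernel

theorem Q_mem : ∀ i, mC.testBit i = true → e i ∈ Q := by
  refine mem_of_steps' Q (mask := mQ) (ss := qsteps) ?_ mQ_mem ?_
  · intro s hs
    have h : s.eq ∈ qdeps := by
      rw [← qsteps_eq]; exact List.mem_map_of_mem hs
    exact qdep h
  · decide +kernel

theorem ev_mem_Q {w : List ℕ} (h : allIn mC w = true) : ev w ∈ Q :=
  ev_mem Q fun i hi => Q_mem i (allIn_sound h i hi)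

theorem mH_chk : ∀ i < 11, mH.testBit (4 + i) = true := by decide +kernel

theorem Q_le_H : Q ≤ H := TwoGroup.closure_map_le _ fun i hi => H_mem _ (mH_chk i hi)

theorem norm_of_conj {g : GG} (h : ∀ i < 11, g * e (4 + i) * g⁻¹ ∈ Q) :
    g ∈ Subgroup.normalizer (Q : Set GG) :=
  TwoGroup.mem_normalizer_map (fun i => e (4 + i)) 11 h

/-- the word `b` without its last letter `k` -/
def strip (k : ℕ) (b : List ℕ) : Bool := Nat.beq (b.getLastD 0) k && allIn mC b.dropLast

theorem conj_chk : (List.range 2).all (fun k => (List.range 11).all fun i =>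
    conjs.any fun p => (p.1 == [k + 1, 4 + i]) && strip (k + 1) p.2 && !p.2.isEmpty) = true := by
  decide +kernel

theorem conj_Q1 {k : ℕ} (hk : k < 2) {i : ℕ} (h1 : 4 ≤ i) (h2 : i < 15) :
    ∃ w, ([k + 1, i], w ++ [k + 1]) ∈ conjs ∧ allIn mC w = true := by
  obtain ⟨l, rfl⟩ := Nat.exists_eq_add_of_le h1
  have h := List.all_eq_true.mp conj_chk k (by rw [List.mem_range]; omega)
  have h := List.all_eq_true.mp h l (by rw [List.mem_range]; omega)
  obtain ⟨p, hp, h⟩ := List.any_eq_true.mp h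
  rw [Bool.and_eq_true, Bool.and_eq_true, beq_iff_eq, strip, Bool.and_eq_true] at h
  obtain ⟨⟨h3, h4, h5⟩, h6⟩ := h
  have hne : p.2 ≠ [] := by
    intro he; rw [he] at h6; exact absurd h6 (by decide)
  refine ⟨p.2.dropLast, ?_, h5⟩
  have e4 : p.2 = p.2.dropLast ++ [k + 1] := by
    have h7 := List.dropLast_append_getLast hne
    have h8 : p.2.getLast hne = k + 1 := by
      have h9 := Nat.eq_of_beq_eq_true h4
      rw [List.getLastD_eq_getLast?, List.getLast?_eq_getLast_of_ne_nil hne] at h9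
      simpa using h9
    rw [h8] at h7
    exact h7.symm
  rw [← e4, ← h3]
  exact hp

theorem conj_Q {k : ℕ} (hk : k < 2) {i : ℕ} (h1 : 4 ≤ i) (h2 : i < 15) :
    e (k + 1) * e i * (e (k + 1))⁻¹ ∈ Q := by
  obtain ⟨w, hw, h5⟩ := conj_Q1 hk h1 h2
  have h := conj hw
  rw [ev_append, ev_cons, ev_cons, ev_cons, ev_nil, mul_one, mul_one] at h
  rw [h, mul_inv_cancel_right]
  exact ev_mem Q fun i hi => Q_mem i (allIn_sound h5 i hi)

theorem e1_norm : e 1 ∈ Subgroup.normalizer (Q : Set GG) :=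
  norm_of_conj fun i h => conj_Q (k := 0) (by norm_num) (by omega) (by omega)

theorem e2_norm : e 2 ∈ Subgroup.normalizer (Q : Set GG) :=
  norm_of_conj fun i h => conj_Q (k := 1) (by norm_num) (by omega) (by omega)

theorem M_norm : M ≤ Subgroup.normalizer (Q : Set GG) :=
  Cfsg.Agent.J4.GroupLemmas.closure_pair_le (e1 ▸ e1_norm) (e2 ▸ e2_norm)

theorem H_eq : H = Q ⊔ M :=
  TwoGroup.closure_triple_eq rfl (Q_mem0 (by norm_num) (by norm_num)) Q_le_H

theorem H_norm : H ≤ Subgroup.normalizer (Q : Set GG) := by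
  rw [H_eq]
  exact sup_le Subgroup.le_normalizer M_norm

theorem card_Q_le : Nat.card Q ≤ 2 ^ 11 :=
  TwoGroup.card_closure_map_le _ _ (fun i hi => e_sq (by omega) (by omega))
    fun i hi j hj => e_comm (by omega) (by omega) (by omega) (by omega)

end Cfsg.Agent.J4M.QBase
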